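import Mathlib

/-!
# Elementary tools for finite simple groups of small order

* a proper subgroup of index `n` of a non-abelian simple group gives an embedding in `A_n`;
* Sylow numbers of simple groups, Burnside's transfer test;
* counting lemmas for conjugates.
-/

set_option linter.style.haveILetI false

namespace Cfsg.Agent.SmallSimple.Basic

open Subgroup MulAction

variable {G : Type*} [Group G]

/-! ## Simple groups -/

theorem not_comm_of_not_prime [Finite G] [IsSimpleGroup G] (h : ¬ (Nat.card G).Prime) :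
    ¬ IsMulCommutative G := by
  intro hc
  letI : CommGroup G := { ‹Group G› with mul_comm := fun a b => mul_comm' a b }
  exact h IsSimpleGroup.prime_card

theorem center_eq_bot [IsSimpleGroup G] (hG : ¬ IsMulCommutative G) : Subgroup.center G = ⊥ := by
  rcases (inferInstance : (Subgroup.center G).Normal).eq_bot_or_eq_top with h | h
  · exact h
  · exact absurd ⟨⟨fun a b => ((Subgroup.mem_center_iff.1 (h ▸ mem_top a)) b).symm⟩⟩ hG

theorem toPermHom_injective [IsSimpleGroup G] (H : Subgroup G) (hH : H ≠ ⊤) :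
    Function.Injective (MulAction.toPermHom G (G ⧸ H)) := by
  rw [← MonoidHom.ker_eq_bot_iff, ← normalCore_eq_ker]
  rcases (normalCore_normal H).eq_bot_or_eq_top with h | h
  · exact h
  · exact absurd (top_le_iff.1 (h ▸ normalCore_le H)) hH

/-- A homomorphism from a non-abelian simple group to an abelian group is trivial. -/
theorem hom_eq_one [IsSimpleGroup G] (hG : ¬ IsMulCommutative G) {A : Type*} [CommGroup A]
    (f : G →* A) (g : G) : f g = 1 := by
  rcases f.normal_ker.eq_bot_or_eq_top with h | h
  · refine absurd ⟨⟨fun a b => ?_⟩⟩ hG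
    exact (MonoidHom.ker_eq_bot_iff f).1 h (by rw [map_mul, map_mul, mul_comm])
  · exact MonoidHom.mem_ker.1 (h ▸ mem_top g)

theorem sign_eq_one [IsSimpleGroup G] (hG : ¬ IsMulCommutative G) {α : Type*} [Fintype α]
    [DecidableEq α] (f : G →* Equiv.Perm α) (g : G) : Equiv.Perm.sign (f g) = 1 :=
  hom_eq_one hG (Equiv.Perm.sign.comp f) g

/-- A non-abelian simple group with a proper subgroup of index `n` embeds in `A_n`. -/
theorem exists_alternating_embedding [Finite G] [IsSimpleGroup G] (hG : ¬ IsMulCommutative G)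
    (H : Subgroup G) (hH : H ≠ ⊤) :
    ∃ f : G →* ↥(alternatingGroup (Fin H.index)), Function.Injective f := by
  classical
  let e : G ⧸ H ≃ Fin H.index := Finite.equivFin (G ⧸ H)
  let f : G →* Equiv.Perm (Fin H.index) :=
    e.permCongrHom.toMonoidHom.comp (MulAction.toPermHom G (G ⧸ H))
  have hf : Function.Injective f :=
    e.permCongrHom.injective.comp (toPermHom_injective H hH)
  refine ⟨f.codRestrict _ (fun g => Equiv.Perm.mem_alternatingGroup.2 (sign_eq_one hG f g)),
    fun a b hab => hf ?_⟩
  exact congrArg Subtype.val hab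

theorem two_mul_card_dvd_factorial [Finite G] [IsSimpleGroup G] (hG : ¬ IsMulCommutative G)
    (H : Subgroup G) (hH : H ≠ ⊤) : 2 * Nat.card G ∣ H.index.factorial := by
  obtain ⟨f, hf⟩ := exists_alternating_embedding hG H hH
  have h1 : 1 < H.index := Nat.lt_of_le_of_ne (Nat.one_le_iff_ne_zero.2 H.index_ne_zero_of_finite)
    (fun h => hH (index_eq_one.1 h.symm))
  haveI : Nontrivial (Fin H.index) := Fin.nontrivial_iff_two_le.2 h1
  have h2 : 2 * Nat.card (alternatingGroup (Fin H.index)) = H.index.factorial := by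
    rw [two_mul_nat_card_alternatingGroup, Nat.card_perm, Nat.card_fin]
  exact h2 ▸ mul_dvd_mul_left 2 (Subgroup.card_dvd_of_injective f hf)

/-! ## Sylow subgroups of simple groups -/

section Sylow

variable [Finite G] {p : ℕ} [Fact p.Prime]

theorem card_sylow_eq (P : Sylow p G) : Nat.card (P : Subgroup G) = p ^ (Nat.card G).factorization p :=
  P.card_eq_multiplicity

theorem card_sylow_eq_pow {a m : ℕ} (h : Nat.card G = p ^ a * m) (hm : ¬ p ∣ m) (P : Sylow p G) :
    Nat.card (P : Subgroup G) = p ^ a := by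
  rw [card_sylow_eq P, h]
  have hp : p.Prime := Fact.out
  have hm0 : m ≠ 0 := by rintro rfl; exact hm (dvd_zero p)
  rw [Nat.factorization_mul (pow_ne_zero _ hp.ne_zero) hm0, Finsupp.add_apply,
    hp.factorization_pow, Nat.factorization_eq_zero_of_not_dvd hm]
  simp

theorem card_normalizer_mul (P : Sylow p G) :
    Nat.card (normalizer ((P : Subgroup G) : Set G)) * Nat.card (Sylow p G) = Nat.card G := by
  rw [P.card_eq_index_normalizer]
  exact card_mul_index _

omit [Finite G] [Fact p.Prime] in
theorem sylow_dvd_normalizer (P : Sylow p G) :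
    Nat.card (P : Subgroup G) ∣ Nat.card (normalizer ((P : Subgroup G) : Set G)) :=
  card_dvd_of_le le_normalizer

theorem sylow_ne_top [IsSimpleGroup G] (hG : ¬ IsMulCommutative G) (P : Sylow p G) :
    (P : Subgroup G) ≠ ⊤ := by
  intro h
  haveI : Nontrivial G := inferInstance
  have hpG : IsPGroup p G := IsPGroup.iff_card.2 ⟨_, by rw [← card_sylow_eq P, h, card_top]⟩
  haveI := hpG.center_nontrivial
  exact not_nontrivial_iff_subsingleton.2 (by rw [center_eq_bot hG]; infer_instance)
    ‹Nontrivial (Subgroup.center G)›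

theorem sylow_ne_bot (hp : p ∣ Nat.card G) (P : Sylow p G) : (P : Subgroup G) ≠ ⊥ :=
  P.ne_bot_of_dvd_card hp

theorem sylow_not_normal [IsSimpleGroup G] (hG : ¬ IsMulCommutative G) (hp : p ∣ Nat.card G)
    (P : Sylow p G) : ¬ (P : Subgroup G).Normal := fun h =>
  h.eq_bot_or_eq_top.elim (sylow_ne_bot hp P) (sylow_ne_top hG P)

theorem normalizer_ne_top [IsSimpleGroup G] (hG : ¬ IsMulCommutative G) (hp : p ∣ Nat.card G)
    (P : Sylow p G) : normalizer ((P : Subgroup G) : Set G) ≠ ⊤ := fun h =>
  sylow_not_normal hG hp P (normalizer_eq_top_iff.1 h)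

theorem one_lt_card_sylow [IsSimpleGroup G] (hG : ¬ IsMulCommutative G) (hp : p ∣ Nat.card G) :
    1 < Nat.card (Sylow p G) := by
  by_contra h
  have P : Sylow p G := default
  have : Subsingleton (Sylow p G) := Finite.card_le_one_iff_subsingleton.1 (not_lt.1 h)
  exact sylow_not_normal hG hp P (Sylow.normal_of_subsingleton P)

theorem two_mul_card_dvd_factorial_sylow [IsSimpleGroup G] (hG : ¬ IsMulCommutative G)
    (hp : p ∣ Nat.card G) : 2 * Nat.card G ∣ (Nat.card (Sylow p G)).factorial := by
  have P : Sylow p G := default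
  rw [P.card_eq_index_normalizer]
  exact two_mul_card_dvd_factorial hG _ (normalizer_ne_top hG hp P)

/-- Burnside's transfer theorem for simple groups. -/
theorem not_normalizer_le_centralizer [IsSimpleGroup G] (hG : ¬ IsMulCommutative G)
    (hp : p ∣ Nat.card G) (P : Sylow p G) :
    ¬ normalizer ((P : Subgroup G) : Set G) ≤ centralizer ((P : Subgroup G) : Set G) := by
  intro h
  have hc := MonoidHom.ker_transferSylow_isComplement' P h
  rcases (MonoidHom.transferSylow P h).normal_ker.eq_bot_or_eq_top with hk | hk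
  · rw [hk] at hc
    exact sylow_ne_top hG P (isComplement'_bot_left.1 hc)
  · rw [hk] at hc
    exact sylow_ne_bot hp P (isComplement'_top_left.1 hc)

/-- The Sylow number of a simple group, with the standard restrictions. -/
theorem sylow_count [IsSimpleGroup G] (hG : ¬ IsMulCommutative G) (hp : p ∣ Nat.card G)
    {a m : ℕ} (h : Nat.card G = p ^ a * m) (hm : ¬ p ∣ m) :
    Nat.card (Sylow p G) ∣ m ∧ Nat.card (Sylow p G) % p = 1 ∧ 1 < Nat.card (Sylow p G) ∧
      2 * Nat.card G ∣ (Nat.card (Sylow p G)).factorial := by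
  have hpp : p.Prime := Fact.out
  refine ⟨?_, ?_, one_lt_card_sylow hG hp, two_mul_card_dvd_factorial_sylow hG hp⟩
  · have P : Sylow p G := default
    have h1 := P.card_dvd_index
    have h2 := card_mul_index (P : Subgroup G)
    rw [card_sylow_eq_pow h hm P, h] at h2
    rwa [Nat.eq_of_mul_eq_mul_left (pow_pos hpp.pos a) h2] at h1
  · have := card_sylow_modEq_one p G
    rwa [Nat.ModEq, Nat.one_mod_eq_one.2 hpp.ne_one] at this

end Sylow

/-! ## Conjugate counting -/

theorem card_conjugating_eq_centralizer {x y : G} (h : IsConj x y) :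
    Nat.card {g : G // g * x * g⁻¹ = y} = Nat.card (centralizer ({x} : Set G)) := by
  obtain ⟨c, rfl⟩ := isConj_iff.1 h
  refine Nat.card_congr ((Equiv.mulLeft c⁻¹).subtypeEquiv fun g => ?_)
  rw [mem_centralizer_singleton_iff, Equiv.coe_mulLeft]
  constructor
  · intro hg
    calc c⁻¹ * g * x = c⁻¹ * (g * x * g⁻¹) * g := by group
      _ = c⁻¹ * (c * x * c⁻¹) * g := by rw [hg]
      _ = x * (c⁻¹ * g) := by group
  · intro hg
    calc g * x * g⁻¹ = c * (c⁻¹ * g * x) * g⁻¹ := by group
      _ = c * (x * (c⁻¹ * g)) * g⁻¹ := by rw [hg]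
      _ = c * x * c⁻¹ := by group

/-- `#{g | Q (g x g⁻¹)} = |C(x)| * #{conjugates of x satisfying Q}`. -/
theorem card_conjugating [Finite G] (x : G) (Q : G → Prop) :
    Nat.card {g : G // Q (g * x * g⁻¹)} =
      Nat.card (centralizer ({x} : Set G)) * Nat.card {y : G // IsConj x y ∧ Q y} := by
  classical
  haveI := Fintype.ofFinite {y : G // IsConj x y ∧ Q y}
  let e : {g : G // Q (g * x * g⁻¹)} ≃
      Σ y : {y : G // IsConj x y ∧ Q y}, {g : G // g * x * g⁻¹ = (y : G)} :=
    { toFun := fun g => ⟨⟨g.1 * x * g.1⁻¹, isConj_iff.2 ⟨g.1, rfl⟩, g.2⟩, ⟨g.1, rfl⟩⟩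
      invFun := fun s => ⟨s.2.1, by rw [s.2.2]; exact s.1.2.2⟩
      left_inv := fun g => rfl
      right_inv := fun s => Sigma.subtype_ext (Subtype.ext s.2.2) rfl }
  rw [Nat.card_congr e, Nat.card_sigma]
  simp only [fun y : {y : G // IsConj x y ∧ Q y} => card_conjugating_eq_centralizer y.2.1]
  rw [Finset.sum_const, Finset.card_univ, smul_eq_mul,
    Nat.card_eq_fintype_card (α := {y : G // IsConj x y ∧ Q y}), mul_comm]

theorem card_centralizer_mul_card_class [Finite G] (x : G) :
    Nat.card (centralizer ({x} : Set G)) * Nat.card {y : G // IsConj x y} = Nat.card G := by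
  have := card_conjugating x (fun _ => True)
  rw [Nat.card_congr (Equiv.subtypeUnivEquiv (fun _ => trivial)),
    Nat.card_congr (Equiv.subtypeEquivRight (p := fun y : G => IsConj x y ∧ True)
      (q := fun y : G => IsConj x y) (fun y => by simp))] at this
  exact this.symm

end Cfsg.Agent.SmallSimple.Basic
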