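import Mathlib
import Cfsg.Agent.Lib.SmallSimple.Basic

/-!
# Elements centralising a Sylow subgroup of prime order in a small simple group

* an element of order prime to `p` commuting with a `p`-cycle fixes every point of the cycle;
* a subgroup of index at most `p + 2` leaves no room for an element of order prime to `p`
  centralising an element of order `p`;
* if `q ∣ n_p` and `C(P)` is `P` times a large enough `q`-group, some non-trivial `q`-element
  centralises all of `C(P)` and a second Sylow `p`-subgroup.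
-/

set_option linter.style.haveILetI false

namespace Cfsg.Agent.SmallSimple.Centralize

open Subgroup MulAction

section Orbit

variable {α : Type*}

/-- A permutation of order prime to `p` commuting with `σ` of order `p` fixes every point that it
moves only inside its `σ`-cycle. -/
theorem fixed_of_sameCycle {p : ℕ} {σ τ : Equiv.Perm α} (hσ : σ ^ p = 1) (hc : Commute σ τ)
    {m : ℕ} (hτ : τ ^ m = 1) (hcop : Nat.Coprime m p) {v : α} {k : ℤ} (hk : (σ ^ k) v = τ v) :
    τ v = v := by
  have hpow : ∀ j : ℕ, (τ ^ j) v = (σ ^ (k * j)) v := by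
    intro j
    induction j with
    | zero => simp
    | succ j ih =>
      rw [pow_succ, Equiv.Perm.mul_apply, ← hk, ← Equiv.Perm.mul_apply,
        ((hc.zpow_left k).pow_right j).eq.symm, Equiv.Perm.mul_apply, ih, ← Equiv.Perm.mul_apply,
        ← zpow_add]
      congr 2
      push_cast
      ring
  have hm : (σ ^ (k * (m : ℤ))) v = v := by rw [← hpow, hτ]; rfl
  have hp : (σ ^ (k * (p : ℤ))) v = v := by
    rw [mul_comm, zpow_mul, zpow_natCast, hσ, one_zpow]; rfl
  obtain ⟨a, b, hab⟩ : IsCoprime (m : ℤ) (p : ℤ) := Int.isCoprime_iff_nat_coprime.2 (by simpa using hcop)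
  have hfix : ∀ (i j : ℤ), (σ ^ i) v = v → (σ ^ (i * j)) v = v := by
    intro i j hi
    have hmem : σ ^ i ∈ MulAction.stabilizer (Equiv.Perm α) v := hi
    have := Subgroup.zpow_mem _ hmem j
    rw [← zpow_mul] at this
    exact this
  rw [← hk]
  have e : k = k * (m : ℤ) * a + k * (p : ℤ) * b := by
    calc k = k * 1 := (mul_one k).symm
      _ = k * (a * m + b * p) := by rw [hab]
      _ = _ := by ring
  rw [e, zpow_add, Equiv.Perm.mul_apply, hfix _ b hp, hfix _ a hm]

end Orbit

variable {G : Type*} [Group G]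

/-- A simple group with a subgroup of index `n ≤ p + 2` has no non-trivial element of order prime
to `p` commuting with an element of order `p`. -/
theorem eq_one_of_index_le [Finite G] [IsSimpleGroup G] (hG : ¬ IsMulCommutative G) {p : ℕ}
    [Fact p.Prime] (hp : 3 ≤ p) (H : Subgroup G) (hH : H ≠ ⊤) (hidx : H.index ≤ p + 2) {x z : G}
    (hx : orderOf x = p) (hc : Commute x z) (hz : Nat.Coprime (orderOf z) p) : z = 1 := by
  classical
  obtain ⟨f, hf⟩ := Basic.exists_alternating_embedding hG H hH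
  set σ : Equiv.Perm (Fin H.index) := (f x : Equiv.Perm (Fin H.index))
  set τ : Equiv.Perm (Fin H.index) := (f z : Equiv.Perm (Fin H.index))
  have hσo : orderOf σ = p := by
    rw [show σ = ((alternatingGroup (Fin H.index)).subtype.comp f) x from rfl,
      orderOf_injective _ (by exact (Subgroup.subtype_injective _).comp hf), hx]
  have hpp : p.Prime := Fact.out
  have hcyc : σ.IsCycle := by
    refine Equiv.Perm.isCycle_of_prime_order' (hσo ▸ hpp) ?_
    rw [hσo, Fintype.card_fin]; omega
  have hsupp : σ.support.card = p := hcyc.orderOf ▸ hσo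
  have hcomm : Commute σ τ := congrArg Subtype.val (hc.map f).eq
  have hτm : τ ^ orderOf z = 1 := by
    rw [show τ = ((alternatingGroup (Fin H.index)).subtype.comp f) z from rfl, ← map_pow,
      pow_orderOf_eq_one, map_one]
  have hfix : ∀ v ∈ σ.support, τ v = v := by
    intro v hv
    have hv' : σ v ≠ v := Equiv.Perm.mem_support.1 hv
    have hmoved : σ (τ v) ≠ τ v := fun h => hv' (τ.injective (by
      rw [← Equiv.Perm.mul_apply, ← hcomm.eq, Equiv.Perm.mul_apply, h]))
    obtain ⟨k, hk⟩ := hcyc.sameCycle hv' hmoved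
    exact fixed_of_sameCycle (hσo ▸ pow_orderOf_eq_one σ) hcomm hτm hz hk
  have hsub : τ.support ⊆ σ.supportᶜ := fun v hv => Finset.mem_compl.2 fun h =>
    Equiv.Perm.mem_support.1 hv (hfix v h)
  have h2 : τ.support.card ≤ 2 := by
    refine (Finset.card_le_card hsub).trans ?_
    rw [Finset.card_compl, Fintype.card_fin, hsupp]; omega
  by_contra hne
  have hτ1 : τ ≠ 1 := fun h => hne (hf (by rw [map_one]; exact Subtype.ext h))
  have h2' : τ.support.card = 2 :=
    le_antisymm h2 (Equiv.Perm.two_le_card_support_of_ne_one hτ1)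
  have hs : Equiv.Perm.sign τ = -1 := (Equiv.Perm.card_support_eq_two.1 h2').sign_eq
  have ha : Equiv.Perm.sign τ = 1 := (f z).2
  rw [ha] at hs
  exact absurd hs (by decide)

variable {p : ℕ} [Fact p.Prime]

theorem sylow_le_iff_mem [Finite G] {P : Sylow p G} {x : G} (hx : x ∈ (P : Subgroup G)) (hx1 : x ≠ 1)
    (hP : Nat.card (P : Subgroup G) = p) : zpowers x = (P : Subgroup G) := by
  refine eq_of_le_of_card_ge (zpowers_le.2 hx) ?_
  rw [Nat.card_zpowers, hP]
  have hd := orderOf_dvd_natCard (⟨x, hx⟩ : (P : Subgroup G))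
  rw [hP] at hd
  rw [Subgroup.orderOf_mk] at hd
  rcases (Nat.dvd_prime (Fact.out : p.Prime)).1 hd with h | h
  · exact absurd (orderOf_eq_one_iff.1 h) hx1
  · exact h.ge

/-- If `q ∣ n_p`, `|C(P)| = p q^a` and `q^a ∤ [N(P):C(P)]`, then a non-trivial `q`-element `z`
centralises `C(P)` and has two Sylow `p`-subgroups in its centraliser. -/
theorem exists_central_two_sylows [Finite G] {q a : ℕ} [Fact q.Prime] (hqp : q ≠ p)
    (hn : q ∣ Nat.card (Sylow p G)) (P : Sylow p G) (hP : Nat.card (P : Subgroup G) = p)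
    (hC : Nat.card (centralizer ((P : Subgroup G) : Set G)) = p * q ^ a)
    (hNC : ∀ P' : Sylow p G, ¬ q ^ a ∣
      (centralizer ((P' : Subgroup G) : Set G)).relIndex (normalizer ((P' : Subgroup G) : Set G))) :
    ∃ z : G, z ≠ 1 ∧ Nat.Coprime (orderOf z) p ∧
      centralizer ((P : Subgroup G) : Set G) ≤ centralizer ({z} : Set G) ∧
      ∃ P' : Sylow p G, P' ≠ P ∧ (P' : Subgroup G) ≤ centralizer ({z} : Set G) := by
  classical
  set C := centralizer ((P : Subgroup G) : Set G) with hCdef
  have hpp : p.Prime := Fact.out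
  have hqq : q.Prime := Fact.out
  have hcop : Nat.Coprime p q := (Nat.coprime_primes hpp hqq).2 hqp.symm
  obtain ⟨R₀⟩ : Nonempty (Sylow q C) := inferInstance
  have hR₀ : Nat.card (R₀ : Subgroup C) = q ^ a :=
    Basic.card_sylow_eq_pow (by rw [hC, mul_comm]) (fun h => hqp ((Nat.prime_dvd_prime_iff_eq hqq hpp).1 h)) R₀
  set R : Subgroup G := (R₀ : Subgroup C).map C.subtype with hRdef
  have hRC : R ≤ C := map_subtype_le _
  have hRp : IsPGroup q R := R₀.isPGroup'.map _
  have hR : Nat.card R = q ^ a := by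
    rw [hRdef, card_map_of_injective C.subtype_injective, hR₀]
  haveI : Group.IsNilpotent R := hRp.isNilpotent
  haveI hPcyc : IsCyclic (P : Subgroup G) := isCyclic_of_prime_card hP
  have hPC : (P : Subgroup G) ≤ C := le_centralizer _
  have hsup : (P : Subgroup G) ⊔ R = C := by
    refine eq_of_le_of_card_ge (sup_le hPC hRC) ?_
    have h1 : p ∣ Nat.card ↥((P : Subgroup G) ⊔ R) := by
      have := card_dvd_of_le (le_sup_left : (P : Subgroup G) ≤ (P : Subgroup G) ⊔ R)
      rwa [hP] at this
    have h2 : q ^ a ∣ Nat.card ↥((P : Subgroup G) ⊔ R) := hR ▸ card_dvd_of_le le_sup_right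
    rw [hC]
    exact Nat.le_of_dvd Nat.card_pos ((hcop.pow_right a).mul_dvd_of_dvd_of_dvd h1 h2)
  have hPR : (P : Sylow p G) ∈ fixedPoints R (Sylow p G) := fun r =>
    Sylow.smul_eq_iff_mem_normalizer.2 (centralizer_le_normalizer _ (hRC r.2))
  obtain ⟨P', hP'fix, hP'ne⟩ : ∃ P' ∈ fixedPoints R (Sylow p G), P' ≠ P := by
    obtain ⟨b, hb, hne⟩ := hRp.exists_fixed_point_of_prime_dvd_card_of_fixed_point (Sylow p G) hn hPR
    exact ⟨b, hb, hne.symm⟩
  set C' := centralizer ((P' : Subgroup G) : Set G) with hC'def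
  set N' := normalizer ((P' : Subgroup G) : Set G) with hN'def
  have hRN : R ≤ N' := fun r hr =>
    Sylow.smul_eq_iff_mem_normalizer.1 (hP'fix ⟨r, hr⟩)
  haveI : (C'.subgroupOf N').Normal := by
    refine ⟨fun c hc n => mem_subgroupOf.2 (mem_centralizer_iff.2 fun y hy => ?_)⟩
    have hy' : (n : G)⁻¹ * y * (n : G) ∈ (P' : Subgroup G) :=
      (mem_normalizer_iff''.1 n.2 y).1 hy
    have h := mem_centralizer_iff.1 (mem_subgroupOf.1 hc) _ hy'
    simp only [coe_mul, InvMemClass.coe_inv]
    calc y * ((n : G) * c * (n : G)⁻¹) = (n : G) * ((n : G)⁻¹ * y * n * c) * (n : G)⁻¹ := by group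
      _ = (n : G) * (c * ((n : G)⁻¹ * y * n)) * (n : G)⁻¹ := by rw [h]
      _ = (n : G) * c * (n : G)⁻¹ * y := by group
  set K : Subgroup R := C'.subgroupOf R with hKdef
  have hK1 : K ≠ ⊥ := by
    intro hK
    refine hNC P' ?_
    have h1 : C'.relIndex R = q ^ a := by
      rw [relIndex, ← hKdef, hK, index_bot, hR]
    rw [← h1, ← hN'def, ← hC'def, ← relIndex_subgroupOf hRN]
    exact relIndex_dvd_index_of_normal _ _
  haveI : K.Normal := by
    refine ⟨fun k hk r => ?_⟩
    rw [hKdef, mem_subgroupOf] at hk ⊢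
    have := (‹(C'.subgroupOf N').Normal›).conj_mem ⟨(k : G), hRN k.2⟩ hk ⟨(r : G), hRN r.2⟩
    simpa [mem_subgroupOf] using this
  have hKc : K ⊓ Subgroup.center R ≠ ⊥ := by
    intro h
    haveI : IsPGroup q R := hRp
    obtain ⟨z, hz, hz1⟩ : ∃ z ∈ K ⊓ Subgroup.center R, z ≠ 1 := by
      have hKp : q ∣ Nat.card K := by
        obtain ⟨n, hn⟩ := IsPGroup.iff_card.1 (hRp.to_subgroup K)
        cases n with
        | zero => exact absurd (card_eq_one.1 (by simpa using hn)) hK1
        | succ n => rw [hn]; exact dvd_pow_self q (Nat.succ_ne_zero n)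
      have hone : (1 : K) ∈ fixedPoints (ConjAct R) K := fun r => smul_one r
      obtain ⟨b, hb, hne⟩ :=
        (show IsPGroup q (ConjAct R) from hRp).exists_fixed_point_of_prime_dvd_card_of_fixed_point K hKp hone
      refine ⟨b, ⟨b.2, Subgroup.mem_center_iff.2 fun r => ?_⟩, fun e => hne (Subtype.ext e.symm)⟩
      have := congrArg Subtype.val (hb (ConjAct.toConjAct r))
      replace this : r * (b : R) * r⁻¹ = b := this
      exact mul_inv_eq_iff_eq_mul.1 this
    exact hz1 (Subgroup.mem_bot.1 (h ▸ hz))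
  obtain ⟨⟨z, hzR⟩, hzmem, hz1⟩ : ∃ z ∈ K ⊓ Subgroup.center R, z ≠ 1 := by
    obtain ⟨⟨z, hz⟩, hne⟩ := (ne_bot_iff_exists_ne_one).1 hKc
    exact ⟨z, hz, fun e => hne (Subtype.ext e)⟩
  refine ⟨z, fun e => hz1 (Subtype.ext e), ?_, ?_, P', hP'ne, ?_⟩
  · obtain ⟨k, hk⟩ := IsPGroup.iff_orderOf.1 hRp ⟨z, hzR⟩
    rw [Subgroup.orderOf_mk] at hk
    rw [hk]; exact hcop.symm.pow_left k
  · rw [← hsup]
    refine sup_le (fun y hy => ?_) (fun y hy => ?_)
    · exact mem_centralizer_singleton_iff.2 ((mem_centralizer_iff.1 (hRC hzR)) y hy)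
    · exact mem_centralizer_singleton_iff.2
        (congrArg Subtype.val (Subgroup.mem_center_iff.1 hzmem.2 ⟨y, hy⟩))
  · intro y hy
    exact mem_centralizer_singleton_iff.2 ((mem_centralizer_iff.1 (mem_subgroupOf.1 hzmem.1)) y hy)

/-- A proper subgroup `H` containing `C(P)` and two Sylow `p`-subgroups of `G` (of order `p`). -/
theorem shape_of_two_sylows [Finite G] [IsSimpleGroup G]
    (P P' : Sylow p G) (hne : P' ≠ P) (H : Subgroup G) (hH : H ≠ ⊤)
    (hC : centralizer ((P : Subgroup G) : Set G) ≤ H) (hP' : (P' : Subgroup G) ≤ H)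
    (hP : Nat.card (P : Subgroup G) = p) :
    ∃ n m : ℕ, Nat.card H = n * m ∧ n % p = 1 ∧ 1 < n ∧ n < Nat.card (Sylow p G) ∧
      Nat.card (centralizer ((P : Subgroup G) : Set G)) ∣ m ∧
      m ∣ Nat.card (normalizer ((P : Subgroup G) : Set G)) ∧ H.index * (n * m) = Nat.card G := by
  classical
  haveI : IsCyclic (P : Subgroup G) := isCyclic_of_prime_card hP
  have hPH : (P : Subgroup G) ≤ H := (le_centralizer _).trans hC
  set Q : Sylow p H := P.subtype hPH with hQ
  set M := normalizer ((Q : Subgroup H) : Set H) with hM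
  have hsub : ∀ R : Sylow p G, (hR : (R : Subgroup G) ≤ H) →
      ∀ x : H, x ∈ (R.subtype hR : Subgroup H) ↔ (x : G) ∈ (R : Subgroup G) := fun R hR x => by
    rw [Sylow.coe_subtype, mem_subgroupOf]
  refine ⟨Nat.card (Sylow p H), Nat.card M, ?_, ?_, ?_, ?_, ?_, ?_, ?_⟩
  · rw [← Basic.card_normalizer_mul Q, mul_comm]
  · have := card_sylow_modEq_one p H
    rwa [Nat.ModEq, Nat.one_mod_eq_one.2 (Fact.out : p.Prime).ne_one] at this
  · refine Finite.one_lt_card_iff_nontrivial.2 ⟨⟨Q, P'.subtype hP', fun h => hne ?_⟩⟩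
    refine Sylow.ext (le_antisymm (fun x hx => ?_) fun x hx => ?_)
    · exact (hsub P hPH ⟨x, hP' hx⟩).1 (by rw [← hQ, h]; exact (hsub P' hP' _).2 hx)
    · exact (hsub P' hP' ⟨x, hPH hx⟩).1 (by rw [← h]; exact (hsub P hPH _).2 hx)
  · -- all Sylow subgroups inside `H` would generate a normal subgroup
    by_contra hlt
    refine hH (top_le_iff.1 ?_)
    have hinj : ∀ R : Sylow p H, ∃ S : Sylow p G, (R : Subgroup H) = (S : Subgroup G).comap H.subtype :=
      fun R => (Sylow.exists_comap_subtype_eq R).imp fun _ h => h.symm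
    choose f hf using hinj
    have hfi : Function.Injective f := fun a b hab => Sylow.ext (by rw [hf a, hf b, hab])
    have hbij : Function.Bijective f := hfi.bijective_of_nat_card_le (not_lt.1 hlt)
    have hall : ∀ S : Sylow p G, (S : Subgroup G) ≤ H := by
      intro S
      obtain ⟨R, rfl⟩ := hbij.2 S
      have hcardR : Nat.card (R : Subgroup H) = p := by
        rw [R.card_eq_multiplicity, ← Q.card_eq_multiplicity, hQ, Sylow.coe_subtype,
          Nat.card_congr (subgroupOfEquivOfLe hPH).toEquiv, hP]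
      have hle : (R : Subgroup H).map H.subtype ≤ (f R : Subgroup G) := by
        rw [hf R]; exact map_comap_le _ _
      have heq := eq_of_le_of_card_ge hle (by
        rw [card_map_of_injective H.subtype_injective, hcardR, (f R).card_eq_multiplicity,
          ← P.card_eq_multiplicity, hP])
      exact heq ▸ map_subtype_le _
    have hn : (⨆ S : Sylow p G, (S : Subgroup G)).Normal := by
      refine ⟨fun x hx g => ?_⟩
      have hle : (⨆ S : Sylow p G, (S : Subgroup G)).map (MulAut.conj g).toMonoidHom ≤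
          ⨆ S : Sylow p G, (S : Subgroup G) := by
        rw [Subgroup.map_iSup]
        exact iSup_le fun S => le_iSup_of_le (g • S) (le_of_eq rfl)
      exact hle ⟨x, hx, rfl⟩
    rcases hn.eq_bot_or_eq_top with h | h
    · have : (P : Subgroup G) = ⊥ := le_bot_iff.1 (h ▸ le_iSup (fun S : Sylow p G => (S : Subgroup G)) P)
      rw [this, card_bot] at hP
      exact absurd hP.symm (Fact.out : p.Prime).ne_one
    · exact h ▸ iSup_le hall
  · have hle : (centralizer ((P : Subgroup G) : Set G)).subgroupOf H ≤ M := fun x hx =>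
      mem_normalizer_iff.2 fun y => by
        rw [hQ, hsub P hPH, hsub P hPH]
        exact mem_normalizer_iff.1 (centralizer_le_normalizer _ (mem_subgroupOf.1 hx)) y
    have := card_dvd_of_le hle
    rwa [Nat.card_congr (subgroupOfEquivOfLe hC).toEquiv] at this
  · rw [← card_map_of_injective (K := M) H.subtype_injective]
    refine card_dvd_of_le ?_
    rintro _ ⟨x, hx, rfl⟩
    refine mem_normalizer_iff.2 fun y => ?_
    by_cases hy : y ∈ H
    · have := mem_normalizer_iff.1 hx ⟨y, hy⟩
      rw [hQ, hsub P hPH, hsub P hPH] at this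
      exact this
    · refine iff_of_false (fun h => hy (hPH h)) (fun h => hy ?_)
      have := H.mul_mem (H.mul_mem (H.inv_mem x.2) (hPH h)) x.2
      simpa [mul_assoc] using this
  · rw [mul_comm (Nat.card (Sylow p H)) (Nat.card M), hM, Basic.card_normalizer_mul Q, index_mul_card]

/-- `[N(P) : C(P)]` divides `p - 1` for a Sylow subgroup of order `p`. -/
theorem relIndex_centralizer_dvd [Finite G] (P : Sylow p G) (hP : Nat.card (P : Subgroup G) = p) :
    (centralizer ((P : Subgroup G) : Set G)).relIndex (normalizer ((P : Subgroup G) : Set G)) ∣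
      p - 1 := by
  haveI : IsCyclic (P : Subgroup G) := isCyclic_of_prime_card hP
  rw [relIndex, ← Subgroup.normalizerMonoidHom_ker, index_ker]
  have := card_subgroup_dvd_card ((P : Subgroup G).normalizerMonoidHom).range
  rwa [IsCyclic.card_mulAut, hP, Nat.totient_prime (Fact.out : p.Prime)] at this

/-- The order of `C(P)` when `P` has order `p`: `|N(P)| = e |C(P)|` with `1 < e ∣ p - 1`. -/
theorem centralizer_data [Finite G] [IsSimpleGroup G] (hG : ¬ IsMulCommutative G)
    (P : Sylow p G) (hP : Nat.card (P : Subgroup G) = p) :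
    ∃ e : ℕ, e ∣ p - 1 ∧ 1 < e ∧
      Nat.card (normalizer ((P : Subgroup G) : Set G)) =
        Nat.card (centralizer ((P : Subgroup G) : Set G)) * e ∧
      p ∣ Nat.card (centralizer ((P : Subgroup G) : Set G)) := by
  haveI : IsCyclic (P : Subgroup G) := isCyclic_of_prime_card hP
  refine ⟨_, relIndex_centralizer_dvd P hP, ?_, ?_, ?_⟩
  · have hpos := Nat.pos_of_dvd_of_pos (relIndex_centralizer_dvd P hP)
      (Nat.sub_pos_of_lt (Fact.out : p.Prime).one_lt)
    by_contra hle
    have h1 : (centralizer ((P : Subgroup G) : Set G)).relIndex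
        (normalizer ((P : Subgroup G) : Set G)) = 1 := by omega
    exact Basic.not_normalizer_le_centralizer hG
      (hP ▸ card_subgroup_dvd_card (P : Subgroup G)) P (relIndex_eq_one.1 h1)
  · have := relIndex_mul_relIndex ⊥ (centralizer ((P : Subgroup G) : Set G))
      (normalizer ((P : Subgroup G) : Set G)) bot_le (centralizer_le_normalizer _)
    rw [relIndex_bot_left, relIndex_bot_left] at this
    exact this.symm
  · have := card_dvd_of_le (le_centralizer (P : Subgroup G))
    rwa [hP] at this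

/-- If `n_p ≤ p + 2` then `C(P) = P`. -/
theorem card_centralizer_of_le [Finite G] [IsSimpleGroup G] (hG : ¬ IsMulCommutative G) (hp : 3 ≤ p)
    (P : Sylow p G) (hP : Nat.card (P : Subgroup G) = p) (hn : Nat.card (Sylow p G) ≤ p + 2) :
    Nat.card (centralizer ((P : Subgroup G) : Set G)) = p := by
  haveI : IsCyclic (P : Subgroup G) := isCyclic_of_prime_card hP
  set C := centralizer ((P : Subgroup G) : Set G)
  have hpp : p.Prime := Fact.out
  have hdvd : p ∣ Nat.card C := by
    have := card_dvd_of_le (le_centralizer (P : Subgroup G))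
    rwa [hP] at this
  obtain ⟨k, hk⟩ := hdvd
  have hpk : ¬ p ∣ k := by
    intro ⟨j, hj⟩
    have h1 : p ^ 2 ∣ Nat.card G :=
      (show p ^ 2 ∣ Nat.card C from ⟨j, by rw [hk, hj]; ring⟩).trans (card_subgroup_dvd_card C)
    have h2 := (hpp.pow_dvd_iff_le_factorization Nat.card_pos.ne').1 h1
    have h3 := Basic.card_sylow_eq P
    rw [hP] at h3
    have h4 : 1 = (Nat.card G).factorization p := Nat.pow_right_injective hpp.two_le (by simpa using h3)
    omega
  by_contra hne
  have hk1 : k ≠ 1 := fun h => hne (by rw [hk, h, mul_one])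
  haveI := Fact.mk (Nat.minFac_prime hk1)
  obtain ⟨⟨z, hz⟩, hzo⟩ := exists_prime_orderOf_dvd_card' (G := C) k.minFac
    (hk ▸ dvd_mul_of_dvd_right (Nat.minFac_dvd k) p)
  rw [Subgroup.orderOf_mk] at hzo
  obtain ⟨⟨x, hx⟩, hxo⟩ := exists_prime_orderOf_dvd_card' (G := (P : Subgroup G)) p (hP.symm ▸ dvd_rfl)
  rw [Subgroup.orderOf_mk] at hxo
  have := eq_one_of_index_le hG hp _
    (Basic.normalizer_ne_top hG (hP ▸ card_subgroup_dvd_card (P : Subgroup G)) P)
    (P.card_eq_index_normalizer ▸ hn) hxo (mem_centralizer_iff.1 hz x hx) (by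
      rw [hzo]
      refine (Nat.coprime_primes (Fact.out) hpp).2 fun h => hpk ?_
      exact h ▸ Nat.minFac_dvd k)
  rw [this, orderOf_one] at hzo
  exact (Fact.out : (k.minFac).Prime).ne_one hzo.symm

/-- The contradiction from an element centralising two Sylow `p`-subgroups: the centraliser would
have index at most `p + 2`. -/
theorem false_of_two_sylows [Finite G] [IsSimpleGroup G] (hG : ¬ IsMulCommutative G) (hp : 3 ≤ p)
    {q a N n c : ℕ} [Fact q.Prime] (hqp : q ≠ p) (hcard : Nat.card G = N)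
    (hn : Nat.card (Sylow p G) = n) (hqn : q ∣ n) (P : Sylow p G)
    (hP : Nat.card (P : Subgroup G) = p)
    (hC : Nat.card (centralizer ((P : Subgroup G) : Set G)) = c) (hc : c = p * q ^ a)
    (ha : ¬ q ^ a ∣ N / (n * c))
    (hshape : ∀ i ∈ Finset.range n, ∀ m ∈ (N / n).divisors,
      i % p = 1 → 1 < i → c ∣ m → i * m ∣ N → N ≤ (p + 2) * (i * m)) : False := by
  have hcpos : 0 < c := hC ▸ Nat.card_pos
  have hnpos : 0 < n := hn ▸ Nat.card_pos
  have hNP : ∀ P' : Sylow p G,
      Nat.card (normalizer ((P' : Subgroup G) : Set G)) = N / n := fun P' => by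
    rw [← hcard, ← Basic.card_normalizer_mul P', hn, Nat.mul_div_cancel _ hnpos]
  have hP' : ∀ P' : Sylow p G, Nat.card (P' : Subgroup G) = p := fun P' => by
    rw [Basic.card_sylow_eq P', ← Basic.card_sylow_eq P, hP]
  have hrel : ∀ P' : Sylow p G, (centralizer ((P' : Subgroup G) : Set G)).relIndex
      (normalizer ((P' : Subgroup G) : Set G)) = N / (n * c) := by
    intro P'
    haveI : IsCyclic (P' : Subgroup G) := isCyclic_of_prime_card (hP' P')
    have h := relIndex_mul_relIndex ⊥ (centralizer ((P' : Subgroup G) : Set G))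
      (normalizer ((P' : Subgroup G) : Set G)) bot_le (centralizer_le_normalizer _)
    rw [relIndex_bot_left, relIndex_bot_left, hNP] at h
    have hC' : Nat.card (centralizer ((P' : Subgroup G) : Set G)) = c := by
      obtain ⟨g, rfl⟩ := MulAction.exists_smul_eq G P P'
      rw [← hC]
      refine Nat.card_congr ((MulAut.conj g).toEquiv.subtypeEquiv fun y => ?_).symm
      simp only [mem_centralizer_iff, Sylow.coe_subgroup_smul, SetLike.mem_coe,
        MulEquiv.toEquiv_eq_coe, EquivLike.coe_coe, MulAut.conj_apply,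
        Subgroup.mem_pointwise_smul_iff_inv_smul_mem, MulAut.smul_def, MulAut.inv_apply,
        MulAut.conj_symm_apply]
      constructor
      · intro hy v hv
        have := congrArg (MulAut.conj g) (hy _ hv)
        simpa [MulAut.conj_apply, mul_assoc] using this
      · intro hy v hv
        have := congrArg (MulAut.conj g).symm (hy (MulAut.conj g v) (by simpa [MulAut.conj_apply, mul_assoc] using hv))
        simpa [MulAut.conj_apply, mul_assoc] using this
    rw [hC'] at h
    rw [← Nat.div_div_eq_div_mul, ← h, Nat.mul_div_cancel_left _ hcpos]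
  obtain ⟨z, hz1, hzo, hCz, P₂, hne, hP₂⟩ := exists_central_two_sylows hqp (hn ▸ hqn) P hP
    (hC.trans hc) (fun P' => hrel P' ▸ ha)
  set H := centralizer ({z} : Set G)
  have hH : H ≠ ⊤ := by
    intro h
    have : z ∈ Subgroup.center G := Subgroup.mem_center_iff.2 fun g =>
      mem_centralizer_singleton_iff.1 (show g ∈ H from h ▸ mem_top g)
    rw [Basic.center_eq_bot hG] at this
    exact hz1 (Subgroup.mem_bot.1 this)
  obtain ⟨i, m, hcard', hi, hi1, hin, hcm, hmN, hidx⟩ := shape_of_two_sylows P P₂ hne H hH hCz hP₂ hP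
  rw [hn] at hin
  rw [hC] at hcm
  rw [hNP] at hmN
  rw [hcard] at hidx
  have hNn : N / n ≠ 0 := (hNP P) ▸ Nat.card_pos.ne'
  have hb := hshape i (Finset.mem_range.2 hin) m (Nat.mem_divisors.2 ⟨hmN, hNn⟩) hi hi1 hcm
    ⟨H.index, by rw [← hidx, mul_comm]⟩
  have hle : H.index ≤ p + 2 := by
    rw [← hidx] at hb
    exact Nat.le_of_mul_le_mul_right hb (hcard' ▸ Nat.card_pos)
  haveI : IsCyclic (P : Subgroup G) := isCyclic_of_prime_card hP
  obtain ⟨⟨x, hx⟩, hxo⟩ := exists_prime_orderOf_dvd_card' (G := (P : Subgroup G)) p (hP.symm ▸ dvd_rfl)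
  rw [Subgroup.orderOf_mk] at hxo
  exact hz1 (eq_one_of_index_le hG hp H hH hle hxo
    (mem_centralizer_singleton_iff.1 (hCz (le_centralizer _ hx))) hzo)

open scoped IsMulCommutative in
/-- Transfer: in a simple group an element of an abelian Sylow subgroup central in its normaliser
is trivial. -/
theorem eq_one_of_central_in_normalizer [Finite G] [IsSimpleGroup G] (hG : ¬ IsMulCommutative G)
    (T : Sylow p G) [IsMulCommutative (T : Subgroup G)] {a : G} (ha : a ∈ (T : Subgroup G))
    (hc : ∀ n ∈ normalizer ((T : Subgroup G) : Set G), n * a = a * n) : a = 1 := by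
  have key : ∀ (k : ℕ) (g₀ : G), g₀⁻¹ * a ^ k * g₀ ∈ (T : Subgroup G) →
      g₀⁻¹ * a ^ k * g₀ = a ^ k := by
    intro k g₀ h
    obtain ⟨n, hn, h'⟩ := T.conj_eq_normalizer_conj_of_mem (a ^ k) g₀ (pow_mem ha k) h
    rw [h', mul_assoc, ← (Commute.pow_right (hc n hn) k).eq, inv_mul_cancel_left]
  have h1 := Basic.hom_eq_one hG (MonoidHom.transfer (MonoidHom.id (T : Subgroup G))) a
  rw [MonoidHom.transfer_eq_pow _ a key] at h1
  have h2 : a ^ (T : Subgroup G).index = 1 := congrArg Subtype.val h1
  obtain ⟨k, hk⟩ := IsPGroup.iff_orderOf.1 T.isPGroup' ⟨a, ha⟩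
  rw [Subgroup.orderOf_mk] at hk
  have hd : orderOf a ∣ (T : Subgroup G).index := orderOf_dvd_of_pow_eq_one h2
  refine orderOf_eq_one_iff.1 ?_
  rw [hk] at hd ⊢
  cases k with
  | zero => rfl
  | succ k => exact absurd ((dvd_pow_self p (Nat.succ_ne_zero k)).trans hd) T.not_dvd_index

end Cfsg.Agent.SmallSimple.Centralize
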