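import Cfsg.Agent.Lib.SmallSimple.Basic
import Cfsg.Agent.Lib.Characters.Burnside

/-!
# Simple groups of order `p² q r`
-/

set_option linter.style.haveILetI false

namespace Cfsg.Agent.SmallSimple.PSqQR

open Subgroup

universe u

variable {G : Type u} [Group G] [Finite G] [IsSimpleGroup G]

theorem two_primes {p q a b : ℕ} (hp : p.Prime) (hq : q.Prime) (h : Nat.card G = p ^ a * q ^ b) :
    IsMulCommutative G := by
  haveI := Cfsg.Agent.Characters.burnside_pa_qb hp hq h
  exact ⟨⟨fun a b => (IsSimpleGroup.comm_iff_isSolvable (G := G)).2 inferInstance a b⟩⟩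

theorem minFac_noncyclic (hG : ¬ IsMulCommutative G) {p : ℕ} (hp : p.Prime) (hdvd : p ∣ Nat.card G)
    (hmin : ∀ s : ℕ, s.Prime → s ∣ Nat.card G → p ≤ s) (P : Sylow p G) :
    ¬ IsCyclic (P : Subgroup G) := by
  haveI := Fact.mk hp
  intro hc
  have hne : Nat.card G ≠ 1 := fun h => hp.not_dvd_one (h ▸ hdvd)
  have hpm : (Nat.card G).minFac = p := le_antisymm (Nat.minFac_le_of_dvd hp.two_le hdvd)
    (hmin _ (Nat.minFac_prime hne) (Nat.minFac_dvd _))
  exact Basic.not_normalizer_le_centralizer hG hdvd P (hc.normalizer_le_centralizer hpm)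

theorem card_eq_sixty {p q r : ℕ} (hp : p.Prime) (hq : q.Prime) (hr : r.Prime)
    (hG : Nat.card G = p ^ 2 * q * r) : Nat.card G = 60 := by
  classical
  by_cases hab : IsMulCommutative G
  · exfalso
    letI : CommGroup G := { ‹Group G› with mul_comm := fun a b => mul_comm' a b }
    have h1 : (p ^ 2 * q * r).Prime := hG ▸ IsSimpleGroup.prime_card
    exact Nat.not_prime_mul (by nlinarith [hp.two_le, hq.two_le]) hr.ne_one h1
  have hpq : p ≠ q := fun e => hab (two_primes hp hr (a := 3) (b := 1) (by rw [hG, ← e]; ring))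
  have hpr : p ≠ r := fun e => hab (two_primes hp hq (a := 3) (b := 1) (by rw [hG, ← e]; ring))
  have hqr : q ≠ r := fun e => hab (two_primes hp hq (a := 2) (b := 2) (by rw [hG, ← e]; ring))
  haveI := Fact.mk hp
  haveI := Fact.mk hq
  haveI := Fact.mk hr
  have hdvdprimes : ∀ s : ℕ, s.Prime → s ∣ Nat.card G → s = p ∨ s = q ∨ s = r := fun s hs h => by
    rw [hG] at h
    rcases hs.dvd_mul.1 h with h | h
    · rcases hs.dvd_mul.1 h with h | h
      · exact Or.inl ((Nat.prime_dvd_prime_iff_eq hs hp).1 (hs.dvd_of_dvd_pow h))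
      · exact Or.inr (Or.inl ((Nat.prime_dvd_prime_iff_eq hs hq).1 h))
    · exact Or.inr (Or.inr ((Nat.prime_dvd_prime_iff_eq hs hr).1 h))
  have hnd : ∀ {a b c : ℕ}, a.Prime → b.Prime → c.Prime → a ≠ b → a ≠ c →
      ∀ k : ℕ, ¬ a ∣ b ^ k * c := fun ha hb hc hab' hac k h => by
    rcases ha.dvd_mul.1 h with h | h
    · exact hab' ((Nat.prime_dvd_prime_iff_eq ha hb).1 (ha.dvd_of_dvd_pow h))
    · exact hac ((Nat.prime_dvd_prime_iff_eq ha hc).1 h)
  have hcq : ∀ Q : Sylow q G, Nat.card (Q : Subgroup G) = q := fun Q => by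
    simpa using Basic.card_sylow_eq_pow (a := 1) (m := p ^ 2 * r) (by rw [hG]; ring)
      (hnd hq hp hr hpq.symm hqr 2) Q
  have hcr : ∀ R : Sylow r G, Nat.card (R : Subgroup G) = r := fun R => by
    simpa using Basic.card_sylow_eq_pow (a := 1) (m := p ^ 2 * q) (by rw [hG]; ring)
      (hnd hr hp hq hpr.symm hqr.symm 2) R
  have hpd : p ∣ Nat.card G := ⟨p * q * r, by rw [hG]; ring⟩
  have hqd : q ∣ Nat.card G := ⟨p ^ 2 * r, by rw [hG]; ring⟩
  have hrd : r ∣ Nat.card G := ⟨p ^ 2 * q, by rw [hG]; ring⟩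
  -- `p` is the smallest prime
  have hpmin : p < q ∧ p < r := by
    by_contra hc
    by_cases h1 : q < r
    · refine minFac_noncyclic hab hq hqd (fun s hs hd => ?_) default (isCyclic_of_prime_card (hcq _))
      rcases hdvdprimes s hs hd with rfl | rfl | rfl <;> omega
    · refine minFac_noncyclic hab hr hrd (fun s hs hd => ?_) default (isCyclic_of_prime_card (hcr _))
      rcases hdvdprimes s hs hd with rfl | rfl | rfl <;> omega
  obtain P : Sylow p G := default
  have hcp : Nat.card (P : Subgroup G) = p ^ 2 :=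
    Basic.card_sylow_eq_pow (m := q * r) (by rw [hG]; ring) (by
      simpa using hnd hp hq hr hpq hpr 1) P
  haveI : IsMulCommutative (P : Subgroup G) :=
    ⟨⟨(IsPGroup.commutative_of_card_eq_prime_sq hcp)⟩⟩
  set N := normalizer ((P : Subgroup G) : Set G) with hN
  set C := centralizer ((P : Subgroup G) : Set G) with hC
  obtain ⟨g, hgN, hgC⟩ : ∃ g, g ∈ N ∧ g ∉ C := by
    by_contra h
    push Not at h
    exact Basic.not_normalizer_le_centralizer hab hpd P h
  -- a power of prime order outside the centraliser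
  obtain ⟨s, x, hs, hsqr, hxN, hxC, hxs⟩ : ∃ (s : ℕ) (x : G), s.Prime ∧ (s = q ∨ s = r) ∧
      x ∈ N ∧ x ∉ C ∧ orderOf x = s := by
    have hPC : (P : Subgroup G) ≤ C := le_centralizer _
    have hidx : C.relIndex N ≠ 1 := fun h => hgC (relIndex_eq_one.1 h hgN)
    obtain ⟨s, hs, hsd⟩ := Nat.exists_prime_and_dvd hidx
    have hmul : Nat.card C * C.relIndex N = Nat.card N := by
      have h := relIndex_mul_relIndex ⊥ C N bot_le (centralizer_le_normalizer _)
      rwa [relIndex_bot_left, relIndex_bot_left] at h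
    have hsN : s ∣ Nat.card N := hmul ▸ hsd.mul_left _
    have hsG : s ∣ Nat.card G := hsN.trans (card_subgroup_dvd_card N)
    have hsqr : s = q ∨ s = r := by
      refine (hdvdprimes s hs hsG).resolve_left ?_
      rintro rfl
      have h : s ^ 3 ∣ Nat.card G := by
        refine Dvd.dvd.trans ?_ (card_subgroup_dvd_card N)
        rw [← hmul, show s ^ 3 = s ^ 2 * s by ring]
        exact mul_dvd_mul (hcp ▸ card_dvd_of_le hPC) hsd
      rw [hG, show s ^ 3 = s ^ 2 * s by ring, mul_assoc] at h
      exact hnd hp hq hr hpq hpr 1 (by simpa using Nat.dvd_of_mul_dvd_mul_left (pow_pos hp.pos 2) h)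
    haveI := Fact.mk hs
    obtain ⟨x, hx⟩ := exists_prime_orderOf_dvd_card' s hsN
    refine ⟨s, x, hs, hsqr, x.2, fun hxC => ?_, by rw [orderOf_coe, hx]⟩
    have h : s ^ 2 ∣ Nat.card G := by
      refine Dvd.dvd.trans ?_ (card_subgroup_dvd_card N)
      rw [← hmul, sq]
      refine mul_dvd_mul ?_ hsd
      have h' := orderOf_dvd_natCard (⟨(x : G), hxC⟩ : C)
      rwa [Subgroup.orderOf_mk, orderOf_coe, hx] at h'
    rw [hG] at h
    rcases hsqr with rfl | rfl
    · rw [show p ^ 2 * s * r = s * (p ^ 2 * r) by ring, sq] at h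
      exact hnd hq hp hr hpq.symm hqr 2 (Nat.dvd_of_mul_dvd_mul_left hs.pos h)
    · rw [show p ^ 2 * q * s = s * (p ^ 2 * q) by ring, sq] at h
      exact hnd hr hp hq hpr.symm hqr.symm 2 (Nat.dvd_of_mul_dvd_mul_left hs.pos h)
  -- counting fixed points of `x` on `P`
  haveI := Fact.mk hs
  let X := zpowers x
  have hXN : X ≤ N := zpowers_le.2 hxN
  letI : MulAction X (P : Subgroup G) :=
    { smul := fun c y => ⟨(c : G) * y * (c : G)⁻¹, (mem_normalizer_iff.1 (hXN c.2) _).1 y.2⟩
      one_smul := fun y => Subtype.ext (by show ((1 : X) : G) * y * ((1 : X) : G)⁻¹ = y; simp)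
      mul_smul := fun c d y => Subtype.ext (by
        show ((c * d : X) : G) * y * ((c * d : X) : G)⁻¹ =
          (c : G) * ((d : G) * y * (d : G)⁻¹) * (c : G)⁻¹
        rw [coe_mul]; group) }
  have hXp : IsPGroup s X := IsPGroup.of_card (n := 1) (by rw [Nat.card_zpowers, hxs, pow_one])
  have hmod := hXp.card_modEq_card_fixedPoints (P : Subgroup G)
  set F := (P : Subgroup G) ⊓ centralizer ({x} : Set G) with hF
  have hfix : Nat.card (MulAction.fixedPoints X (P : Subgroup G)) = Nat.card F := by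
    refine Nat.card_congr ⟨fun y => ⟨(y.1 : G), y.1.2, mem_centralizer_singleton_iff.2 ?_⟩,
      fun y => ⟨⟨(y : G), y.2.1⟩, fun c => ?_⟩, fun y => rfl, fun y => rfl⟩
    · have := congrArg Subtype.val (y.2 ⟨x, mem_zpowers x⟩)
      exact (mul_inv_eq_iff_eq_mul.1 this).symm
    · refine Subtype.ext ?_
      show (c : G) * y * (c : G)⁻¹ = y
      have hcx : Commute (x : G) y := (mem_centralizer_singleton_iff.1 y.2.2).symm
      obtain ⟨k, hk⟩ := mem_zpowers_iff.1 c.2
      rw [← hk, (hcx.zpow_left k).eq, mul_inv_cancel_right]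
  rw [hfix, hcp] at hmod
  have hFlt : Nat.card F ∣ p ^ 2 := hcp ▸ card_dvd_of_le inf_le_left
  obtain ⟨k, hk, hk'⟩ := (Nat.dvd_prime_pow hp).1 hFlt
  have hk2 : k ≠ 2 := by
    rintro rfl
    have hFP : F = (P : Subgroup G) := eq_of_le_of_card_ge inf_le_left (by rw [hk', hcp])
    refine hxC fun y hy => ?_
    have hyF : y ∈ F := hFP.symm ▸ hy
    exact mem_centralizer_singleton_iff.1 hyF.2
  rw [hk'] at hmod
  have hsp : p < s := by rcases hsqr with rfl | rfl <;> omega
  have hs1 : s = p + 1 := by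
    interval_cases k
    · have h := (Nat.modEq_iff_dvd' (Nat.one_le_pow _ _ hp.pos)).1 (by simpa using hmod.symm)
      have e : p ^ 2 - 1 = (p + 1) * (p - 1) := by simpa using Nat.sq_sub_sq p 1
      rw [e] at h
      rcases hs.dvd_mul.1 h with h | h
      · have := Nat.le_of_dvd (by omega) h; omega
      · have := hp.two_le
        have := Nat.le_of_dvd (by omega) h
        omega
    · have h := (Nat.modEq_iff_dvd' (by nlinarith [hp.two_le] : p ≤ p ^ 2)).1 (by simpa using hmod.symm)
      have e : p ^ 2 - p = p * (p - 1) := by rw [sq, Nat.mul_sub, mul_one]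
      rw [e] at h
      rcases hs.dvd_mul.1 h with h | h
      · have := Nat.le_of_dvd hp.pos h; omega
      · have := hp.two_le
        have := Nat.le_of_dvd (by omega) h
        omega
    · exact absurd rfl hk2
  have hp2 : p = 2 := by
    by_contra hne
    have h1 : p % 2 = 1 := hp.eq_two_or_odd.resolve_left hne
    have := hp.two_le
    have h2 : s % 2 = 1 := hs.eq_two_or_odd.resolve_left (by omega)
    omega
  subst hp2
  subst hs1
  -- the third prime is five
  have finish : ∀ t : ℕ, t.Prime → t ≠ 2 → t ≠ 3 → Nat.card G = 12 * t → Nat.card G = 60 := by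
    intro t ht h2 h3 hcard
    haveI := Fact.mk ht
    have ht5 : 5 ≤ t := by
      have := ht.two_le
      by_contra h
      interval_cases t <;> first | omega | exact absurd ht (by norm_num)
    have hnd12 : ¬ t ∣ 12 := fun h => by
      have h' : t ∣ 2 ^ 2 * 3 := h
      rcases ht.dvd_mul.1 h' with h' | h'
      · exact h2 ((Nat.prime_dvd_prime_iff_eq ht Nat.prime_two).1 (ht.dvd_of_dvd_pow h'))
      · exact h3 ((Nat.prime_dvd_prime_iff_eq ht Nat.prime_three).1 h')
    have hT : t ∣ Nat.card G := ⟨12, by rw [hcard, mul_comm]⟩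
    obtain ⟨hd, hm, h1, -⟩ := Basic.sylow_count (p := t) hab hT (a := 1) (m := 12)
      (by rw [hcard, pow_one, mul_comm]) hnd12
    have hle := Nat.le_of_dvd (by norm_num) hd
    by_contra h60
    have ht11 : t = 11 ∧ Nat.card (Sylow t G) = 12 := by
      have htlt : t < Nat.card (Sylow t G) := by
        by_contra hcon
        rcases lt_or_eq_of_le (not_lt.1 hcon) with h | h
        · rw [Nat.mod_eq_of_lt h] at hm; omega
        · rw [h, Nat.mod_self] at hm; omega
      interval_cases hn : Nat.card (Sylow t G) <;> norm_num at hd <;> interval_cases t <;>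
        simp_all (config := { decide := true })
    obtain T : Sylow t G := default
    have hTc : Nat.card (T : Subgroup G) = t := by
      simpa using Basic.card_sylow_eq_pow (a := 1) (m := 12) (by rw [hcard, pow_one, mul_comm]) hnd12 T
    have hmulN := Basic.card_normalizer_mul T
    rw [ht11.2, hcard, mul_comm 12 t] at hmulN
    have hNT : normalizer ((T : Subgroup G) : Set G) = (T : Subgroup G) :=
      (eq_of_le_of_card_ge le_normalizer (by omega)).symm
    refine Basic.not_normalizer_le_centralizer hab hT T ?_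
    haveI : IsCyclic (T : Subgroup G) := isCyclic_of_prime_card hTc
    haveI : IsMulCommutative (T : Subgroup G) :=
      ⟨⟨fun a b => IsCyclic.commGroup.mul_comm a b⟩⟩
    rw [hNT]
    exact le_centralizer _
  rcases hsqr with h | h
  · exact finish r hr hpr.symm (by omega) (by rw [hG, ← h]; ring)
  · exact finish q hq hpq.symm (by omega) (by rw [hG, ← h]; ring)

end Cfsg.Agent.SmallSimple.PSqQR
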