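import Mathlib
import Cfsg.Agent.Lib.SmallSimple.Centralize

/-!
# Fixed points of elements centralising a Sylow subgroup of prime order

* a group commuting with an element of order `p`, of order prime to `p`, embeds in the symmetric
  group on the `p`-cycles and fixed points;
* a subgroup `H` in which `P` is central in its normaliser gives primes dividing `|C(P)|`;
* the number of Sylow subgroups fixed by an element, and the sign condition for involutions.
-/

set_option linter.style.haveILetI false

namespace Cfsg.Agent.SmallSimple.FixedPoints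

open Subgroup MulAction

variable {G : Type*} [Group G]

/-- A group of order prime to `p`, acting faithfully and commuting with `x` of order `p`, embeds in
the permutations of the orbits of `x`. -/
theorem card_dvd_factorial {Ω : Type*} [Finite Ω] [MulAction G Ω] [FaithfulSMul G Ω] [Finite G]
    {p : ℕ} {x : G} (hx : x ^ p = 1) {R : Subgroup G} (hR : R ≤ centralizer ({x} : Set G))
    (hcop : Nat.Coprime (Nat.card R) p) :
    Nat.card R ∣ (Nat.card (orbitRel.Quotient (zpowers x) Ω)).factorial := by
  classical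
  have hwd : ∀ r : R, ∀ a b : Ω, orbitRel (zpowers x) Ω a b →
      orbitRel (zpowers x) Ω ((r : G) • a) ((r : G) • b) := by
    rintro r a b hab
    rw [orbitRel_apply, mem_orbit_iff] at hab ⊢
    obtain ⟨z, hz⟩ := hab
    refine ⟨z, ?_⟩
    obtain ⟨k, hk⟩ := mem_zpowers_iff.1 z.2
    rw [← hz, Subgroup.smul_def, Subgroup.smul_def, ← mul_smul, ← mul_smul, ← hk]
    have hc : Commute (r : G) x := mem_centralizer_singleton_iff.1 (hR r.2)
    rw [(hc.zpow_right k).eq]
  let f : R → orbitRel.Quotient (zpowers x) Ω → orbitRel.Quotient (zpowers x) Ω :=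
    fun r => Quotient.map ((r : G) • ·) (hwd r)
  letI : MulAction R (orbitRel.Quotient (zpowers x) Ω) :=
    { smul := f
      one_smul := fun q => Quotient.inductionOn q fun a => congrArg (Quotient.mk _) (one_smul G a)
      mul_smul := fun r s q => Quotient.inductionOn q fun a =>
        congrArg (Quotient.mk _) (mul_smul (r : G) (s : G) a) }
  have hinj : Function.Injective (MulAction.toPermHom R (orbitRel.Quotient (zpowers x) Ω)) := by
    rw [← MonoidHom.ker_eq_bot_iff, Subgroup.eq_bot_iff_forall]
    intro r hr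
    refine Subtype.ext (eq_of_smul_eq_smul (α := Ω) fun a => ?_)
    rw [OneMemClass.coe_one, one_smul]
    have h1 : r • (Quotient.mk _ a : orbitRel.Quotient (zpowers x) Ω) = Quotient.mk _ a :=
      Equiv.congr_fun (MonoidHom.mem_ker.1 hr) (Quotient.mk _ a)
    have h2 : orbitRel (zpowers x) Ω ((r : G) • a) a := Quotient.exact h1
    rw [orbitRel_apply, mem_orbit_iff] at h2
    obtain ⟨z, hz⟩ := h2
    obtain ⟨k, hk⟩ := mem_zpowers_iff.1 z.2
    rw [Subgroup.smul_def, ← hk] at hz
    have hc : Commute x (r : G) := (mem_centralizer_singleton_iff.1 (hR r.2)).symm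
    refine Centralize.fixed_of_sameCycle (σ := toPermHom G Ω x) (τ := toPermHom G Ω (r : G))
      (k := k) (v := a) ?_ (hc.map _) (m := Nat.card R) ?_ hcop ?_
    · rw [← map_pow, hx, map_one]
    · rw [← map_pow]
      have : r ^ Nat.card R = 1 := pow_card_eq_one'
      rw [show (r : G) ^ Nat.card R = 1 from congrArg Subtype.val this, map_one]
    · rw [← map_zpow]
      exact hz
  have h := card_dvd_of_injective _ hinj
  rwa [Nat.card_perm] at h

variable [Finite G] {p : ℕ} [Fact p.Prime]

/-- If `P ≤ H` is central in `N_H(P)`, then `P` centralises a non-trivial `r`-element of `H`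
unless `p ∣ r^a - 1`. -/
theorem dvd_card_centralizer {r a l : ℕ} [Fact r.Prime] (hrp : r ≠ p) (P : Sylow p G)
    {H : Subgroup G} (hPH : (P : Subgroup G) ≤ H)
    (hc : H ⊓ normalizer ((P : Subgroup G) : Set G) ≤ centralizer ((P : Subgroup G) : Set G))
    (hH : Nat.card H = r ^ a * l) (hl : ¬ r ∣ l) (hra : ¬ p ∣ r ^ a - 1) :
    r ∣ Nat.card (centralizer ((P : Subgroup G) : Set G)) := by
  classical
  have hrr : r.Prime := Fact.out
  have hpp : p.Prime := Fact.out
  set Q : Sylow p H := P.subtype hPH with hQ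
  have hQmem : ∀ x : H, x ∈ (Q : Subgroup H) ↔ (x : G) ∈ (P : Subgroup G) := fun x => by
    rw [hQ, Sylow.coe_subtype, mem_subgroupOf]
  have hQc : normalizer ((Q : Subgroup H) : Set H) ≤ centralizer ((Q : Subgroup H) : Set H) := by
    intro x hx
    have hx' : (x : G) ∈ centralizer ((P : Subgroup G) : Set G) := by
      refine hc ⟨x.2, mem_normalizer_iff.2 fun y => ?_⟩
      by_cases hy : y ∈ H
      · have h := mem_normalizer_iff.1 hx ⟨y, hy⟩
        rw [hQmem, hQmem] at h
        exact h
      · refine iff_of_false (fun h => hy (hPH h)) (fun h => hy ?_)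
        have := H.mul_mem (H.mul_mem (H.inv_mem x.2) (hPH h)) x.2
        simpa [mul_assoc] using this
    exact mem_centralizer_iff.2 fun y hy =>
      Subtype.ext (mem_centralizer_iff.1 hx' y ((hQmem y).1 hy))
  set K := (MonoidHom.transferSylow Q hQc).ker with hK
  have hcompl := MonoidHom.ker_transferSylow_isComplement' Q hQc
  rw [← hK] at hcompl
  have hpK : ¬ p ∣ Nat.card K := MonoidHom.not_dvd_card_ker_transferSylow Q hQc
  obtain ⟨R⟩ : Nonempty (Sylow r H) := inferInstance
  have hRK : (R : Subgroup H) ≤ K := by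
    intro x hx
    obtain ⟨k, hk⟩ := IsPGroup.iff_orderOf.1 R.isPGroup' ⟨x, hx⟩
    rw [Subgroup.orderOf_mk] at hk
    rw [hK, MonoidHom.mem_ker]
    have h1 := orderOf_map_dvd (MonoidHom.transferSylow Q hQc) x
    have h2 := orderOf_dvd_natCard ((MonoidHom.transferSylow Q hQc) x)
    obtain ⟨j, hj⟩ := IsPGroup.iff_card.1 Q.isPGroup'
    rw [hk] at h1; rw [hj] at h2
    exact orderOf_eq_one_iff.1 (Nat.eq_one_of_dvd_coprimes
      (Nat.coprime_pow_primes k j hrr hpp hrp) h1 h2)
  -- `P` fixes a Sylow `r`-subgroup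
  have hnp : ¬ p ∣ Nat.card (Sylow r H) := by
    intro hd
    rw [R.card_eq_index_normalizer] at hd
    have hsup : normalizer ((R : Subgroup H) : Set H) ⊔ K = ⊤ := Sylow.normalizer_sup_eq_top' R hRK
    have h1 : (normalizer ((R : Subgroup H) : Set H)).index ∣ Nat.card K := by
      have h2 := relIndex_sup_right (H := normalizer ((R : Subgroup H) : Set H)) (K := K)
      rw [hsup, relIndex_top_right] at h2
      have h3 := relIndex_mul_relIndex ⊥ (normalizer ((R : Subgroup H) : Set H) ⊓ K) K bot_le inf_le_right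
      rw [relIndex_bot_left, relIndex_bot_left, inf_relIndex_right] at h3
      have h4 := K.index_mul_card
      have h5 := (normalizer ((R : Subgroup H) : Set H)).index_mul_card
      have h6 := relIndex_mul_relIndex ⊥ (K ⊓ normalizer ((R : Subgroup H) : Set H))
        (normalizer ((R : Subgroup H) : Set H)) bot_le inf_le_right
      rw [relIndex_bot_left, relIndex_bot_left, inf_relIndex_right, ← h2, inf_comm] at h6
      refine ⟨Nat.card ↥(normalizer ((R : Subgroup H) : Set H) ⊓ K), ?_⟩
      refine Nat.eq_of_mul_eq_mul_left (Nat.pos_of_ne_zero K.index_ne_zero_of_finite) ?_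
      rw [h4, ← h5, ← h6]; ring
    exact hpK (hd.trans h1)
  obtain ⟨R', hR'⟩ := Q.isPGroup'.nonempty_fixed_point_of_prime_not_dvd_card (Sylow r H) hnp
  -- and acts on its non-identity elements
  have hnorm : (Q : Subgroup H) ≤ normalizer ((R' : Subgroup H) : Set H) := fun q hq =>
    Sylow.smul_eq_iff_mem_normalizer.1 (hR' ⟨q, hq⟩)
  have hR'c : Nat.card (R' : Subgroup H) = r ^ a := Basic.card_sylow_eq_pow hH hl R'
  let act : (Q : Subgroup H) →* MulAut (R' : Subgroup H) :=
    (R' : Subgroup H).normalizerMonoidHom.comp (Subgroup.inclusion hnorm)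
  letI : MulAction (Q : Subgroup H) {y : (R' : Subgroup H) // y ≠ 1} :=
    { smul := fun q y => ⟨act q y.1, fun e => y.2 ((act q).injective (e.trans (map_one (act q)).symm))⟩
      one_smul := fun y => Subtype.ext (by
        change act 1 y.1 = y.1
        rw [map_one]; rfl)
      mul_smul := fun q q' y => Subtype.ext (by
        change act (q * q') y.1 = act q (act q' y.1)
        rw [map_mul]; rfl) }
  haveI := Fintype.ofFinite (R' : Subgroup H)
  obtain ⟨⟨y, hy1⟩, hy⟩ := Q.isPGroup'.nonempty_fixed_point_of_prime_not_dvd_card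
    {y : (R' : Subgroup H) // y ≠ 1} (by
      rwa [Nat.card_eq_fintype_card, Fintype.card_subtype_compl, Fintype.card_subtype_eq,
        ← Nat.card_eq_fintype_card, hR'c])
  obtain ⟨k, hk⟩ := IsPGroup.iff_orderOf.1 R'.isPGroup' y
  have hyC : ((y : H) : G) ∈ centralizer ((P : Subgroup G) : Set G) := by
    refine mem_centralizer_iff.2 fun q hq => ?_
    have h := congrArg (fun z => (((z.1 : (R' : Subgroup H)) : H) : G))
      (hy ⟨⟨q, hPH hq⟩, (hQmem _).2 hq⟩)
    exact mul_inv_eq_iff_eq_mul.1 h
  have hd := orderOf_dvd_natCard (⟨_, hyC⟩ : centralizer ((P : Subgroup G) : Set G))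
  rw [Subgroup.orderOf_mk, Subgroup.orderOf_coe, Subgroup.orderOf_coe, hk] at hd
  refine (dvd_pow_self r ?_).trans hd
  rintro rfl
  rw [pow_zero, orderOf_eq_one_iff] at hk
  exact hy1 hk

/-- Fixed Sylow subgroups of `t`, counted through the conjugates of `t` in `N(P)`. -/
theorem card_fixed_mul (P : Sylow p G) (t : G) :
    Nat.card (normalizer ((P : Subgroup G) : Set G)) * Nat.card {Q : Sylow p G // t • Q = Q} =
      Nat.card (centralizer ({t} : Set G)) *
        Nat.card {y : G // IsConj t y ∧ y ∈ normalizer ((P : Subgroup G) : Set G)} := by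
  classical
  rw [← Basic.card_conjugating t (fun y => y ∈ normalizer ((P : Subgroup G) : Set G))]
  have hiff : ∀ g : G, g * t * g⁻¹ ∈ normalizer ((P : Subgroup G) : Set G) ↔ t • (g⁻¹ • P) = g⁻¹ • P := by
    intro g
    refine Sylow.smul_eq_iff_mem_normalizer.symm.trans ?_
    rw [mul_smul, mul_smul]
    exact ⟨fun h => by rw [← inv_smul_smul g (t • g⁻¹ • P), h], fun h => by rw [h, smul_inv_smul]⟩
  choose c hc using fun Q : Sylow p G => MulAction.exists_smul_eq G P Q
  rw [← Nat.card_prod]
  have e : {g : G // g * t * g⁻¹ ∈ normalizer ((P : Subgroup G) : Set G)} ≃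
      normalizer ((P : Subgroup G) : Set G) × {Q : Sylow p G // t • Q = Q} := by
    refine {
      toFun := fun g => (⟨g.1 * c (g.1⁻¹ • P), ?_⟩, ⟨g.1⁻¹ • P, (hiff g.1).1 g.2⟩)
      invFun := fun s => ⟨(s.1 : G) * (c s.2.1)⁻¹, (hiff _).2 ?_⟩
      left_inv := fun g => Subtype.ext (mul_inv_cancel_right _ _)
      right_inv := ?_ }
    · refine Sylow.smul_eq_iff_mem_normalizer.1 ?_
      rw [mul_smul, hc, smul_inv_smul]
    · rw [mul_inv_rev, inv_inv, mul_smul,
        Sylow.smul_eq_iff_mem_normalizer.2 ((normalizer _).inv_mem s.1.2), hc]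
      exact s.2.2
    · rintro ⟨⟨n, hn⟩, ⟨Q, hQ⟩⟩
      have e : (n * (c Q)⁻¹)⁻¹ • P = Q := by
        rw [mul_inv_rev, inv_inv, mul_smul,
          Sylow.smul_eq_iff_mem_normalizer.2 ((normalizer _).inv_mem hn), hc]
      refine Prod.ext (Subtype.ext ?_) (Subtype.ext e)
      change n * (c Q)⁻¹ * c ((n * (c Q)⁻¹)⁻¹ • P) = n
      rw [e, inv_mul_cancel_right]
  exact (Nat.card_congr e).symm

omit [Finite G] in
/-- An involution of a simple group moves a number of points divisible by `4`. -/
theorem four_dvd_moved [IsSimpleGroup G] (hG : ¬ IsMulCommutative G) {α : Type*} [Finite α]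
    [MulAction G α] {t : G} (ht : t * t = 1) :
    4 ∣ Nat.card α - Nat.card {a : α // t • a = a} := by
  classical
  haveI := Fintype.ofFinite α
  set σ := toPermHom G α t with hσ
  have h2 : σ ^ 2 = 1 := by rw [sq, hσ, ← map_mul, ht, map_one]
  have h := Basic.sign_eq_one hG (toPermHom G α) t
  rw [← hσ, Equiv.Perm.sign_of_pow_two_eq_one h2] at h
  have hfix : Fintype.card (Function.fixedPoints σ) = Nat.card {a : α // t • a = a} := by
    rw [← Nat.card_eq_fintype_card]; rfl
  have hsum : (Fintype.card α - Fintype.card (Function.fixedPoints σ)) % 2 = 0 := by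
    have hc := Equiv.Perm.cycleType_of_pow_prime_eq_one (p := 2) h2
    rw [σ.card_fixedPoints, Nat.sub_sub_self σ.sum_cycleType_le, hc, Multiset.sum_replicate,
      smul_eq_mul, Nat.mul_mod_left]
  rw [Nat.card_eq_fintype_card (α := α), ← hfix]
  have he : Even ((Fintype.card α - Fintype.card (Function.fixedPoints σ)) / 2) :=
    (neg_one_pow_eq_one_iff_even (by decide : (-1 : ℤˣ) ≠ 1)).1 h
  obtain ⟨k, hk⟩ := he
  exact ⟨k, by omega⟩

/-- The Sylow subgroups of a simple group are permuted faithfully. -/
theorem faithful [IsSimpleGroup G] (hG : ¬ IsMulCommutative G) (hp : p ∣ Nat.card G) :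
    FaithfulSMul G (Sylow p G) := by
  have hker : (toPermHom G (Sylow p G)).ker = ⊥ := by
    rcases (toPermHom G (Sylow p G)).normal_ker.eq_bot_or_eq_top with h | h
    · exact h
    · have P : Sylow p G := default
      refine absurd ?_ (Basic.normalizer_ne_top hG hp P)
      refine top_le_iff.1 fun g _ => Sylow.smul_eq_iff_mem_normalizer.1 ?_
      have hg : g ∈ (toPermHom G (Sylow p G)).ker := h ▸ mem_top g
      exact Equiv.congr_fun (MonoidHom.mem_ker.1 hg) P
  exact ⟨fun {a b} hab => (MonoidHom.ker_eq_bot_iff _).1 hker (Equiv.ext hab)⟩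

/-- A subgroup of `C(P)` of order prime to `p` has order dividing `k!`, where `k = 1 + (n_p - 1)/p`. -/
theorem dvd_factorial_orbits [IsSimpleGroup G] (hG : ¬ IsMulCommutative G) (P : Sylow p G)
    (hP : Nat.card (P : Subgroup G) = p) {R : Subgroup G}
    (hR : R ≤ centralizer ((P : Subgroup G) : Set G)) (hcop : Nat.Coprime (Nat.card R) p) :
    Nat.card R ∣ (1 + (Nat.card (Sylow p G) - 1) / p).factorial := by
  classical
  have hpp : p.Prime := Fact.out
  haveI : IsCyclic (P : Subgroup G) := isCyclic_of_prime_card hP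
  have hpG : p ∣ Nat.card G := hP ▸ card_subgroup_dvd_card (P : Subgroup G)
  haveI := faithful hG hpG
  obtain ⟨⟨x, hx⟩, hxo⟩ := exists_prime_orderOf_dvd_card' (G := (P : Subgroup G)) p (hP.symm ▸ dvd_rfl)
  rw [Subgroup.orderOf_mk] at hxo
  have hxP : zpowers x = (P : Subgroup G) :=
    eq_of_le_of_card_ge (zpowers_le.2 hx) (by rw [Nat.card_zpowers, hxo, hP])
  have hRx : R ≤ centralizer ({x} : Set G) := fun r hr =>
    mem_centralizer_singleton_iff.2 (mem_centralizer_iff.1 (hR hr) x hx).symm
  have h := card_dvd_factorial (Ω := Sylow p G) (hxo ▸ pow_orderOf_eq_one x) hRx hcop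
  suffices hk : Nat.card (orbitRel.Quotient (zpowers x) (Sylow p G)) =
      1 + (Nat.card (Sylow p G) - 1) / p by rwa [hk] at h
  haveI := Fintype.ofFinite (orbitRel.Quotient (zpowers x) (Sylow p G))
  have hsize : ∀ w : orbitRel.Quotient (zpowers x) (Sylow p G),
      Nat.card ↥w.orbit = if w = Quotient.mk _ P then 1 else p := by
    intro w
    obtain ⟨Q, rfl⟩ := Quotient.exists_rep w
    rw [orbitRel.Quotient.orbit_mk]
    obtain ⟨n, hn⟩ := (IsPGroup.of_card (n := 1) (by rw [Nat.card_zpowers, hxo, pow_one]) :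
      IsPGroup p (zpowers x)).card_orbit Q
    have hle : Nat.card (orbit (zpowers x) Q) ∣ p := by
      have := (stabilizer (zpowers x) Q).index_dvd_card
      rwa [index_stabilizer, Nat.card_zpowers, hxo, ← Nat.card_coe_set_eq] at this
    by_cases hQ : (Quotient.mk _ Q : orbitRel.Quotient (zpowers x) (Sylow p G)) = Quotient.mk _ P
    · rw [if_pos hQ]
      have hQP : orbit (zpowers x) Q = orbit (zpowers x) P := by
        rw [← orbitRel.Quotient.orbit_mk, ← orbitRel.Quotient.orbit_mk]
        exact congrArg _ hQ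
      rw [hQP]
      have hfix : orbit (zpowers x) P = {P} := by
        refine Set.eq_singleton_iff_unique_mem.2 ⟨mem_orbit_self P, ?_⟩
        rintro _ ⟨⟨z, hz⟩, rfl⟩
        exact Sylow.smul_eq_iff_mem_normalizer.2 (le_normalizer (hxP ▸ hz))
      rw [hfix]; simp
    · rw [if_neg hQ]
      rcases (Nat.dvd_prime hpp).1 hle with h1 | h1
      · refine absurd ?_ hQ
        haveI : Subsingleton (orbit (zpowers x) Q) := (Nat.card_eq_one_iff_unique.1 h1).1
        have hxQ : x • Q = Q := congrArg Subtype.val (Subsingleton.elim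
          (⟨(⟨x, mem_zpowers x⟩ : zpowers x) • Q, mem_orbit _ _⟩ : orbit (zpowers x) Q)
          ⟨Q, mem_orbit_self Q⟩)
        have hPQ : (P : Subgroup G) ≤ normalizer ((Q : Subgroup G) : Set G) :=
          hxP ▸ zpowers_le.2 (Sylow.smul_eq_iff_mem_normalizer.1 hxQ)
        haveI : (((Q : Subgroup G)).subgroupOf (normalizer ((Q : Subgroup G) : Set G))).Normal :=
          normal_in_normalizer
        haveI : ((Q.subtype le_normalizer : Sylow p (normalizer ((Q : Subgroup G) : Set G))) :
            Subgroup (normalizer ((Q : Subgroup G) : Set G))).Normal := by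
          rwa [Sylow.coe_subtype]
        haveI := Sylow.unique_of_normal (Q.subtype le_normalizer) this
        have h3 : P.subtype hPQ = Q.subtype le_normalizer := Subsingleton.elim _ _
        exact congrArg _ (Sylow.subtype_injective h3).symm
      · exact h1
  have hsum := Nat.card_congr (selfEquivSigmaOrbits' (zpowers x) (Sylow p G))
  rw [Nat.card_sigma, Finset.sum_congr rfl fun w _ => hsize w] at hsum
  rw [Finset.sum_ite, Finset.sum_const, Finset.sum_const, Finset.filter_eq',
    if_pos (Finset.mem_univ _), Finset.filter_ne', Finset.card_erase_of_mem (Finset.mem_univ _),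
    Finset.card_univ, ← Nat.card_eq_fintype_card, Finset.card_singleton] at hsum
  simp only [smul_eq_mul, mul_one] at hsum
  have hpos : 0 < Nat.card (orbitRel.Quotient (zpowers x) (Sylow p G)) := Nat.card_pos
  rw [hsum, Nat.add_sub_cancel_left, Nat.mul_div_cancel _ hpp.pos]
  omega

/-- `[H : N_H(P)]` is congruent to one modulo `p`. -/
theorem relIndex_normalizer_mod (P : Sylow p G) {H : Subgroup G} (hPH : (P : Subgroup G) ≤ H) :
    (normalizer ((P : Subgroup G) : Set G)).relIndex H % p = 1 := by
  have h := card_sylow_modEq_one p H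
  rw [Nat.ModEq, Nat.one_mod_eq_one.2 (Fact.out : p.Prime).ne_one] at h
  rw [(P.subtype hPH).card_eq_index_normalizer] at h
  have e : normalizer ((P.subtype hPH : Sylow p H) : Set H) =
      (normalizer ((P : Subgroup G) : Set G)).subgroupOf H := by
    ext u
    change u ∈ normalizer (((P.subtype hPH : Sylow p H) : Subgroup H) : Set H) ↔ _
    rw [Sylow.coe_subtype, mem_subgroupOf]
    constructor
    · intro hu
      refine mem_normalizer_iff.2 fun y => ?_
      by_cases hy : y ∈ H
      · have := mem_normalizer_iff.1 hu ⟨y, hy⟩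
        simp only [mem_subgroupOf] at this
        exact this
      · refine iff_of_false (fun h => hy (hPH h)) (fun h => hy ?_)
        have := H.mul_mem (H.mul_mem (H.inv_mem u.2) (hPH h)) u.2
        simpa [mul_assoc] using this
    · intro hu
      refine mem_normalizer_iff.2 fun y => ?_
      simp only [mem_subgroupOf]
      exact mem_normalizer_iff.1 hu (y : G)
  rw [e] at h
  exact h

end Cfsg.Agent.SmallSimple.FixedPoints
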