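import Cfsg.Agent.OddChar.Induce
import Cfsg.Agent.OddChar.Lattice
import Cfsg.Agent.Lib.Characters.Integrality
import Cfsg.Agent.Lib.SmallSimple.Basic

/-!
# Exceptional characters of a self-centralizing subgroup

`P ≤ G` with `C_G(x) = P` for all `x ∈ P#`; `e = [N_G(P) : P]`.  Inducing `1 - φ` to `G` for the
nontrivial linear characters `φ` of `P` gives the degree equation for the characters that do not
vanish on `P#`.
-/

set_option linter.style.haveILetI false

namespace Cfsg.Agent.SmallSimple.Exceptional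

open Cfsg.Agent.Characters Cfsg.Agent.OddChar
open scoped ComplexConjugate

universe u

variable {G : Type u} [Group G]

/-- `P` is self-centralizing in the strong sense. -/
structure SelfCent (P : Subgroup G) : Prop where
  ne_bot : P ≠ ⊥
  centralizer_eq : ∀ x ∈ P, x ≠ 1 → Subgroup.centralizer ({x} : Set G) = P

theorem SelfCent.comm {P : Subgroup G} (hP : SelfCent P) (a b : P) : a * b = b * a := by
  rcases eq_or_ne (b : G) 1 with h | h
  · obtain rfl : b = 1 := Subtype.ext h
    simp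
  · exact Subtype.ext (Subgroup.mem_centralizer_singleton_iff.1
      ((hP.centralizer_eq b b.2 h).symm ▸ a.2))

theorem SelfCent.mem_normalizer_of_conj {P : Subgroup G} [Finite G] (hP : SelfCent P) {y x : G}
    (hy : y ∈ P) (hy1 : y ≠ 1) (hx : x⁻¹ * y * x ∈ P) : x ∈ Subgroup.normalizer (P : Set G) := by
  have hne : x⁻¹ * y * x ≠ 1 := fun e => hy1 (by
    have h2 := congrArg (fun t => x * t * x⁻¹) e
    simpa [mul_assoc] using h2)
  have hC := hP.centralizer_eq _ hx hne
  have hC' := hP.centralizer_eq y hy hy1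
  rw [Subgroup.mem_normalizer_iff]
  intro z
  constructor
  · intro hz
    rw [← hC, Subgroup.mem_centralizer_singleton_iff] at hz
    rw [← hC', Subgroup.mem_centralizer_singleton_iff]
    calc x * z * x⁻¹ * y = x * (z * (x⁻¹ * y * x)) * x⁻¹ := by group
      _ = x * ((x⁻¹ * y * x) * z) * x⁻¹ := by rw [hz]
      _ = y * (x * z * x⁻¹) := by group
  · intro hz
    rw [← hC', Subgroup.mem_centralizer_singleton_iff] at hz
    rw [← hC, Subgroup.mem_centralizer_singleton_iff]
    calc z * (x⁻¹ * y * x) = x⁻¹ * (x * z * x⁻¹ * y) * x := by group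
      _ = x⁻¹ * (y * (x * z * x⁻¹)) * x := by rw [hz]
      _ = x⁻¹ * y * x * z := by group

variable [Fintype G] {P : Subgroup G}

/-- `A φ = Ind_P^G (1 - φ)`. -/
noncomputable def A (P : Subgroup G) (φ : P →* ℂˣ) : G → ℂ :=
  Cfsg.indFun P (fun y => 1 - (φ y : ℂ))

theorem A_one (φ : P →* ℂˣ) : A P φ 1 = 0 := by
  simp [A, indFun_one]

theorem isGen_one_sub (φ : P →* ℂˣ) :
    Cfsg.IsGeneralizedCharacter P (fun y => 1 - (φ y : ℂ)) :=
  isGen_sub (isGen_of_isCharacter isCharacter_one) (isGen_of_isCharacter (isCharacter_linear φ))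

theorem A_isGen (φ : P →* ℂˣ) : Cfsg.IsGeneralizedCharacter G (A P φ) :=
  isGen_indFun P (isGen_one_sub φ)

theorem linear_inj {φ ψ : P →* ℂˣ} (h : (fun y => (φ y : ℂ)) = fun y => (ψ y : ℂ)) : φ = ψ :=
  MonoidHom.ext fun y => Units.ext (congrFun h y)

theorem inner_linear [Fintype P] (φ ψ : P →* ℂˣ) :
    Cfsg.classInner (fun y => (φ y : ℂ)) (fun y => (ψ y : ℂ)) = if φ = ψ then 1 else 0 := by
  split_ifs with h
  · subst h; exact classInner_isIrr_self (isIrrCharacter_linear φ)
  · exact classInner_isIrr_ne (isIrrCharacter_linear φ) (isIrrCharacter_linear ψ)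
      fun e => h (linear_inj e)

theorem inner_const_linear [Fintype P] (φ : P →* ℂˣ) :
    Cfsg.classInner (fun _ : P => (1 : ℂ)) (fun y => (φ y : ℂ)) = if φ = 1 then 1 else 0 := by
  have := inner_linear (1 : P →* ℂˣ) φ
  simp only [MonoidHom.one_apply, Units.val_one, eq_comm (a := (1 : P →* ℂˣ))] at this
  exact this

theorem inner_linear_const [Fintype P] (φ : P →* ℂˣ) :
    Cfsg.classInner (fun y => (φ y : ℂ)) (fun _ : P => (1 : ℂ)) = if φ = 1 then 1 else 0 := by
  have := inner_linear φ (1 : P →* ℂˣ)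
  simp only [MonoidHom.one_apply, Units.val_one] at this
  exact this

theorem inner_A_one {φ : P →* ℂˣ} (hφ : φ ≠ 1) :
    Cfsg.classInner (A P φ) (fun _ => 1) = 1 := by
  classical
  haveI := Fintype.ofFinite P
  rw [A, frobenius_reciprocity P _ (char_isClassFunction isCharacter_one),
    show (fun y : P => 1 - (φ y : ℂ)) = (fun _ => 1) - fun y => (φ y : ℂ) from rfl,
    classInner_sub_left, inner_linear_const, if_neg hφ, sub_zero]
  exact classInner_isIrr_self isIrrCharacter_one

/-- The conjugate of a linear character of `P` by an element of the normalizer. -/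
noncomputable def conjDual (P : Subgroup G) (n : Subgroup.normalizer (P : Set G)) (φ : P →* ℂˣ) :
    P →* ℂˣ :=
  φ.comp (Induce.conjHom P n n.2).toMonoidHom

theorem conjDual_conjDual (P : Subgroup G) (a b : Subgroup.normalizer (P : Set G))
    (φ : P →* ℂˣ) : conjDual P a (conjDual P b φ) = conjDual P (a * b) φ := by
  ext y
  simp only [conjDual, MonoidHom.comp_apply]
  refine congrArg (fun t => ((φ t : ℂˣ) : ℂ)) (Subtype.ext ?_)
  simp [mul_assoc]

theorem conjDual_one (P : Subgroup G) (φ : P →* ℂˣ) : conjDual P 1 φ = φ := by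
  ext y
  simp only [conjDual, MonoidHom.comp_apply]
  refine congrArg (fun t => ((φ t : ℂˣ) : ℂ)) (Subtype.ext ?_)
  simp

theorem A_conjDual (n : Subgroup.normalizer (P : Set G)) (φ : P →* ℂˣ) :
    A P (conjDual P n φ) = A P φ :=
  Induce.indFun_conjHom P (fun y => 1 - (φ y : ℂ)) n n.2

theorem conjDual_eq_self (hP : SelfCent P) {n : Subgroup.normalizer (P : Set G)} {φ : P →* ℂˣ}
    (hφ : φ ≠ 1) (h : conjDual P n φ = φ) : (n : G) ∈ P := by
  by_contra hn
  apply hφ
  haveI := Fintype.ofFinite P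
  let f : P → P := fun y => y⁻¹ * Induce.conjHom P n n.2 y
  have hf : Function.Injective f := by
    intro a b hab
    have hab' : a⁻¹ * Induce.conjHom P n n.2 a = b⁻¹ * Induce.conjHom P n n.2 b := hab
    have h1 : Induce.conjHom P n n.2 (a * b⁻¹) = a * b⁻¹ := by
      rw [map_mul, map_inv, mul_inv_eq_iff_eq_mul]
      calc Induce.conjHom P n n.2 a = a * (a⁻¹ * Induce.conjHom P n n.2 a) := by group
        _ = a * (b⁻¹ * Induce.conjHom P n n.2 b) := by rw [hab']
        _ = a * b⁻¹ * Induce.conjHom P n n.2 b := by group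
    by_contra hne
    refine hn ((hP.centralizer_eq _ (a * b⁻¹).2 fun e => hne (mul_inv_eq_one.1 (Subtype.ext e))).le
      (Subgroup.mem_centralizer_singleton_iff.2 ?_))
    have h2 : (n : G)⁻¹ * ((a * b⁻¹ : P) : G) * n = ((a * b⁻¹ : P) : G) := congrArg Subtype.val h1
    calc (n : G) * ((a * b⁻¹ : P) : G) = n * ((n : G)⁻¹ * ((a * b⁻¹ : P) : G) * n) := by rw [h2]
      _ = ((a * b⁻¹ : P) : G) * n := by group
  ext y
  obtain ⟨z, rfl⟩ := (Finite.injective_iff_surjective.1 hf) y
  have hz : φ (Induce.conjHom P n n.2 z) = φ z := DFunLike.congr_fun h z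
  simp [f, map_mul, hz]

theorem conjDual_ne_one (n : Subgroup.normalizer (P : Set G)) {φ : P →* ℂˣ} (hφ : φ ≠ 1) :
    conjDual P n φ ≠ 1 := fun h => hφ (by
  have := congrArg (conjDual P n⁻¹) h
  rw [conjDual_conjDual, inv_mul_cancel, conjDual_one] at this
  rw [this]; ext y; simp [conjDual])

theorem indFun_apply_mem (hP : SelfCent P) [Fintype P] [Fintype (Subgroup.normalizer (P : Set G))]
    (α : P → ℂ) (hα : α 1 = 0) (y : P) :
    Cfsg.indFun P α y =
      (Nat.card P : ℂ)⁻¹ * ∑ n : Subgroup.normalizer (P : Set G), α (Induce.conjHom P n n.2 y) := by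
  rcases eq_or_ne (y : G) 1 with h | h
  · obtain rfl : y = 1 := Subtype.ext h
    simp [indFun_one, hα]
  · exact Induce.indFun_apply_of_ti P α y fun x hx _ => hP.mem_normalizer_of_conj y.2 h hx

theorem inner_A (hP : SelfCent P) [DecidableEq (P →* ℂˣ)] [Fintype (Subgroup.normalizer (P : Set G))]
    {φ ψ : P →* ℂˣ} (hφ : φ ≠ 1) (hψ : ψ ≠ 1) :
    Cfsg.classInner (A P φ) (A P ψ) = (Nat.card P : ℂ)⁻¹ *
      ∑ n : Subgroup.normalizer (P : Set G), (1 + if conjDual P n φ = ψ then 1 else 0) := by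
  haveI := Fintype.ofFinite P
  rw [A, A, frobenius_reciprocity' P _ (indFun_isClassFunction _ _)]
  have hres : (fun y : P => Cfsg.indFun P (fun y => 1 - (φ y : ℂ)) y) = (Nat.card P : ℂ)⁻¹ •
      ∑ n : Subgroup.normalizer (P : Set G),
        ((fun _ => 1) - fun y => (conjDual P n φ y : ℂ)) := by
    funext y
    rw [indFun_apply_mem hP _ (by simp) y]
    simp [Finset.sum_apply, conjDual]
  rw [hres, classInner_smul_left, classInner_sum_left]
  congr 1
  refine Finset.sum_congr rfl fun n _ => ?_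
  rw [show (fun y : P => 1 - (ψ y : ℂ)) = (fun _ => 1) - fun y => (ψ y : ℂ) from rfl,
    classInner_sub_left, classInner_sub_right, classInner_sub_right, inner_const_linear,
    inner_linear_const, inner_linear, if_neg hψ, if_neg (conjDual_ne_one n hφ),
    classInner_isIrr_self isIrrCharacter_one]
  ring

/-- `φ` and `ψ` are conjugate under the normalizer of `P`. -/
def SameOrbit (P : Subgroup G) (φ ψ : P →* ℂˣ) : Prop :=
  ∃ n : Subgroup.normalizer (P : Set G), conjDual P n φ = ψ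

theorem sameOrbit_equivalence (P : Subgroup G) : Equivalence (SameOrbit P) where
  refl φ := ⟨1, conjDual_one P φ⟩
  symm := fun ⟨n, h⟩ => ⟨n⁻¹, by rw [← h, conjDual_conjDual, inv_mul_cancel, conjDual_one]⟩
  trans := fun ⟨n, h⟩ ⟨m, h'⟩ => ⟨m * n, by rw [← conjDual_conjDual, h, h']⟩

theorem conjDual_mem_eq_self (hP : SelfCent P) (φ : P →* ℂˣ) (y : P) :
    conjDual P ⟨y, Subgroup.le_normalizer y.2⟩ φ = φ := by
  ext z
  simp only [conjDual, MonoidHom.comp_apply]
  refine congrArg (fun t => ((φ t : ℂˣ) : ℂ)) ?_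
  have : Induce.conjHom P (y : G) (Subgroup.le_normalizer y.2) z = y⁻¹ * z * y := Subtype.ext (by simp)
  exact this.trans (by rw [hP.comm y⁻¹ z, mul_assoc, inv_mul_cancel, mul_one])

theorem card_conjDual_eq (hP : SelfCent P) {φ ψ : P →* ℂˣ} (hφ : φ ≠ 1) (h : SameOrbit P φ ψ) :
    Nat.card {n : Subgroup.normalizer (P : Set G) // conjDual P n φ = ψ} = Nat.card P := by
  obtain ⟨m, hm⟩ := h
  refine Nat.card_congr
    { toFun := fun n => ⟨((m⁻¹ * n.1 : Subgroup.normalizer (P : Set G)) : G),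
        conjDual_eq_self hP hφ (by rw [← conjDual_conjDual, n.2, ← hm, conjDual_conjDual,
          inv_mul_cancel, conjDual_one])⟩
      invFun := fun y => ⟨m * ⟨y, Subgroup.le_normalizer y.2⟩, by
        rw [← conjDual_conjDual, conjDual_mem_eq_self hP, hm]⟩
      left_inv := fun n => Subtype.ext (Subtype.ext (by simp))
      right_inv := fun y => Subtype.ext (by simp) }

theorem inner_A_eq (hP : SelfCent P) {φ ψ : P →* ℂˣ} (hφ : φ ≠ 1) (hψ : ψ ≠ 1)
    [Decidable (SameOrbit P φ ψ)] :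
    Cfsg.classInner (A P φ) (A P ψ) =
      (P.relIndex (Subgroup.normalizer (P : Set G)) : ℂ) + if SameOrbit P φ ψ then 1 else 0 := by
  classical
  haveI := Fintype.ofFinite P
  haveI := Fintype.ofFinite (Subgroup.normalizer (P : Set G))
  rw [inner_A hP hφ hψ, Finset.sum_add_distrib, Finset.sum_boole, Finset.sum_const, Finset.card_univ,
    ← Fintype.card_subtype, ← Nat.card_eq_fintype_card, ← Nat.card_eq_fintype_card]
  have hN : Nat.card (Subgroup.normalizer (P : Set G)) =
      Nat.card P * P.relIndex (Subgroup.normalizer (P : Set G)) := by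
    rw [← Subgroup.relIndex_bot_left, ← Subgroup.relIndex_bot_left,
      Subgroup.relIndex_mul_relIndex _ _ _ bot_le Subgroup.le_normalizer]
  have h0 : (Nat.card P : ℂ) ≠ 0 := by exact_mod_cast Nat.card_pos.ne'
  split_ifs with h
  · rw [card_conjDual_eq hP hφ h, hN]
    push_cast
    simp
    field_simp
  · have : IsEmpty {n : Subgroup.normalizer (P : Set G) // conjDual P n φ = ψ} :=
      ⟨fun n => h ⟨n.1, n.2⟩⟩
    rw [Nat.card_of_isEmpty (α := {n : Subgroup.normalizer (P : Set G) // conjDual P n φ = ψ}), hN]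
    push_cast
    simp

/-- The coefficient of `χ` in `A φ`. -/
noncomputable def a (P : Subgroup G) (φ : P →* ℂˣ) (χ : Cfsg.IrrCharacter G) : ℤ :=
  Lattice.coeff (A P φ) χ

/-- Restriction of an irreducible character to `P` in terms of the linear characters of `P`. -/
theorem exists_mult (hP : SelfCent P) (χ : Cfsg.IrrCharacter G) [Fintype (P →* ℂˣ)] :
    ∃ m : (P →* ℂˣ) → ℤ, (∀ y : P, (χ : G → ℂ) y = ∑ φ, (m φ : ℂ) * (φ y : ℂ)) ∧
      ∀ φ, a P φ χ = m 1 - m φ := by
  classical
  haveI := Fintype.ofFinite P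
  haveI := Fintype.ofFinite (Cfsg.IrrCharacter P)
  set θ : P → ℂ := fun y => (χ : G → ℂ) y
  have hgen : Cfsg.IsGeneralizedCharacter P θ :=
    isGen_restrict P (isGen_of_isCharacter (irr_isCharacter χ))
  have hex : ∀ φ : P →* ℂˣ, ∃ z : ℤ, Cfsg.classInner θ (fun y => (φ y : ℂ)) = (z : ℂ) := fun φ =>
    classInner_gen_int hgen (isGen_of_isCharacter (isCharacter_linear φ))
  choose m hm using hex
  refine ⟨m, fun y => ?_, fun φ => ?_⟩
  · have hθ := classFun_eq_sum (f := θ) (isGen_isClassFunction hgen)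
    let e : Cfsg.IrrCharacter P ≃ (P →* ℂˣ) :=
      (Equiv.subtypeUnivEquiv fun χ : Cfsg.IrrCharacter P =>
        irr_degree_one_of_comm hP.comm χ.2).symm.trans linearEquiv
    calc θ y = ∑ ψ : Cfsg.IrrCharacter P, Cfsg.classInner θ (ψ : P → ℂ) * (ψ : P → ℂ) y := by
          conv_lhs => rw [hθ]
          simp [Finset.sum_apply]
      _ = _ := Fintype.sum_equiv e _ _ fun ψ => by
          have hψ : (ψ : P → ℂ) = fun y => ((e ψ) y : ℂ) := by
            obtain ⟨φ, rfl⟩ := e.symm.surjective ψ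
            rw [Equiv.apply_symm_apply]; rfl
          rw [hψ, hm]
  · refine Lattice.coeff_eq_of_inner ?_
    rw [A, frobenius_reciprocity P _ (irr_isClassFunction χ),
      show (fun y : P => 1 - (φ y : ℂ)) = (fun _ => 1) - fun y => (φ y : ℂ) from rfl,
      classInner_sub_left]
    rw [classInner_conj_symm θ (fun y => (φ y : ℂ)), hm, map_intCast,
      show (fun _ : P => (1 : ℂ)) = fun y => (((1 : P →* ℂˣ) y : ℂˣ) : ℂ) from by simp,
      classInner_conj_symm θ, hm, map_intCast]
    push_cast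
    rfl

theorem card_dual (hP : SelfCent P) : Nat.card (P →* ℂˣ) = Nat.card P := by
  haveI := Fintype.ofFinite P
  have : commutator P = ⊥ := by
    rw [commutator_def, Subgroup.commutator_eq_bot_iff_le_centralizer]
    intro x _
    exact fun y _ => hP.comm y x
  rw [card_linear_hom, this, Subgroup.index_bot]

/-- Congruence for the degree of an irreducible character. -/
theorem degree_congr (hP : SelfCent P) (χ : Cfsg.IrrCharacter G) [Fintype (P →* ℂˣ)]
    {d : ℕ} (hd : (χ : G → ℂ) 1 = (d : ℂ)) :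
    (Nat.card P : ℤ) ∣ (d : ℤ) + ∑ φ : P →* ℂˣ, a P φ χ := by
  classical
  obtain ⟨m, hm, ha⟩ := exists_mult hP χ
  have h1 := hm 1
  simp only [OneMemClass.coe_one, hd, map_one, Units.val_one, mul_one] at h1
  have h1' : (d : ℤ) = ∑ φ, m φ := by exact_mod_cast h1
  refine ⟨m 1, ?_⟩
  rw [Finset.sum_congr rfl fun φ _ => ha φ, Finset.sum_sub_distrib, Finset.sum_const, Finset.card_univ,
    ← Nat.card_eq_fintype_card, card_dual hP, h1']
  simp

theorem a_one (χ : Cfsg.IrrCharacter G) : a P 1 χ = 0 := by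
  refine Lattice.coeff_eq_of_inner ?_
  have h0 : A P (1 : P →* ℂˣ) = 0 := by
    rw [A, show (fun y : P => 1 - (((1 : P →* ℂˣ) y : ℂˣ) : ℂ)) = 0 from funext fun y => by simp,
      indFun_zero]
  simp [h0, Cfsg.classInner]

theorem a_orbit {φ ψ : P →* ℂˣ} (h : SameOrbit P φ ψ) (χ : Cfsg.IrrCharacter G) :
    a P φ χ = a P ψ χ := by
  obtain ⟨n, rfl⟩ := h
  rw [a, a, A_conjDual]

/-- Each orbit of nontrivial linear characters has `e` elements. -/
theorem card_orbit (hP : SelfCent P) {φ : P →* ℂˣ} (hφ : φ ≠ 1) :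
    Nat.card {ψ : P →* ℂˣ // SameOrbit P φ ψ} = P.relIndex (Subgroup.normalizer (P : Set G)) := by
  classical
  haveI : Finite (P →* ℂˣ) := Nat.finite_of_card_ne_zero (by rw [card_dual hP]; exact Nat.card_pos.ne')
  haveI := Fintype.ofFinite {ψ : P →* ℂˣ // SameOrbit P φ ψ}
  let f : Subgroup.normalizer (P : Set G) → {ψ : P →* ℂˣ // SameOrbit P φ ψ} :=
    fun n => ⟨conjDual P n φ, n, rfl⟩
  have hfib : ∀ ψ : {ψ : P →* ℂˣ // SameOrbit P φ ψ},
      Nat.card {n // f n = ψ} = Nat.card P := fun ψ =>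
    (Nat.card_congr (Equiv.subtypeEquivRight fun n => Subtype.ext_iff)).trans
      (card_conjDual_eq hP hφ ψ.2)
  have h := Nat.card_congr (Equiv.sigmaFiberEquiv f).symm
  rw [Nat.card_sigma, Finset.sum_congr rfl fun ψ _ => hfib ψ, Finset.sum_const, Finset.card_univ,
    smul_eq_mul, ← Nat.card_eq_fintype_card] at h
  have hN : Nat.card (Subgroup.normalizer (P : Set G)) =
      Nat.card P * P.relIndex (Subgroup.normalizer (P : Set G)) := by
    rw [← Subgroup.relIndex_bot_left, ← Subgroup.relIndex_bot_left,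
      Subgroup.relIndex_mul_relIndex _ _ _ bot_le Subgroup.le_normalizer]
  rw [hN, mul_comm _ (Nat.card P)] at h
  exact (Nat.eq_of_mul_eq_mul_left Nat.card_pos h).symm

omit [Fintype G] in
/-- The only linear character of a non-abelian simple group is the trivial one. -/
theorem degree_ne_one [Finite G] [IsSimpleGroup G] (hG : ¬ IsMulCommutative G)
    {χ : Cfsg.IrrCharacter G} (hne : χ ≠ trivIrr G) {d : ℕ} (hd : (χ : G → ℂ) 1 = (d : ℂ)) :
    1 < d := by
  obtain ⟨n, hn, hn'⟩ := irr_one_pos χ.2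
  have hdn : d = n := by exact_mod_cast hd.symm.trans hn'
  by_contra hle
  have h1 : (χ : G → ℂ) 1 = 1 := by rw [hd, show d = 1 by omega, Nat.cast_one]
  refine hne (Subtype.ext (funext fun g => ?_))
  have h2 := Basic.hom_eq_one hG (linearOfDegreeOne (irr_isCharacter χ) h1) g
  exact congrArg (fun u : ℂˣ => (u : ℂ)) h2

/-- The number `e * t = |P| - 1` of nontrivial linear characters, and orbit representatives. -/
theorem exists_reps (hP : SelfCent P) {e t : ℕ}
    (he : P.relIndex (Subgroup.normalizer (P : Set G)) = e) (het : e * t + 1 = Nat.card P) :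
    ∃ r : Fin t → (P →* ℂˣ), (∀ i, r i ≠ 1) ∧ (∀ i j, SameOrbit P (r i) (r j) → i = j) ∧
      ∀ [Fintype (P →* ℂˣ)] (χ : Cfsg.IrrCharacter G),
        ∑ φ : P →* ℂˣ, a P φ χ = e * ∑ i, a P (r i) χ := by
  classical
  haveI : Finite (P →* ℂˣ) := Nat.finite_of_card_ne_zero (by rw [card_dual hP]; exact Nat.card_pos.ne')
  let S : Setoid {φ : P →* ℂˣ // φ ≠ 1} :=
    { r := fun φ ψ => SameOrbit P φ.1 ψ.1
      iseqv := ⟨fun φ => (sameOrbit_equivalence P).refl _, (sameOrbit_equivalence P).symm,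
        (sameOrbit_equivalence P).trans⟩ }
  haveI := Fintype.ofFinite (Quotient S)
  haveI := Fintype.ofFinite {φ : P →* ℂˣ // φ ≠ 1}
  have hfib : ∀ o : Quotient S, Nat.card {φ : {φ : P →* ℂˣ // φ ≠ 1} // Quotient.mk S φ = o} = e := by
    intro o
    obtain ⟨φ₀, rfl⟩ := Quotient.exists_rep o
    rw [← he, ← card_orbit hP φ₀.2]
    refine Nat.card_congr
      { toFun := fun φ => ⟨φ.1.1, (sameOrbit_equivalence P).symm (Quotient.exact φ.2)⟩
        invFun := fun ψ => ⟨⟨ψ.1, ?_⟩, ?_⟩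
        left_inv := fun φ => rfl
        right_inv := fun ψ => rfl }
    · obtain ⟨n, hn⟩ := ψ.2
      rw [← hn]; exact conjDual_ne_one n φ₀.2
    · exact Quotient.sound ((sameOrbit_equivalence P).symm ψ.2)
  have hcnt : Fintype.card (Quotient S) = t := by
    have h := Nat.card_congr (Equiv.sigmaFiberEquiv (Quotient.mk S)).symm
    rw [Nat.card_sigma, Finset.sum_congr rfl fun o _ => hfib o, Finset.sum_const, Finset.card_univ,
      smul_eq_mul] at h
    haveI := Fintype.ofFinite (P →* ℂˣ)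
    have h2 : Nat.card {φ : P →* ℂˣ // φ ≠ 1} = Nat.card P - 1 := by
      rw [Nat.card_eq_fintype_card, Fintype.card_subtype_compl, Fintype.card_subtype_eq,
        ← Nat.card_eq_fintype_card, card_dual hP]
    have hepos : 0 < e := by
      rw [← he]
      exact Nat.pos_of_ne_zero (P.subgroupOf _).index_ne_zero_of_finite
    rw [h2, show Nat.card P - 1 = e * t by omega, mul_comm _ e] at h
    exact (Nat.eq_of_mul_eq_mul_left hepos h).symm
  let q : Fin t ≃ Quotient S := (Fintype.equivFinOfCardEq hcnt).symm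
  refine ⟨fun i => (q i).out.1, fun i => (q i).out.2, fun i j hij => ?_, ?_⟩
  · have : Quotient.mk S (q i).out = Quotient.mk S (q j).out := Quotient.sound hij
    rw [Quotient.out_eq, Quotient.out_eq] at this
    exact q.injective this
  · intro _ χ
    rw [Fintype.sum_eq_add_sum_compl (1 : P →* ℂˣ), a_one, zero_add,
      Finset.sum_subtype ({1} : Finset (P →* ℂˣ))ᶜ (p := fun φ => φ ≠ 1) (fun φ => by simp),
      ← Fintype.sum_fiberwise (Quotient.mk S), Finset.mul_sum, ← q.sum_comp]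
    refine Finset.sum_congr rfl fun i _ => ?_
    have hc : ∀ φ : {φ : {φ : P →* ℂˣ // φ ≠ 1} // Quotient.mk S φ = q i},
        a P φ.1.1 χ = a P (q i).out.1 χ := fun φ =>
      a_orbit (Quotient.exact (φ.2.trans (Quotient.out_eq _).symm)) χ
    rw [Finset.sum_congr rfl fun φ _ => hc φ, Finset.sum_const, Finset.card_univ, nsmul_eq_mul,
      ← Nat.card_eq_fintype_card, hfib]

/-- Degree data for one orbit of linear characters (`e = |P| - 1`). -/
theorem degree_data_one [IsSimpleGroup G] (hG : ¬ IsMulCommutative G) (hP : SelfCent P) {e : ℕ}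
    (he : P.relIndex (Subgroup.normalizer (P : Set G)) = e) (het : e + 1 = Nat.card P) :
    ∃ s : Multiset (ℤ × ℕ),
      (s.map fun v => v.1 ^ 2).sum = (e : ℤ) ∧
      1 + (s.map fun v => v.1 * (v.2 : ℤ)).sum = 0 ∧
      1 + (s.map fun v => v.2 ^ 2).sum ≤ Nat.card G ∧
      ∀ v ∈ s, v.1 ≠ 0 ∧ 1 < v.2 ∧ v.2 ∣ Nat.card G ∧ (Nat.card P : ℤ) ∣ (v.2 : ℤ) - v.1 := by
  classical
  haveI := Fintype.ofFinite (Cfsg.IrrCharacter G)
  haveI : Finite (P →* ℂˣ) := Nat.finite_of_card_ne_zero (by rw [card_dual hP]; exact Nat.card_pos.ne')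
  haveI := Fintype.ofFinite (P →* ℂˣ)
  obtain ⟨r, hr1, hrinj, hsum⟩ := exists_reps hP (t := 1) he (by omega)
  choose deg hdeg0 hdeg using fun χ : Cfsg.IrrCharacter G => irr_one_pos χ.2
  set φ₀ := r 0
  let f : Cfsg.IrrCharacter G → ℤ := a P φ₀
  have hgen := A_isGen (G := G) φ₀
  have hsq : ∑ χ, f χ ^ 2 = (e : ℤ) + 1 := by
    refine Lattice.sum_sq_of_norm hgen ?_
    rw [inner_A_eq hP (hr1 0) (hr1 0), if_pos ((sameOrbit_equivalence P).refl φ₀), he]
    push_cast; rfl
  have hdz : ∑ χ, f χ * (deg χ : ℤ) = 0 := by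
    have := Lattice.apply_eq_sum hgen 1
    rw [A_one] at this
    simp only [hdeg] at this
    exact_mod_cast this.symm
  have htriv : f (trivIrr G) = 1 := Lattice.coeff_eq_of_inner (by simpa using inner_A_one (hr1 0))
  have hdtriv : deg (trivIrr G) = 1 := by
    have h := hdeg (trivIrr G)
    simp only [trivIrr_coe] at h
    exact_mod_cast h.symm
  set R := (Finset.univ.erase (trivIrr G)).filter (fun χ => f χ ≠ 0) with hR
  have hmem : ∀ χ ∈ R, χ ≠ trivIrr G ∧ f χ ≠ 0 := fun χ hχ => by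
    simp only [hR, Finset.mem_filter, Finset.mem_erase] at hχ; exact ⟨hχ.1.1, hχ.2⟩
  refine ⟨R.val.map fun χ => (f χ, deg χ), ?_, ?_, ?_, ?_⟩
  · rw [Multiset.map_map]
    show ∑ χ ∈ R, f χ ^ 2 = _
    rw [hR, Finset.sum_filter_of_ne (by intro χ _ h e; simp [e] at h)]
    have := Finset.add_sum_erase Finset.univ (fun χ => f χ ^ 2) (Finset.mem_univ (trivIrr G))
    simp only [htriv, hsq] at this
    linarith
  · rw [Multiset.map_map]
    show 1 + ∑ χ ∈ R, f χ * (deg χ : ℤ) = 0
    rw [hR, Finset.sum_filter_of_ne (by intro χ _ h e; simp [e] at h)]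
    have := Finset.add_sum_erase Finset.univ (fun χ => f χ * (deg χ : ℤ)) (Finset.mem_univ (trivIrr G))
    simp only [htriv, hdtriv, hdz] at this
    push_cast at this
    linarith
  · rw [Multiset.map_map]
    show 1 + ∑ χ ∈ R, deg χ ^ 2 ≤ _
    have h := sum_degree_sq (G := G)
    simp only [hdeg] at h
    have h' : ∑ χ : Cfsg.IrrCharacter G, deg χ ^ 2 = Nat.card G := by exact_mod_cast h
    rw [← h', ← Finset.add_sum_erase Finset.univ (fun χ => deg χ ^ 2) (Finset.mem_univ (trivIrr G)), hdtriv]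
    simp only [one_pow]
    exact Nat.add_le_add_left (Finset.sum_le_sum_of_subset (Finset.filter_subset _ _)) _
  · intro v hv
    obtain ⟨χ, hχ, rfl⟩ := Multiset.mem_map.1 hv
    obtain ⟨hne, hf⟩ := hmem χ hχ
    refine ⟨hf, degree_ne_one hG hne (hdeg χ), ?_, ?_⟩
    · obtain ⟨d, hd1, -, hd2⟩ := irr_degree_dvd_card χ.2
      have : deg χ = d := by exact_mod_cast (hdeg χ).symm.trans hd1
      exact this ▸ hd2
    · have h := degree_congr hP χ (hdeg χ)
      rw [hsum χ] at h
      simp only [Fin.sum_univ_one] at h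
      have hh : (Nat.card P : ℤ) = (e : ℤ) + 1 := by exact_mod_cast het.symm
      obtain ⟨k, hk⟩ := h
      exact ⟨k - f χ, by rw [hh] at hk ⊢; linarith⟩

/-- Degree data for at least two orbits: `t` exceptional characters of degree `X`; each
member of `s` records an irreducible character of that degree. -/
theorem degree_data' [IsSimpleGroup G] (hG : ¬ IsMulCommutative G) (hP : SelfCent P) {e t : ℕ}
    (he : P.relIndex (Subgroup.normalizer (P : Set G)) = e) (het : e * t + 1 = Nat.card P)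
    (ht : 2 ≤ t) :
    ∃ (ε c : ℤ) (X : ℕ) (s : Multiset (ℤ × ℕ)),
      (ε = 1 ∨ ε = -1) ∧ 1 < X ∧ X ∣ Nat.card G ∧ (Nat.card P : ℤ) ∣ (X : ℤ) - c + e * ε ∧
      (c + ε) ^ 2 + ((t : ℤ) - 1) * c ^ 2 + (s.map fun v => v.1 ^ 2).sum = (e : ℤ) ∧
      1 + ((t : ℤ) * c + ε) * X + (s.map fun v => v.1 * (v.2 : ℤ)).sum = 0 ∧
      1 + t * X ^ 2 + (s.map fun v => v.2 ^ 2).sum ≤ Nat.card G ∧
      ∀ v ∈ s, v.1 ≠ 0 ∧ 1 < v.2 ∧ v.2 ∣ Nat.card G ∧ (Nat.card P : ℤ) ∣ (v.2 : ℤ) - v.1 ∧
        ∃ χ : Cfsg.IrrCharacter G, (χ : G → ℂ) 1 = (v.2 : ℂ) := by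
  classical
  haveI := Fintype.ofFinite (Cfsg.IrrCharacter G)
  haveI : Finite (P →* ℂˣ) := Nat.finite_of_card_ne_zero (by rw [card_dual hP]; exact Nat.card_pos.ne')
  haveI := Fintype.ofFinite (P →* ℂˣ)
  obtain ⟨r, hr1, hrinj, hsum⟩ := exists_reps hP he het
  choose deg hdeg0 hdeg using fun χ : Cfsg.IrrCharacter G => irr_one_pos χ.2
  haveI : NeZero t := ⟨by omega⟩
  set o : Fin t := 0
  have horbit : ∀ i j, SameOrbit P (r i) (r j) ↔ i = j := fun i j =>
    ⟨hrinj i j, fun h => h ▸ (sameOrbit_equivalence P).refl _⟩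
  have hI : ∀ i j, Cfsg.classInner (A P (r i)) (A P (r j)) = (e : ℂ) + if i = j then 1 else 0 := by
    intro i j
    rw [inner_A_eq hP (hr1 i) (hr1 j), he, if_congr (horbit i j) rfl rfl]
  have hgen : ∀ i, Cfsg.IsGeneralizedCharacter G (A P (r i)) := fun i => A_isGen _
  obtain ⟨ε, μ, hε, hμ, hd⟩ := Lattice.exists_differences o (fun i => A P (r i) - A P (r o))
    (sub_self _) (fun i _ => isGen_sub (hgen i) (hgen o))
    (fun i _ => by simp [A_one])
    (fun i hi => by
      simp only [classInner_sub_left, classInner_sub_right, hI, if_true, if_neg hi, if_neg (Ne.symm hi)]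
      ring)
    (fun i j hi hj hij => by
      simp only [classInner_sub_left, classInner_sub_right, hI, if_true, if_neg hi, if_neg (Ne.symm hj),
        if_neg hij]
      ring)
  have hε0 : ε ≠ 0 := by rcases hε with h | h <;> omega
  let f : Cfsg.IrrCharacter G → Fin t → ℤ := fun χ i => a P (r i) χ
  have hrel : ∀ χ i, f χ i = f χ o + ε * ((if μ i = χ then 1 else 0) - (if μ o = χ then 1 else 0)) := by
    intro χ i
    have h := congrArg (fun θ : G → ℂ => Cfsg.classInner θ (χ : G → ℂ)) (hd i)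
    simp only [classInner_sub_left, classInner_smul_left, classInner_irr,
      Lattice.coeff_spec (hgen _)] at h
    have h' : ((f χ i : ℤ) : ℂ) - (f χ o : ℂ) =
        ((ε * ((if μ i = χ then 1 else 0) - (if μ o = χ then 1 else 0)) : ℤ) : ℂ) := by
      push_cast; exact h
    rw [← Int.cast_sub, Int.cast_inj] at h'
    linarith
  set c : ℤ := f (μ o) o - ε with hc
  have hkey : ∀ j, j ≠ o → f (μ j) o = c := by
    intro j hj
    have h := congrArg (fun θ : G → ℂ => Cfsg.classInner θ (A P (r o))) (hd j)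
    simp only [classInner_sub_left, classInner_smul_left, hI, if_true, if_neg hj] at h
    rw [classInner_conj_symm (A P (r o)) (μ j : G → ℂ), classInner_conj_symm (A P (r o)) (μ o : G → ℂ),
      Lattice.coeff_spec (hgen o), Lattice.coeff_spec (hgen o), map_intCast, map_intCast] at h
    have h' : (-1 : ℤ) = ε * (f (μ j) o - f (μ o) o) := by
      have h2 : ((-1 : ℤ) : ℂ) = ((ε * (f (μ j) o - f (μ o) o) : ℤ) : ℂ) := by
        push_cast; simp only [f, a]; linear_combination h
      exact_mod_cast h2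
    rcases hε with h1 | h1 <;> rw [h1] at h' <;> rw [hc, h1] <;> linarith
  have hμval : ∀ j i, f (μ j) i = c + if i = j then ε else 0 := by
    intro j i
    rw [hrel, if_congr (hμ.eq_iff) rfl rfl, if_congr (hμ.eq_iff) rfl rfl]
    by_cases hj : j = o
    · subst hj
      rw [if_pos rfl, show f (μ o) o = c + ε by omega]
      split_ifs <;> ring
    · rw [hkey j hj, if_neg (Ne.symm hj)]
      split_ifs <;> ring
  have htriv : ∀ i, f (trivIrr G) i = 1 := fun i =>
    Lattice.coeff_eq_of_inner (by simpa using inner_A_one (hr1 i))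
  have hμne : ∀ j, μ j ≠ trivIrr G := by
    intro j hj
    obtain ⟨k, hk⟩ : ∃ k : Fin t, k ≠ j := by
      by_cases h : j = o
      · exact ⟨⟨1, by omega⟩, by subst h; simp [o, Fin.ext_iff]⟩
      · exact ⟨o, Ne.symm h⟩
    have h1 := hμval j j
    have h2 := hμval j k
    rw [hj, htriv, if_pos rfl] at h1
    rw [hj, htriv, if_neg hk] at h2
    omega
  set E : Finset (Cfsg.IrrCharacter G) := Finset.univ.image μ with hE
  set R := ((Finset.univ.erase (trivIrr G)) \ E).filter (fun χ => f χ o ≠ 0) with hR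
  have hsplit : ∀ {M : Type} [AddCommMonoid M] (F : Cfsg.IrrCharacter G → M),
      ∑ χ, F χ = F (trivIrr G) + ∑ j, F (μ j) + ∑ χ ∈ (Finset.univ.erase (trivIrr G)) \ E, F χ := by
    intro M _ F
    rw [← Finset.add_sum_erase _ _ (Finset.mem_univ (trivIrr G)), add_assoc]
    congr 1
    rw [← Finset.sum_image (f := F) (g := μ) (s := Finset.univ) (fun a _ b _ h => hμ h), ← hE,
      add_comm, Finset.sum_sdiff]
    intro χ hχ
    obtain ⟨j, -, rfl⟩ := Finset.mem_image.1 hχ
    exact Finset.mem_erase.2 ⟨hμne j, Finset.mem_univ _⟩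
  have hdtriv : deg (trivIrr G) = 1 := by
    have h := hdeg (trivIrr G)
    simp only [trivIrr_coe] at h
    exact_mod_cast h.symm
  have hX : ∀ j, deg (μ j) = deg (μ o) := by
    intro j
    have h := congrFun (hd j) 1
    simp only [Pi.sub_apply, A_one, sub_self, Pi.smul_apply, smul_eq_mul, hdeg] at h
    rcases mul_eq_zero.1 h.symm with h0 | h0
    · exact absurd (Int.cast_eq_zero.1 h0) hε0
    · exact_mod_cast sub_eq_zero.1 h0
  have hdvd : ∀ χ : Cfsg.IrrCharacter G, deg χ ∣ Nat.card G := fun χ => by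
    obtain ⟨d, hd1, -, hd2⟩ := irr_degree_dvd_card χ.2
    have : deg χ = d := by exact_mod_cast (hdeg χ).symm.trans hd1
    exact this ▸ hd2
  have hP1 : (Nat.card P : ℤ) = (e : ℤ) * t + 1 := by exact_mod_cast het.symm
  have hone : ∑ i : Fin t, (if i = o then ε else 0) = ε := by simp
  refine ⟨ε, c, deg (μ o), R.val.map fun χ => (f χ o, deg χ), hε, degree_ne_one hG (hμne o) (hdeg _),
    hdvd _, ?_, ?_, ?_, ?_, ?_⟩
  · have h := degree_congr hP (μ o) (hdeg _)
    rw [hsum, Finset.sum_congr rfl fun i _ => hμval o i, Finset.sum_add_distrib, hone] at h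
    simp only [Finset.sum_const, Finset.card_univ, Fintype.card_fin, nsmul_eq_mul] at h
    obtain ⟨k, hk⟩ := h
    exact ⟨k - c, by rw [hP1] at hk ⊢; linarith⟩
  · rw [Multiset.map_map]
    show _ + ∑ χ ∈ R, f χ o ^ 2 = _
    rw [hR, Finset.sum_filter_of_ne (by intro χ _ h e; simp [e] at h)]
    have h := Lattice.sum_sq_of_norm (hgen o) (n := (e : ℤ) + 1) (by rw [hI, if_pos rfl]; push_cast; rfl)
    change ∑ χ, f χ o ^ 2 = _ at h
    rw [hsplit, htriv, Finset.sum_congr rfl fun j _ => show f (μ j) o ^ 2 = c ^ 2 +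
      if j = o then (c + ε) ^ 2 - c ^ 2 else 0 by
        rw [hμval, if_congr (eq_comm (a := o) (b := j)) rfl rfl]; split_ifs <;> ring,
      Finset.sum_add_distrib, Finset.sum_const, Finset.card_univ, Fintype.card_fin,
      Finset.sum_ite_eq', if_pos (Finset.mem_univ o), nsmul_eq_mul] at h
    linarith
  · rw [Multiset.map_map]
    show _ + ∑ χ ∈ R, f χ o * (deg χ : ℤ) = 0
    rw [hR, Finset.sum_filter_of_ne (by intro χ _ h e; simp [e] at h)]
    have h : ∑ χ, f χ o * (deg χ : ℤ) = 0 := by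
      have := Lattice.apply_eq_sum (hgen o) 1
      rw [A_one] at this
      simp only [hdeg] at this
      exact_mod_cast this.symm
    rw [hsplit, htriv, hdtriv, Finset.sum_congr rfl fun j _ => show f (μ j) o * (deg (μ j) : ℤ) =
      c * deg (μ o) + if j = o then ε * deg (μ o) else 0 by
        rw [hμval, hX, if_congr (eq_comm (a := o) (b := j)) rfl rfl]; split_ifs <;> ring,
      Finset.sum_add_distrib, Finset.sum_const, Finset.card_univ, Fintype.card_fin,
      Finset.sum_ite_eq', if_pos (Finset.mem_univ o), nsmul_eq_mul] at h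
    push_cast at h
    linarith
  · rw [Multiset.map_map]
    show 1 + _ + ∑ χ ∈ R, deg χ ^ 2 ≤ _
    have h := sum_degree_sq (G := G)
    simp only [hdeg] at h
    have h' : ∑ χ : Cfsg.IrrCharacter G, deg χ ^ 2 = Nat.card G := by exact_mod_cast h
    rw [← h', hsplit, hdtriv]
    simp only [hX, Finset.sum_const, Finset.card_univ, Fintype.card_fin, smul_eq_mul, one_pow]
    exact Nat.add_le_add_left (Finset.sum_le_sum_of_subset (Finset.filter_subset _ _)) _
  · intro v hv
    obtain ⟨χ, hχ, rfl⟩ := Multiset.mem_map.1 hv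
    rw [← Finset.mem_def] at hχ
    simp only [hR, Finset.mem_filter, Finset.mem_sdiff, Finset.mem_erase, hE, Finset.mem_image,
      Finset.mem_univ, true_and, and_true, not_exists] at hχ
    obtain ⟨⟨hne, hnot⟩, hf⟩ := hχ
    refine ⟨hf, degree_ne_one hG hne (hdeg χ), hdvd χ, ?_⟩
    have h := degree_congr hP χ (hdeg χ)
    rw [hsum, Finset.sum_congr rfl fun i _ => show a P (r i) χ = f χ o by
      rw [show a P (r i) χ = f χ i from rfl, hrel, if_neg (hnot i), if_neg (hnot o)]; ring] at h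
    simp only [Finset.sum_const, Finset.card_univ, Fintype.card_fin, nsmul_eq_mul] at h
    obtain ⟨k, hk⟩ := h
    exact ⟨⟨k - f χ o, by rw [hP1] at hk ⊢; linarith⟩, χ, hdeg χ⟩

/-- Degree data for at least two orbits: `t` exceptional characters of degree `X`. -/
theorem degree_data [IsSimpleGroup G] (hG : ¬ IsMulCommutative G) (hP : SelfCent P) {e t : ℕ}
    (he : P.relIndex (Subgroup.normalizer (P : Set G)) = e) (het : e * t + 1 = Nat.card P)
    (ht : 2 ≤ t) :
    ∃ (ε c : ℤ) (X : ℕ) (s : Multiset (ℤ × ℕ)),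
      (ε = 1 ∨ ε = -1) ∧ 1 < X ∧ X ∣ Nat.card G ∧ (Nat.card P : ℤ) ∣ (X : ℤ) - c + e * ε ∧
      (c + ε) ^ 2 + ((t : ℤ) - 1) * c ^ 2 + (s.map fun v => v.1 ^ 2).sum = (e : ℤ) ∧
      1 + ((t : ℤ) * c + ε) * X + (s.map fun v => v.1 * (v.2 : ℤ)).sum = 0 ∧
      1 + t * X ^ 2 + (s.map fun v => v.2 ^ 2).sum ≤ Nat.card G ∧
      ∀ v ∈ s, v.1 ≠ 0 ∧ 1 < v.2 ∧ v.2 ∣ Nat.card G ∧ (Nat.card P : ℤ) ∣ (v.2 : ℤ) - v.1 := by
  obtain ⟨ε, c, X, s, h1, h2, h3, h4, h5, h6, h7, hs⟩ := degree_data' hG hP he het ht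
  exact ⟨ε, c, X, s, h1, h2, h3, h4, h5, h6, h7, fun v hv =>
    ⟨(hs v hv).1, (hs v hv).2.1, (hs v hv).2.2.1, (hs v hv).2.2.2.1⟩⟩

end Cfsg.Agent.SmallSimple.Exceptional
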