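import Cfsg.Agent.Lib.SmallSimple.Exceptional

/-!
# Helpers for "no simple group of order n"
-/

set_option linter.style.haveILetI false

namespace Cfsg.Agent.SmallSimple.Orders

open Cfsg.Agent.SmallSimple Subgroup

variable {G : Type*} [Group G] [Finite G]

/-- A self-centralizing Sylow subgroup of prime order, from a prime index in the normalizer. -/
theorem selfCent_of_prime_index [IsSimpleGroup G] (hG : ¬ IsMulCommutative G) {p e : ℕ} [Fact p.Prime]
    (P : Sylow p G) (hP : Nat.card (P : Subgroup G) = p) (he : e.Prime)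
    (hN : Nat.card (normalizer ((P : Subgroup G) : Set G)) = p * e) :
    Exceptional.SelfCent (P : Subgroup G) ∧
      (P : Subgroup G).relIndex (normalizer ((P : Subgroup G) : Set G)) = e := by
  have hp : p.Prime := Fact.out
  haveI : IsCyclic (P : Subgroup G) := isCyclic_of_prime_card hP
  have hpG : p ∣ Nat.card G := hP ▸ card_subgroup_dvd_card (P : Subgroup G)
  have hrel : (P : Subgroup G).relIndex (normalizer ((P : Subgroup G) : Set G)) = e := by
    have h := relIndex_mul_relIndex ⊥ (P : Subgroup G) (normalizer ((P : Subgroup G) : Set G)) bot_le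
      le_normalizer
    rw [relIndex_bot_left, relIndex_bot_left, hP, hN] at h
    exact Nat.eq_of_mul_eq_mul_left hp.pos h
  refine ⟨⟨Basic.sylow_ne_bot hpG P, fun x hx hx1 => ?_⟩, hrel⟩
  set C := centralizer ((P : Subgroup G) : Set G)
  have hPC : (P : Subgroup G) ≤ C := le_centralizer _
  have hCN : C ≤ normalizer ((P : Subgroup G) : Set G) := centralizer_le_normalizer _
  have hCP : C = (P : Subgroup G) := by
    have hm := relIndex_mul_relIndex _ C _ hPC hCN
    rw [hrel] at hm
    rcases (Nat.dvd_prime he).1 ⟨_, hm.symm⟩ with h | h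
    · exact le_antisymm (relIndex_eq_one.1 h) hPC
    · rw [h] at hm
      refine absurd (relIndex_eq_one.1 (Nat.eq_of_mul_eq_mul_left he.pos (hm.trans (mul_one e).symm))) ?_
      exact Basic.not_normalizer_le_centralizer hG hpG P
  have hgen : zpowers x = (P : Subgroup G) := by
    refine eq_of_le_of_card_ge (zpowers_le.2 hx) ?_
    rw [Nat.card_zpowers, hP]
    have h : orderOf (⟨x, hx⟩ : (P : Subgroup G)) = p :=
      orderOf_eq_prime ((congrArg ((⟨x, hx⟩ : (P : Subgroup G)) ^ ·) hP.symm).trans pow_card_eq_one')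
        (fun e => hx1 (congrArg Subtype.val e))
    rw [Subgroup.orderOf_mk] at h
    exact h.ge
  refine le_antisymm ?_ fun y hy => mem_centralizer_singleton_iff.2
    (congrArg Subtype.val (mul_comm' (⟨y, hy⟩ : (P : Subgroup G)) ⟨x, hx⟩))
  rw [← centralizer_closure {x}, ← zpowers_eq_closure, hgen]
  exact hCP.le

/-- Sylow subgroup of prime order with a forced Sylow number. -/
theorem exists_selfCent [IsSimpleGroup G] (hG : ¬ IsMulCommutative G) {p m n e : ℕ} [Fact p.Prime]
    (hcard : Nat.card G = p * m) (hm : ¬ p ∣ m) (he : e.Prime) (hne : n * e = m)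
    (hn : Nat.card (Sylow p G) = n) :
    ∃ P : Subgroup G, Exceptional.SelfCent P ∧
      P.relIndex (normalizer (P : Set G)) = e ∧ Nat.card P = p := by
  have P : Sylow p G := default
  have hP : Nat.card (P : Subgroup G) = p := by
    simpa using Basic.card_sylow_eq_pow (a := 1) (by rw [hcard, pow_one]) hm P
  have hN : Nat.card (normalizer ((P : Subgroup G) : Set G)) = p * e := by
    have h := Basic.card_normalizer_mul P
    rw [hn, hcard, ← hne] at h
    have hn0 : 0 < n := hn ▸ Nat.card_pos
    refine Nat.eq_of_mul_eq_mul_right hn0 ?_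
    rw [h]; ring
  exact ⟨P, (selfCent_of_prime_index hG P hP he hN).1, (selfCent_of_prime_index hG P hP he hN).2, hP⟩

theorem multiset_card_le (s : Multiset (ℤ × ℕ)) (h : ∀ v ∈ s, v.1 ≠ 0) :
    (Multiset.card s : ℤ) ≤ (s.map fun v => v.1 ^ 2).sum := by
  induction s using Multiset.induction_on with
  | empty => simp
  | cons a s ih =>
    simp only [Multiset.card_cons, Nat.cast_add, Nat.cast_one, Multiset.map_cons, Multiset.sum_cons]
    have h1 : 1 ≤ a.1 ^ 2 :=
      Int.add_one_le_iff.2 (sq_pos_of_ne_zero (h a (Multiset.mem_cons_self a s)))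
    have h2 := ih fun v hv => h v (Multiset.mem_cons_of_mem hv)
    linarith

/-- When `t - 1 > e`, the constant in the degree data vanishes. -/
theorem c_eq_zero {e t : ℕ} {ε c r : ℤ} (hε : ε = 1 ∨ ε = -1) (ht : e + 1 < t) (hr : 0 ≤ r)
    (h : (c + ε) ^ 2 + ((t : ℤ) - 1) * c ^ 2 + r = (e : ℤ)) : c = 0 ∧ r = (e : ℤ) - 1 := by
  have hc : c = 0 := by
    by_contra hc
    have h1 : 1 ≤ c ^ 2 := Int.add_one_le_iff.2 (sq_pos_of_ne_zero hc)
    have h2 : (e : ℤ) + 1 < t := by exact_mod_cast ht
    nlinarith [sq_nonneg (c + ε)]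
  subst hc
  refine ⟨rfl, ?_⟩
  rcases hε with rfl | rfl <;> linarith

end Cfsg.Agent.SmallSimple.Orders
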