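import Cfsg.Agent.Lib.SmallSimple.Orders

/-!
# Simple groups of order 168: Sylow numbers, centralisers, classes
-/

set_option linter.style.haveILetI false
set_option linter.unusedSectionVars false

namespace Cfsg.Agent.SmallSimple.Order168

open Subgroup Orders

variable {G : Type*} [Group G] [Finite G]

/-- Elements of prime order when the Sylow subgroups have prime order. -/
theorem card_orderOf_eq {p : ℕ} [Fact p.Prime] (hc : ∀ P : Sylow p G, Nat.card (P : Subgroup G) = p) :
    Nat.card {y : G // orderOf y = p} = Nat.card (Sylow p G) * (p - 1) := by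
  classical
  have hp : p.Prime := Fact.out
  haveI := Fintype.ofFinite (Sylow p G)
  obtain P : Sylow p G := default
  have e : {y : G // orderOf y = p} ≃ Σ Q : Sylow p G, {y : (Q : Subgroup G) // y ≠ 1} :=
    { toFun := fun y =>
        ⟨Sylow.ofCard (zpowers y.1) (by rw [Nat.card_zpowers, y.2, ← P.card_eq_multiplicity, hc]),
          ⟨⟨y.1, mem_zpowers _⟩, fun he => by
            have := y.2
            rw [show y.1 = 1 from congrArg Subtype.val he, orderOf_one] at this
            exact hp.one_lt.ne this⟩⟩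
      invFun := fun s => ⟨(s.2.1 : G), by
        rw [Subgroup.orderOf_coe]
        exact orderOf_eq_prime ((congrArg (s.2.1 ^ ·) (hc s.1).symm).trans pow_card_eq_one') s.2.2⟩
      left_inv := fun y => rfl
      right_inv := fun ⟨Q, a⟩ => by
        have hq : ∀ (Q₁ Q₂ : Sylow p G) (_ : Q₁ = Q₂) (a : {y : (Q₁ : Subgroup G) // y ≠ 1})
            (b : {y : (Q₂ : Subgroup G) // y ≠ 1}), (a.1 : G) = b.1 →
            (⟨Q₁, a⟩ : Σ Q : Sylow p G, {y : (Q : Subgroup G) // y ≠ 1}) = ⟨Q₂, b⟩ := by
          rintro Q₁ Q₂ rfl a b hab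
          rw [Subtype.ext (Subtype.ext hab : a.1 = b.1)]
        refine hq _ _ (Sylow.ext ?_) _ _ rfl
        have hy : orderOf a.1 = p :=
          orderOf_eq_prime ((congrArg (a.1 ^ ·) (hc Q).symm).trans pow_card_eq_one') a.2
        rw [Sylow.coe_ofCard]
        exact eq_of_le_of_card_ge (zpowers_le.2 a.1.2)
          (by rw [Nat.card_zpowers, Subgroup.orderOf_coe, hy, hc]) }
  rw [Nat.card_congr e, Nat.card_sigma]
  have : ∀ Q : Sylow p G, Nat.card {y : (Q : Subgroup G) // y ≠ 1} = p - 1 := fun Q => by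
    haveI := Fintype.ofFinite (Q : Subgroup G)
    rw [Nat.card_eq_fintype_card, Fintype.card_subtype_compl, Fintype.card_subtype_eq,
      ← Nat.card_eq_fintype_card, hc]
  rw [Finset.sum_congr rfl fun Q _ => this Q, Finset.sum_const, Finset.card_univ, smul_eq_mul,
    Nat.card_eq_fintype_card]

theorem mul_centralizer {x : G} {n : ℕ} (h : Nat.card (centralizer ({x} : Set G)) = n) (hn : 0 < n)
    {m : ℕ} (hm : Nat.card G = n * m) : Nat.card {y : G // IsConj x y} = m := by
  have h1 := Basic.card_centralizer_mul_card_class x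
  rw [h, hm] at h1
  exact Nat.eq_of_mul_eq_mul_left hn h1

theorem class_eq_all {x : G} {d : ℕ} (hx : orderOf x = d) {m : ℕ}
    (h1 : Nat.card {y : G // IsConj x y} = m) (h2 : Nat.card {y : G // orderOf y = d} ≤ m) {y : G}
    (hy : orderOf y = d) : IsConj x y := by
  have hsub : {y : G | IsConj x y} ⊆ {y : G | orderOf y = d} := fun z hz => by
    obtain ⟨c, rfl⟩ := isConj_iff.1 hz
    rw [Set.mem_ofPred_eq, ← MulAut.conj_apply, MulEquiv.orderOf_eq, hx]
  have heq := Set.eq_of_subset_of_ncard_le hsub (by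
    rw [← Nat.card_coe_set_eq, ← Nat.card_coe_set_eq]
    exact h2.trans h1.ge) (Set.toFinite _)
  have : y ∈ {y : G | IsConj x y} := by rw [heq]; exact hy
  exact this

variable [IsSimpleGroup G] (h : Nat.card G = 168)

include h

theorem nonab : ¬ IsMulCommutative G := Basic.not_comm_of_not_prime (by rw [h]; norm_num)

theorem card_sylow7 [Fact (Nat.Prime 7)] (P : Sylow 7 G) : Nat.card (P : Subgroup G) = 7 := by
  simpa using Basic.card_sylow_eq_pow (a := 1) (m := 24) (by rw [h]; norm_num) (by norm_num) P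

theorem card_sylow3 [Fact (Nat.Prime 3)] (P : Sylow 3 G) : Nat.card (P : Subgroup G) = 3 := by
  simpa using Basic.card_sylow_eq_pow (a := 1) (m := 56) (by rw [h]; norm_num) (by norm_num) P

theorem card_sylow2 [Fact (Nat.Prime 2)] (P : Sylow 2 G) : Nat.card (P : Subgroup G) = 8 := by
  simpa using Basic.card_sylow_eq_pow (a := 3) (m := 21) (by rw [h]; norm_num) (by norm_num) P

theorem n7 : Nat.card (Sylow 7 G) = 8 := by
  haveI : Fact (Nat.Prime 7) := ⟨by norm_num⟩
  obtain ⟨hd, hm, h1, -⟩ := Basic.sylow_count (p := 7) (nonab h) (by rw [h]; norm_num) (a := 1)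
    (m := 24) (by rw [h]; norm_num) (by norm_num)
  have := Nat.le_of_dvd (by norm_num) hd
  revert hm hd
  interval_cases hn : Nat.card (Sylow 7 G) <;> norm_num

theorem normalizer7 [Fact (Nat.Prime 7)] (P : Sylow 7 G) :
    Nat.card (normalizer ((P : Subgroup G) : Set G)) = 7 * 3 := by
  have := Basic.card_normalizer_mul P
  rw [n7 h, h] at this
  omega

theorem cent7 {x : G} (hx : orderOf x = 7) :
    centralizer ({x} : Set G) = zpowers x ∧ Nat.card (centralizer ({x} : Set G)) = 7 := by
  haveI : Fact (Nat.Prime 7) := ⟨by norm_num⟩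
  obtain ⟨P, hP⟩ := (IsPGroup.of_card (n := 1) (G := zpowers x)
    (by rw [Nat.card_zpowers, hx, pow_one])).exists_le_sylow
  have hPx : zpowers x = (P : Subgroup G) :=
    eq_of_le_of_card_ge hP (by rw [card_sylow7 h, Nat.card_zpowers, hx])
  obtain ⟨hS, -⟩ := selfCent_of_prime_index (nonab h) P (card_sylow7 h P) Nat.prime_three
    (normalizer7 h P)
  have hx1 : x ≠ 1 := fun e => by rw [e, orderOf_one] at hx; norm_num at hx
  have e := hS.2 x (hP (mem_zpowers x)) hx1
  rw [← hPx] at e
  exact ⟨e, by rw [e, Nat.card_zpowers, hx]⟩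

theorem n3 : Nat.card (Sylow 3 G) = 28 := by
  classical
  haveI : Fact (Nat.Prime 3) := ⟨Nat.prime_three⟩
  haveI : Fact (Nat.Prime 7) := ⟨by norm_num⟩
  obtain ⟨hd, hm, h1, hf⟩ := Basic.sylow_count (p := 3) (nonab h) (by rw [h]; norm_num) (a := 1)
    (m := 56) (by rw [h]; norm_num) (by norm_num)
  rw [h] at hf
  have h56 := Nat.le_of_dvd (by norm_num) hd
  by_contra hne
  have h7 : Nat.card (Sylow 3 G) = 7 := by
    revert hm hd hf hne
    interval_cases hn : Nat.card (Sylow 3 G) <;> norm_num [Nat.factorial]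
  obtain Q : Sylow 7 G := default
  set N := normalizer ((Q : Subgroup G) : Set G) with hN
  have hcN : Nat.card N = 21 := normalizer7 h Q
  have hS : ∀ S : Sylow 3 N, Nat.card (S : Subgroup N) = 3 := fun S => by
    simpa using Basic.card_sylow_eq_pow (a := 1) (m := 7) (by rw [hcN]; norm_num) (by norm_num) S
  let f : Sylow 3 N → Sylow 3 G := fun S => Sylow.ofCard ((S : Subgroup N).map N.subtype) (by
    rw [card_map_of_injective N.subtype_injective, hS, ← (default : Sylow 3 G).card_eq_multiplicity,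
      card_sylow3 h])
  have hf_inj : Function.Injective f := fun S S' e => Sylow.ext
    (map_injective N.subtype_injective (congrArg Sylow.toSubgroup e))
  -- `N` has seven Sylow 3-subgroups
  have hN7 : Nat.card (Sylow 3 N) = 7 := by
    obtain S : Sylow 3 N := default
    have hd' : Nat.card (Sylow 3 N) ∣ 7 := by
      have h1 := S.card_dvd_index
      have h2 := card_mul_index (S : Subgroup N)
      rw [hS, hcN] at h2
      rwa [show (S : Subgroup N).index = 7 by omega] at h1
    refine ((Nat.dvd_prime (by norm_num)).1 hd').resolve_left fun hone => ?_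
    haveI : Subsingleton (Sylow 3 N) := Finite.card_le_one_iff_subsingleton.1 hone.le
    haveI hSn : (S : Subgroup N).Normal := Sylow.normal_of_subsingleton S
    haveI : Nontrivial (S : Subgroup N) := Finite.one_lt_card_iff_nontrivial.1 (by rw [hS]; norm_num)
    obtain ⟨y, hy⟩ := exists_ne (1 : (S : Subgroup N))
    have hy3 : orderOf ((y : N) : G) = 3 := by
      rw [Subgroup.orderOf_coe, Subgroup.orderOf_coe]
      exact orderOf_eq_prime ((congrArg (y ^ ·) (hS S).symm).trans pow_card_eq_one') hy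
    obtain ⟨x, hx⟩ := exists_prime_orderOf_dvd_card' (G := (Q : Subgroup G)) 7
      (by rw [card_sylow7 h])
    have hxN : (x : G) ∈ N := le_normalizer x.2
    -- the commutator lies in `S` and in `Q`
    set c : G := (y : N) * x * ((y : N) : G)⁻¹ * (x : G)⁻¹ with hc
    have hcQ : c ∈ (Q : Subgroup G) :=
      (Q : Subgroup G).mul_mem ((mem_normalizer_iff.1 (y : N).2 _).1 x.2) ((Q : Subgroup G).inv_mem x.2)
    have hcS : c ∈ (S : Subgroup N).map N.subtype := by
      refine ⟨(y : N) * (⟨(x : G), hxN⟩ * (y : N)⁻¹ * ⟨(x : G), hxN⟩⁻¹),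
        (S : Subgroup N).mul_mem y.2 (hSn.conj_mem _ ((S : Subgroup N).inv_mem y.2) _), ?_⟩
      simp [hc, mul_assoc]
    have hc1 : c = 1 := by
      have hco : Nat.Coprime (Nat.card ((S : Subgroup N).map N.subtype)) (Nat.card (Q : Subgroup G)) := by
        rw [card_map_of_injective N.subtype_injective, hS, card_sylow7 h]; norm_num
      have : c ∈ (S : Subgroup N).map N.subtype ⊓ (Q : Subgroup G) := ⟨hcS, hcQ⟩
      rwa [inf_eq_bot_of_coprime hco, Subgroup.mem_bot] at this
    have hyx : ((y : N) : G) ∈ centralizer ({(x : G)} : Set G) := by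
      rw [mem_centralizer_singleton_iff]
      rw [hc, mul_inv_eq_one, mul_inv_eq_iff_eq_mul] at hc1
      exact hc1
    have h' := orderOf_dvd_natCard (⟨_, hyx⟩ : centralizer ({(x : G)} : Set G))
    rw [Subgroup.orderOf_mk, hy3, (cent7 h (by rw [Subgroup.orderOf_coe, hx])).2] at h'
    norm_num at h'
  have hbij : Function.Bijective f :=
    (Nat.bijective_iff_injective_and_card f).2 ⟨hf_inj, by rw [hN7, h7]⟩
  have hle : ∀ P : Sylow 3 G, (P : Subgroup G) ≤ N := fun P => by
    obtain ⟨S, rfl⟩ := hbij.2 P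
    exact map_subtype_le _
  obtain P : Sylow 3 G := default
  have hcore : (P : Subgroup G) ≤ N.normalCore := fun y hy b => by
    refine hle (b • P) ?_
    rw [Sylow.coe_subgroup_smul]
    exact ⟨y, hy, rfl⟩
  have htop : N.normalCore = ⊥ := by
    rcases (normalCore_normal N).eq_bot_or_eq_top with e | e
    · exact e
    · exfalso
      have : N = ⊤ := top_le_iff.1 (e ▸ normalCore_le N)
      rw [this, card_top, h] at hcN
      norm_num at hcN
  have := card_dvd_of_le (htop ▸ hcore)
  rw [card_sylow3 h, card_bot] at this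
  norm_num at this

theorem normalizer3 [Fact (Nat.Prime 3)] (P : Sylow 3 G) :
    Nat.card (normalizer ((P : Subgroup G) : Set G)) = 3 * 2 := by
  have := Basic.card_normalizer_mul P
  rw [n3 h, h] at this
  omega

theorem cent3 {x : G} (hx : orderOf x = 3) :
    centralizer ({x} : Set G) = zpowers x ∧ Nat.card (centralizer ({x} : Set G)) = 3 := by
  haveI : Fact (Nat.Prime 3) := ⟨by norm_num⟩
  obtain ⟨P, hP⟩ := (IsPGroup.of_card (n := 1) (G := zpowers x)
    (by rw [Nat.card_zpowers, hx, pow_one])).exists_le_sylow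
  have hPx : zpowers x = (P : Subgroup G) :=
    eq_of_le_of_card_ge hP (by rw [card_sylow3 h, Nat.card_zpowers, hx])
  obtain ⟨hS, -⟩ := selfCent_of_prime_index (nonab h) P (card_sylow3 h P) Nat.prime_two
    (normalizer3 h P)
  have hx1 : x ≠ 1 := fun e => by rw [e, orderOf_one] at hx; norm_num at hx
  have e := hS.2 x (hP (mem_zpowers x)) hx1
  rw [← hPx] at e
  exact ⟨e, by rw [e, Nat.card_zpowers, hx]⟩

theorem orderOf_cases (g : G) :
    orderOf g = 1 ∨ orderOf g = 2 ∨ orderOf g = 3 ∨ orderOf g = 4 ∨ orderOf g = 7 := by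
  have hd : orderOf g ∣ 168 := h ▸ orderOf_dvd_natCard g
  have hp : ∀ p, (p = 3 ∨ p = 7) → p ∣ orderOf g → orderOf g = p := by
    intro p hp hdp
    obtain ⟨k, hk⟩ := hdp
    have hk0 : k ≠ 0 := fun e => (orderOf_pos g).ne' (by rw [hk, e, mul_zero])
    have hord : orderOf (g ^ k) = p := by
      rw [orderOf_pow_of_dvd hk0 ⟨p, by rw [hk, mul_comm]⟩, hk,
        Nat.mul_div_cancel _ (Nat.pos_of_ne_zero hk0)]
    have hmem : g ∈ centralizer ({g ^ k} : Set G) :=
      mem_centralizer_singleton_iff.2 (Commute.self_pow g k).eq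
    have hle := orderOf_dvd_natCard (⟨g, hmem⟩ : centralizer ({g ^ k} : Set G))
    rw [Subgroup.orderOf_mk] at hle
    rcases hp with rfl | rfl
    · rw [(cent3 h hord).2] at hle
      exact ((Nat.dvd_prime Nat.prime_three).1 hle).resolve_left fun e => by omega
    · rw [(cent7 h hord).2] at hle
      exact ((Nat.dvd_prime (by norm_num)).1 hle).resolve_left fun e => by omega
  by_cases h3 : 3 ∣ orderOf g
  · exact Or.inr (Or.inr (Or.inl (hp 3 (Or.inl rfl) h3)))
  by_cases h7 : 7 ∣ orderOf g
  · exact Or.inr (Or.inr (Or.inr (Or.inr (hp 7 (Or.inr rfl) h7))))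
  have h8 : orderOf g ∣ 2 ^ 3 := by
    have c3 : Nat.Coprime (orderOf g) 3 := ((Nat.prime_three.coprime_iff_not_dvd).2 h3).symm
    have c7 : Nat.Coprime (orderOf g) 7 := (((by norm_num : Nat.Prime 7).coprime_iff_not_dvd).2 h7).symm
    exact (c3.mul_right c7).dvd_of_dvd_mul_left (show orderOf g ∣ 3 * 7 * 2 ^ 3 by simpa using hd)
  obtain ⟨k, hk, hk'⟩ := (Nat.dvd_prime_pow Nat.prime_two).1 h8
  interval_cases k <;> norm_num at hk' <;> simp only [hk'] <;> norm_num
  haveI : Fact (Nat.Prime 2) := ⟨Nat.prime_two⟩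
  obtain ⟨T, hT⟩ := (IsPGroup.of_card (p := 2) (n := 3) (G := zpowers g)
    (by rw [Nat.card_zpowers, hk']; norm_num)).exists_le_sylow
  have hTg : zpowers g = (T : Subgroup G) :=
    eq_of_le_of_card_ge hT (by rw [card_sylow2 h, Nat.card_zpowers, hk'])
  haveI hcyc : IsCyclic (T : Subgroup G) := hTg ▸ (inferInstance : IsCyclic (zpowers g))
  exact absurd (hcyc.normalizer_le_centralizer (by rw [h]; norm_num))
    (Basic.not_normalizer_le_centralizer (nonab h) (by rw [h]; norm_num) T)

theorem card3 : Nat.card {g : G // orderOf g = 3} = 56 := by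
  haveI : Fact (Nat.Prime 3) := ⟨by norm_num⟩
  rw [card_orderOf_eq (card_sylow3 h), n3 h]

theorem card7 : Nat.card {g : G // orderOf g = 7} = 48 := by
  haveI : Fact (Nat.Prime 7) := ⟨by norm_num⟩
  rw [card_orderOf_eq (card_sylow7 h), n7 h]

theorem card2_add_card4 :
    Nat.card {g : G // orderOf g = 2} + Nat.card {g : G // orderOf g = 4} = 63 := by
  classical
  haveI := Fintype.ofFinite G
  have hsum := Finset.card_eq_sum_card_fiberwise (f := fun g : G => orderOf g)
    (s := Finset.univ) (t := ({1, 2, 3, 4, 7} : Finset ℕ)) (fun g _ => by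
      rcases orderOf_cases h g with e | e | e | e | e <;> simp [e])
  have hc : ∀ d : ℕ, (Finset.univ.filter fun g : G => orderOf g = d).card =
      Nat.card {g : G // orderOf g = d} := fun d => by
    rw [Nat.card_eq_fintype_card, Fintype.card_subtype]
  simp only [Finset.sum_insert, Finset.mem_insert, Finset.mem_singleton, Finset.sum_singleton,
    Nat.reduceEqDiff, or_self, not_false_eq_true, hc, card3 h, card7 h] at hsum
  rw [Finset.card_univ, ← Nat.card_eq_fintype_card, h] at hsum
  have h1 : Nat.card {g : G // orderOf g = 1} = 1 := by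
    rw [Nat.card_eq_one_iff_unique]
    exact ⟨⟨fun a b => Subtype.ext
      ((orderOf_eq_one_iff.1 a.2).trans (orderOf_eq_one_iff.1 b.2).symm)⟩, ⟨⟨1, orderOf_one⟩⟩⟩
  omega

theorem n2 : Nat.card (Sylow 2 G) = 21 := by
  classical
  haveI : Fact (Nat.Prime 2) := ⟨Nat.prime_two⟩
  obtain ⟨hd, hm, h1, hf⟩ := Basic.sylow_count (p := 2) (nonab h) (by rw [h]; norm_num) (a := 3)
    (m := 21) (by rw [h]; norm_num) (by norm_num)
  rw [h] at hf
  have := Nat.le_of_dvd (by norm_num) hd
  by_contra hne
  have hle : Nat.card (Sylow 2 G) ≤ 7 := by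
    revert hd hne
    interval_cases hn : Nat.card (Sylow 2 G) <;> norm_num
  haveI := Fintype.ofFinite (Sylow 2 G)
  have hsur : Nat.card {g : G // orderOf g = 2 ∨ orderOf g = 4} ≤
      Nat.card (Σ T : Sylow 2 G, {t : (T : Subgroup G) // t ≠ 1}) := by
    have hex : ∀ g : {g : G // orderOf g = 2 ∨ orderOf g = 4}, ∃ T : Sylow 2 G, g.1 ∈ (T : Subgroup G) := by
      rintro ⟨g, hg⟩
      have hp : IsPGroup 2 (zpowers g) := by
        rcases hg with e | e
        · exact IsPGroup.of_card (n := 1) (by rw [Nat.card_zpowers, e]; norm_num)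
        · exact IsPGroup.of_card (n := 2) (by rw [Nat.card_zpowers, e]; norm_num)
      obtain ⟨T, hT⟩ := hp.exists_le_sylow
      exact ⟨T, hT (mem_zpowers g)⟩
    choose T hT using hex
    refine Nat.card_le_card_of_injective (fun g => ⟨T g, ⟨⟨g.1, hT g⟩, fun e => ?_⟩⟩) ?_
    · have e' : g.1 = 1 := congrArg Subtype.val e
      rcases g.2 with h2 | h2 <;> rw [e', orderOf_one] at h2 <;> norm_num at h2
    · intro a b e
      exact Subtype.ext (congrArg (fun s : Σ T : Sylow 2 G, {t : (T : Subgroup G) // t ≠ 1} =>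
        (s.2.1 : G)) e)
  rw [Nat.card_sigma] at hsur
  have h7 : ∀ T : Sylow 2 G, Nat.card {t : (T : Subgroup G) // t ≠ 1} = 7 := fun T => by
    haveI := Fintype.ofFinite (T : Subgroup G)
    rw [Nat.card_eq_fintype_card, Fintype.card_subtype_compl, Fintype.card_subtype_eq,
      ← Nat.card_eq_fintype_card, card_sylow2 h]
  rw [Finset.sum_congr rfl fun T _ => h7 T, Finset.sum_const, smul_eq_mul, Finset.card_univ,
    ← Nat.card_eq_fintype_card] at hsur
  have hsplit : Nat.card {g : G // orderOf g = 2 ∨ orderOf g = 4} = 63 := by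
    haveI := Fintype.ofFinite G
    have := card2_add_card4 h
    simp only [Nat.card_eq_fintype_card, Fintype.card_subtype] at this ⊢
    rw [Finset.filter_or, Finset.card_union_of_disjoint]
    · exact this
    · rw [Finset.disjoint_filter]; intro g _ e; omega
  omega

theorem normalizer2 [Fact (Nat.Prime 2)] (T : Sylow 2 G) :
    normalizer ((T : Subgroup G) : Set G) = T := by
  have := Basic.card_normalizer_mul T
  rw [n2 h, h] at this
  exact (eq_of_le_of_card_ge le_normalizer (by rw [card_sylow2 h]; omega)).symm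

theorem sylow2_nonab [Fact (Nat.Prime 2)] (T : Sylow 2 G) :
    ¬ ∀ a ∈ (T : Subgroup G), ∀ b ∈ (T : Subgroup G), a * b = b * a := fun hab =>
  Basic.not_normalizer_le_centralizer (nonab h) (by rw [h]; norm_num) T (by
    rw [normalizer2 h T]
    exact fun a ha b hb => hab b hb a ha)

/-- The centre of a Sylow 2-subgroup has at most two elements. -/
theorem central_unique [Fact (Nat.Prime 2)] (T : Sylow 2 G) {z z' : G} (hz : z ∈ (T : Subgroup G))
    (hz1 : z ≠ 1) (hz' : z' ∈ (T : Subgroup G)) (hz1' : z' ≠ 1)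
    (hc : ∀ t ∈ (T : Subgroup G), t * z = z * t) (hc' : ∀ t ∈ (T : Subgroup G), t * z' = z' * t) :
    z = z' := by
  classical
  by_contra hne
  apply sylow2_nonab h T
  set Z := (T : Subgroup G) ⊓ centralizer ((T : Subgroup G) : Set G) with hZ
  have hZ3 : 3 ≤ Nat.card Z := by
    haveI := Fintype.ofFinite Z
    rw [Nat.card_eq_fintype_card]
    let e1 : Z := 1
    let e2 : Z := ⟨z, hz, fun t ht => hc t ht⟩
    let e3 : Z := ⟨z', hz', fun t ht => hc' t ht⟩
    have : ({e1, e2, e3} : Finset Z).card = 3 := by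
      refine Finset.card_eq_three.2 ⟨e1, e2, e3, ?_, ?_, ?_, rfl⟩
      · exact fun e => hz1 (congrArg Subtype.val e).symm
      · exact fun e => hz1' (congrArg Subtype.val e).symm
      · exact fun e => hne (congrArg Subtype.val e)
    exact this ▸ Finset.card_le_univ _
  have hd : Nat.card Z ∣ 2 ^ 3 := by
    have h' := card_dvd_of_le (inf_le_left : Z ≤ (T : Subgroup G))
    rw [card_sylow2 h] at h'
    exact h'
  obtain ⟨k, hk, hk'⟩ := (Nat.dvd_prime_pow Nat.prime_two).1 hd
  intro a ha b hb
  by_cases haZ : a ∈ Z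
  · exact (haZ.2 b hb).symm
  set Ca := (T : Subgroup G) ⊓ centralizer ({a} : Set G) with hCa
  have hZCa : Z ≤ Ca := fun y hy => ⟨hy.1, mem_centralizer_singleton_iff.2 (hy.2 a ha).symm⟩
  have haCa : a ∈ Ca := ⟨ha, mem_centralizer_singleton_iff.2 rfl⟩
  have hlt : Nat.card Z < Nat.card Ca := by
    rcases (card_le_of_le hZCa).lt_or_eq with h' | h'
    · exact h'
    · exact absurd ((eq_of_le_of_card_ge hZCa h'.ge).symm ▸ haCa : a ∈ Z) haZ
  have hd2 : Nat.card Ca ∣ 2 ^ 3 := by
    have h' := card_dvd_of_le (inf_le_left : Ca ≤ (T : Subgroup G))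
    rw [card_sylow2 h] at h'
    exact h'
  obtain ⟨l, hl, hl'⟩ := (Nat.dvd_prime_pow Nat.prime_two).1 hd2
  have hl3 : l = 3 := by
    rw [hk', hl'] at hlt
    rw [hk'] at hZ3
    have hkl := (Nat.pow_lt_pow_iff_right one_lt_two).1 hlt
    interval_cases k <;> omega
  have hfull : Ca = (T : Subgroup G) :=
    eq_of_le_of_card_ge inf_le_left (by rw [hl', hl3, card_sylow2 h]; norm_num)
  have hbC : b ∈ Ca := hfull.symm ▸ hb
  exact (mem_centralizer_singleton_iff.1 hbC.2).symm

theorem cent_involution_dvd {s : G} (hs : orderOf s = 2) :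
    Nat.card (centralizer ({s} : Set G)) ∣ 8 := by
  have hd : Nat.card (centralizer ({s} : Set G)) ∣ 3 * 7 * 8 := by
    simpa [h] using card_subgroup_dvd_card (centralizer ({s} : Set G))
  have key : ∀ p, (p = 3 ∨ p = 7) → ¬ p ∣ Nat.card (centralizer ({s} : Set G)) := by
    intro p hp hdp
    haveI : Fact p.Prime := ⟨by rcases hp with rfl | rfl <;> norm_num⟩
    obtain ⟨y, hy⟩ := exists_prime_orderOf_dvd_card' p hdp
    have hy' : orderOf (y : G) = p := by rw [Subgroup.orderOf_coe, hy]
    have hcomm : Commute (y : G) s := mem_centralizer_singleton_iff.1 y.2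
    have ho := hcomm.orderOf_mul_eq_mul_orderOf_of_coprime
      (by rw [hy', hs]; rcases hp with rfl | rfl <;> norm_num)
    rw [hy', hs] at ho
    rcases orderOf_cases h ((y : G) * s) with e | e | e | e | e <;> rcases hp with rfl | rfl <;> omega
  have c3 := ((Nat.prime_three.coprime_iff_not_dvd).2 (key 3 (Or.inl rfl))).symm
  have c7 := (((by norm_num : Nat.Prime 7).coprime_iff_not_dvd).2 (key 7 (Or.inr rfl))).symm
  exact (c3.mul_right c7).dvd_of_dvd_mul_left hd

theorem cent_central [Fact (Nat.Prime 2)] (T : Sylow 2 G) {z : G} (hz : z ∈ (T : Subgroup G))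
    (hz1 : z ≠ 1) (hc : ∀ t ∈ (T : Subgroup G), t * z = z * t) :
    centralizer ({z} : Set G) = T := by
  have hle : (T : Subgroup G) ≤ centralizer ({z} : Set G) :=
    fun t ht => mem_centralizer_singleton_iff.2 (hc t ht)
  refine (eq_of_le_of_card_ge hle ?_).symm
  rw [card_sylow2 h]
  have h2 : orderOf z = 2 := by
    rcases orderOf_cases h z with e | e | e | e | e
    · exact absurd (orderOf_eq_one_iff.1 e) hz1
    · exact e
    · have := (Subgroup.orderOf_dvd_natCard _ hz); rw [e, card_sylow2 h] at this; norm_num at this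
    · exfalso
      have hsq : z ^ 2 ≠ 1 := fun h' => by
        have := orderOf_dvd_of_pow_eq_one h'; rw [e] at this; norm_num at this
      have := central_unique h T hz hz1 ((T : Subgroup G).pow_mem hz 2) hsq hc
        fun t ht => ((show Commute t z from hc t ht).pow_right 2).eq
      rw [pow_two, left_eq_mul] at this
      exact hz1 this
    · have := (Subgroup.orderOf_dvd_natCard _ hz); rw [e, card_sylow2 h] at this; norm_num at this
  exact Nat.le_of_dvd (by norm_num) (cent_involution_dvd h h2)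

theorem orderOf_central [Fact (Nat.Prime 2)] (T : Sylow 2 G) {z : G} (hz : z ∈ (T : Subgroup G))
    (hz1 : z ≠ 1) (hc : ∀ t ∈ (T : Subgroup G), t * z = z * t) : orderOf z = 2 := by
  refine orderOf_eq_prime ?_ hz1
  by_contra hsq
  have := central_unique h T hz hz1 ((T : Subgroup G).pow_mem hz 2) hsq hc
    fun t ht => ((show Commute t z from hc t ht).pow_right 2).eq
  rw [pow_two, left_eq_mul] at this
  exact hz1 this

theorem exists_four [Fact (Nat.Prime 2)] (T : Sylow 2 G) :
    ∃ g ∈ (T : Subgroup G), orderOf g = 4 ∧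
      (∀ t ∈ (T : Subgroup G), t * g ^ 2 = g ^ 2 * t) ∧ g ^ 2 ≠ 1 := by
  classical
  obtain ⟨g, hg, hg4⟩ : ∃ g ∈ (T : Subgroup G), orderOf g = 4 := by
    by_contra hno
    push Not at hno
    refine sylow2_nonab h T ?_
    have hsq : ∀ a ∈ (T : Subgroup G), a⁻¹ = a := fun a ha => by
      have hd := (Subgroup.orderOf_dvd_natCard _ ha)
      rw [card_sylow2 h] at hd
      rcases orderOf_cases h a with e | e | e | e | e
      · rw [orderOf_eq_one_iff.1 e, inv_one]
      · rw [inv_eq_iff_mul_eq_one, ← sq, ← e, pow_orderOf_eq_one]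
      · rw [e] at hd; norm_num at hd
      · exact absurd e (hno a ha)
      · rw [e] at hd; norm_num at hd
    intro a ha b hb
    have h' := hsq _ ((T : Subgroup G).mul_mem ha hb)
    rwa [mul_inv_rev, hsq a ha, hsq b hb, eq_comm] at h'
  refine ⟨g, hg, hg4, fun t ht => ?_, fun e => ?_⟩
  · set C := (zpowers g).subgroupOf (T : Subgroup G) with hC
    have hidx : C.index = 2 := by
      have h1 := relIndex_mul_relIndex ⊥ (zpowers g) (T : Subgroup G) bot_le (zpowers_le.2 hg)
      rw [relIndex_bot_left, relIndex_bot_left, Nat.card_zpowers, hg4, card_sylow2 h] at h1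
      show (zpowers g).relIndex (T : Subgroup G) = 2
      omega
    have hn := normal_of_index_eq_two hidx
    have hm := hn.conj_mem ⟨g, hg⟩ (by rw [hC, mem_subgroupOf]; exact mem_zpowers g) ⟨t, ht⟩
    rw [hC, mem_subgroupOf] at hm
    have hm' : t * g * t⁻¹ ∈ zpowers g := hm
    rw [← mem_powers_iff_mem_zpowers, Submonoid.mem_powers_iff] at hm'
    obtain ⟨k, hk⟩ := hm'
    have hk' : (t * g * t⁻¹) ^ 2 = g ^ 2 := by
      have ho : orderOf (t * g * t⁻¹) = 4 := by rw [← MulAut.conj_apply, MulEquiv.orderOf_eq, hg4]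
      rw [← hk, ← pow_mul]
      refine pow_eq_pow_iff_modEq.2 ?_
      rw [hg4]
      rcases Nat.even_or_odd k with ⟨j, hj⟩ | ⟨j, hj⟩
      · exfalso
        rw [← hk, hj] at ho
        have : (g ^ (j + j)) ^ 2 = 1 := by
          rw [← pow_mul, show (j + j) * 2 = 4 * j by ring, pow_mul, ← hg4, pow_orderOf_eq_one, one_pow]
        have := orderOf_dvd_of_pow_eq_one this
        rw [ho] at this
        norm_num at this
      · show k * 2 % 4 = 2 % 4
        omega
    rw [conj_pow] at hk'
    exact mul_inv_eq_iff_eq_mul.1 hk'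
  · have := orderOf_dvd_of_pow_eq_one e
    rw [hg4] at this
    norm_num at this

theorem card4_ge : 42 ≤ Nat.card {g : G // orderOf g = 4} := by
  classical
  haveI : Fact (Nat.Prime 2) := ⟨Nat.prime_two⟩
  choose g hgT hg4 hgc hg1 using fun T : Sylow 2 G => exists_four h T
  have hne : ∀ T : Sylow 2 G, (g T)⁻¹ ≠ g T := fun T e => hg1 T (by
    rw [pow_two]; nth_rw 1 [← e]; rw [inv_mul_cancel])
  have hle := Nat.card_le_card_of_injective
    (fun p : Sylow 2 G × Bool => (⟨if p.2 then g p.1 else (g p.1)⁻¹, by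
      split_ifs
      · exact hg4 _
      · rw [orderOf_inv]; exact hg4 _⟩ : {g : G // orderOf g = 4})) ?_
  · rw [Nat.card_prod, n2 h, Nat.card_eq_fintype_card, Fintype.card_bool] at hle
    exact hle
  rintro ⟨T, b⟩ ⟨T', b'⟩ e
  have e' : (if b then g T else (g T)⁻¹) = if b' then g T' else (g T')⁻¹ := congrArg Subtype.val e
  have hsq : g T ^ 2 = g T' ^ 2 := by
    have hs : ∀ (T : Sylow 2 G) (b : Bool), (if b then g T else (g T)⁻¹) ^ 2 = g T ^ 2 := fun T b => by
      cases b
      · simp only [Bool.false_eq_true, if_false, inv_pow]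
        rw [inv_eq_iff_mul_eq_one, ← pow_add]
        show g T ^ 4 = 1
        rw [← hg4 T, pow_orderOf_eq_one]
      · simp
    rw [← hs T b, e', hs T' b']
  have hTT : T = T' := Sylow.ext (by
    rw [← cent_central h T ((T : Subgroup G).pow_mem (hgT T) 2) (hg1 T) (hgc T),
      ← cent_central h T' ((T' : Subgroup G).pow_mem (hgT T') 2) (hg1 T') (hgc T'), hsq])
  subst hTT
  refine Prod.ext rfl ?_
  cases b <;> cases b' <;> simp only [Bool.false_eq_true, if_false, if_true] at e' ⊢
  · exact absurd e' (hne T)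
  · exact absurd e'.symm (hne T)

theorem cent_involution {s : G} (hs : orderOf s = 2) :
    Nat.card (centralizer ({s} : Set G)) = 8 ∧ Nat.card {y : G // IsConj s y} = 21 := by
  have hle : Nat.card {y : G // IsConj s y} ≤ Nat.card {g : G // orderOf g = 2} := by
    refine Nat.card_le_card_of_injective (fun y => ⟨y.1, ?_⟩) fun a b e =>
      Subtype.ext (congrArg (fun u : {g : G // orderOf g = 2} => (u : G)) e)
    obtain ⟨c, hc⟩ := isConj_iff.1 y.2
    rw [← hc, ← MulAut.conj_apply, MulEquiv.orderOf_eq, hs]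
  have h2 := card2_add_card4 h
  have h4 := card4_ge h
  have h1 := Basic.card_centralizer_mul_card_class s
  rw [h] at h1
  obtain ⟨k, hk, hk'⟩ := (Nat.dvd_prime_pow Nat.prime_two (m := 3)).1 (by
    simpa using cent_involution_dvd h hs)
  rw [hk'] at h1 ⊢
  interval_cases k <;> norm_num only at h1 ⊢
  all_goals (simp only [true_and, false_and]; omega)

theorem exists_central [Fact (Nat.Prime 2)] (T : Sylow 2 G) :
    ∃ z ∈ (T : Subgroup G), z ≠ 1 ∧ orderOf z = 2 ∧ ∀ t ∈ (T : Subgroup G), t * z = z * t := by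
  obtain ⟨g, hg, -, hgc, hg1⟩ := exists_four h T
  exact ⟨g ^ 2, (T : Subgroup G).pow_mem hg 2, hg1,
    orderOf_central h T ((T : Subgroup G).pow_mem hg 2) hg1 hgc, hgc⟩

theorem card2 : Nat.card {g : G // orderOf g = 2} = 21 := by
  haveI : Fact (Nat.Prime 2) := ⟨Nat.prime_two⟩
  obtain ⟨z, -, -, hz, -⟩ := exists_central h (default : Sylow 2 G)
  have h2 := card2_add_card4 h
  have h4 := card4_ge h
  obtain ⟨-, hcls⟩ := cent_involution h hz
  have hle : Nat.card {y : G // IsConj z y} ≤ Nat.card {g : G // orderOf g = 2} := by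
    refine Nat.card_le_card_of_injective (fun y => ⟨y.1, ?_⟩) fun a b e =>
      Subtype.ext (congrArg (fun u : {g : G // orderOf g = 2} => (u : G)) e)
    obtain ⟨c, hc⟩ := isConj_iff.1 y.2
    rw [← hc, ← MulAut.conj_apply, MulEquiv.orderOf_eq, hz]
  omega

theorem card4 : Nat.card {g : G // orderOf g = 4} = 42 := by
  have := card2_add_card4 h; have := card2 h; omega

theorem conj_two {s t : G} (hs : orderOf s = 2) (ht : orderOf t = 2) : IsConj s t :=
  class_eq_all hs (cent_involution h hs).2 (card2 h).le ht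

theorem cent4 {g : G} (hg : orderOf g = 4) : Nat.card (centralizer ({g} : Set G)) = 4 := by
  classical
  haveI : Fact (Nat.Prime 2) := ⟨Nat.prime_two⟩
  have hs : orderOf (g ^ 2) = 2 := by
    rw [orderOf_pow_of_dvd two_ne_zero (by rw [hg]; norm_num), hg]
  have hle : centralizer ({g} : Set G) ≤ centralizer ({g ^ 2} : Set G) := fun x hx =>
    mem_centralizer_singleton_iff.2 ((show Commute x g from mem_centralizer_singleton_iff.1 hx).pow_right 2).eq
  have h4 : 4 ∣ Nat.card (centralizer ({g} : Set G)) := by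
    have := card_dvd_of_le (zpowers_le.2
      (mem_centralizer_singleton_iff.2 rfl : g ∈ centralizer ({g} : Set G)))
    rwa [Nat.card_zpowers, hg] at this
  have h8 := card_dvd_of_le hle
  rw [(cent_involution h hs).1] at h8
  obtain ⟨k, hk, hk'⟩ := (Nat.dvd_prime_pow Nat.prime_two (m := 3)).1 (by simpa using h8)
  rw [hk'] at h4 ⊢
  revert h4
  interval_cases k <;> norm_num
  exfalso
  have hP : IsPGroup 2 (centralizer ({g} : Set G)) := IsPGroup.of_card (n := 3) hk'
  obtain ⟨T, hT⟩ := hP.exists_le_sylow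
  have heq : centralizer ({g} : Set G) = T := eq_of_le_of_card_ge hT (by rw [card_sylow2 h, hk']; norm_num)
  have hgT : g ∈ (T : Subgroup G) := heq ▸ (mem_centralizer_singleton_iff.2 rfl)
  have hc : ∀ t ∈ (T : Subgroup G), t * g = g * t := fun t ht =>
    mem_centralizer_singleton_iff.1 (heq.symm ▸ ht : t ∈ centralizer ({g} : Set G))
  have hg1 : g ≠ 1 := fun e => by rw [e, orderOf_one] at hg; norm_num at hg
  rw [orderOf_central h T hgT hg1 hc] at hg
  norm_num at hg

theorem conj_four {s t : G} (hs : orderOf s = 4) (ht : orderOf t = 4) : IsConj s t :=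
  class_eq_all hs (mul_centralizer (cent4 h hs) (by norm_num) (m := 42) (by rw [h])) (card4 h).le ht

theorem conj_three {s t : G} (hs : orderOf s = 3) (ht : orderOf t = 3) : IsConj s t :=
  class_eq_all hs (mul_centralizer (cent3 h hs).2 (by norm_num) (m := 56) (by rw [h])) (card3 h).le ht

theorem class_seven {x : G} (hx : orderOf x = 7) :
    Nat.card {g : G // IsConj x g} = 24 ∧ ¬ IsConj x x⁻¹ := by
  refine ⟨mul_centralizer (cent7 h hx).2 (by norm_num) (by rw [h]), fun hc => ?_⟩
  obtain ⟨c, hc⟩ := isConj_iff.1 hc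
  have h2 : c ^ 2 ∈ centralizer ({x} : Set G) := by
    rw [mem_centralizer_singleton_iff]
    have hi : c * x⁻¹ * c⁻¹ = x := by
      have := congrArg (·⁻¹) hc
      simpa [mul_assoc] using this
    calc c ^ 2 * x = c * (c * x * c⁻¹) * c⁻¹ * c ^ 2 := by rw [pow_two]; group
      _ = x * c ^ 2 := by rw [hc, hi]
  have hcx : c ∈ centralizer ({x} : Set G) := by
    rcases orderOf_cases h c with e | e | e | e | e
    · rw [orderOf_eq_one_iff.1 e]; exact one_mem _
    · exfalso
      have hd := orderOf_dvd_natCard (⟨_, h2⟩ : centralizer ({x} : Set G))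
      have hc2 : c ^ 2 = 1 := by rw [← e, pow_orderOf_eq_one]
      clear hd
      have hmem : c ∈ centralizer ({(c * x)} : Set G) → False := fun hm => by
        have hcomm := mem_centralizer_singleton_iff.1 hm
        have : c * x = x * c := by
          apply mul_left_cancel (a := c)
          calc c * (c * x) = c * x * c := hcomm
            _ = c * (x * c) := by group
        rw [this, mul_inv_cancel_right] at hc
        have := orderOf_dvd_of_pow_eq_one (show x ^ 2 = 1 by
          rw [pow_two]; nth_rw 2 [hc]; rw [mul_inv_cancel])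
        rw [hx] at this; norm_num at this
      haveI : Fact (Nat.Prime 7) := ⟨by norm_num⟩
      obtain ⟨P, hP⟩ := (IsPGroup.of_card (n := 1) (G := zpowers x)
        (by rw [Nat.card_zpowers, hx, pow_one])).exists_le_sylow
      have hPx : zpowers x = (P : Subgroup G) :=
        eq_of_le_of_card_ge hP (by rw [card_sylow7 h, Nat.card_zpowers, hx])
      have hcN : c ∈ normalizer ((P : Subgroup G) : Set G) := by
        rw [← hPx, mem_normalizer_iff]
        intro y
        constructor
        · rintro ⟨j, rfl⟩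
          refine ⟨-j, ?_⟩
          show x ^ (-j) = c * x ^ j * c⁻¹
          rw [← conj_zpow, hc, inv_zpow, zpow_neg]
        · intro hy
          obtain ⟨j, hj⟩ := hy
          refine ⟨-j, ?_⟩
          have hj : x ^ j = c * y * c⁻¹ := hj
          show x ^ (-j) = y
          have : c * x ^ (-j) * c⁻¹ = c * y * c⁻¹ := by
            rw [← conj_zpow, hc, inv_zpow', neg_neg, hj]
          exact mul_left_cancel (mul_right_cancel this)
      have hd := orderOf_dvd_natCard (⟨c, hcN⟩ : normalizer ((P : Subgroup G) : Set G))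
      rw [Subgroup.orderOf_mk, e, normalizer7 h] at hd
      norm_num at hd
    · have h3 : c = (c ^ 2) ^ 2 := by
        rw [← pow_mul, show c ^ (2 * 2) = c ^ 3 * c by rw [← pow_succ], ← e, pow_orderOf_eq_one, one_mul]
      rw [h3]; exact pow_mem h2 2
    · exfalso
      have hd := orderOf_dvd_natCard (⟨_, h2⟩ : centralizer ({x} : Set G))
      rw [Subgroup.orderOf_mk, orderOf_pow_of_dvd two_ne_zero (by rw [e]; norm_num), e,
        (cent7 h hx).2] at hd
      norm_num at hd
    · have h7 : c = (c ^ 2) ^ 4 := by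
        rw [← pow_mul, show c ^ (2 * 4) = c ^ 7 * c by rw [← pow_succ], ← e, pow_orderOf_eq_one, one_mul]
      rw [h7]; exact pow_mem h2 4
  rw [mem_centralizer_singleton_iff] at hcx
  rw [hcx, mul_inv_cancel_right] at hc
  have := orderOf_dvd_of_pow_eq_one (show x ^ 2 = 1 by
    rw [pow_two]; nth_rw 2 [hc]; rw [mul_inv_cancel])
  rw [hx] at this
  norm_num at this

end Cfsg.Agent.SmallSimple.Order168
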