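import Mathlib

/-!
# Permutations of a projective line over a prime field

The data identifying `PSL₂(q)` inside the permutations of `Option (ZMod q)`: translations,
multiplications by squares and `z ↦ -1/z`. A candidate for the last permutation is determined by
three parameters and is tested by one relation; the test is decidable.
-/

namespace Cfsg.Agent.SmallSimple.ProjectiveLine

variable {q : ℕ}

/-- A permutation fixing `none` acting as `z ↦ u z + k` with `u` a square. -/
def IsAffine (q : ℕ) (σ : Equiv.Perm (Option (ZMod q))) : Prop :=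
  σ none = none ∧
    ∃ u k : ZMod q, u ^ ((q - 1) / 2) = 1 ∧ ∀ z, σ (some z) = some (u * z + k)

/-- A permutation acting as `z ↦ a / z` with `-a` a square. -/
def IsStdSwap (q : ℕ) (σ : Equiv.Perm (Option (ZMod q))) : Prop :=
  σ none = some 0 ∧ σ (some 0) = none ∧
    ∃ a : ZMod q, (-a) ^ ((q - 1) / 2) = 1 ∧ ∀ z, z ≠ 0 → σ (some z) = some (a * z ^ (q - 2))

/-- The group generated by these permutations. -/
def model (q : ℕ) : Subgroup (Equiv.Perm (Option (ZMod q))) :=
  Subgroup.closure {σ | IsAffine q σ ∨ IsStdSwap q σ}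

/-- A swap of `none` and `some 0` normalising the squares: `z ↦ a z^r` on squares and
`z ↦ b (z c')^r` on non-squares. -/
def swapFun (q : ℕ) (c' : ZMod q) (r : ℕ) (a b : ZMod q) : Option (ZMod q) → Option (ZMod q)
  | none => some 0
  | some z => if z = 0 then none else
      if z ^ ((q - 1) / 2) = 1 then some (a * z ^ r) else some (b * (z * c') ^ r)

/-- Adding `k` fixes `none`. -/
def shift (k : ZMod q) : Option (ZMod q) → Option (ZMod q)
  | none => none
  | some z => some (z + k)

/-- The word `w τ^(-a) w τ w`. -/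
def word (q : ℕ) (c' : ZMod q) (r : ℕ) (a b : ZMod q) (z : Option (ZMod q)) : Option (ZMod q) :=
  swapFun q c' r a b (shift (-a) (swapFun q c' r a b (shift 1 (swapFun q c' r a b z))))

/-- The word `w τ^(-a) w τ w` is affine and `w²` is linear. -/
def Survives (q : ℕ) (c' : ZMod q) (r : ℕ) (a b : ZMod q) : Prop :=
  (∀ z : ZMod q, swapFun q c' r a b (swapFun q c' r a b (some z)) =
      some ((swapFun q c' r a b (swapFun q c' r a b (some 1))).getD 0 * z)) ∧
  (((word q c' r a b (some 1)).getD 0 - (word q c' r a b (some 0)).getD 0) ^ ((q - 1) / 2) = 1) ∧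
    ∀ z, word q c' r a b (some z) =
      some (((word q c' r a b (some 1)).getD 0 - (word q c' r a b (some 0)).getD 0) * z +
        (word q c' r a b (some 0)).getD 0)

/-- The candidate is `z ↦ a / z` with `-a` a square. -/
def IsStd (q : ℕ) (c' : ZMod q) (r : ℕ) (a b : ZMod q) : Prop :=
  (-a) ^ ((q - 1) / 2) = 1 ∧
    ∀ z, z ≠ 0 → swapFun q c' r a b (some z) = some (a * z ^ (q - 2))

instance [NeZero q] (c' : ZMod q) (r : ℕ) (a b : ZMod q) : Decidable (Survives q c' r a b) :=
  inferInstanceAs (Decidable (_ ∧ _))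

instance [NeZero q] (c' : ZMod q) (r : ℕ) (a b : ZMod q) : Decidable (IsStd q c' r a b) :=
  inferInstanceAs (Decidable (_ ∧ _))

/-- The finite verification for the prime `q`, with `c` a non-square. -/
structure Check (q : ℕ) (c c' γ : ZMod q) : Prop where
  inv : c * c' = 1
  nonsquare : c ^ ((q - 1) / 2) ≠ 1
  shift_square : ∀ z : ZMod q, z ≠ 0 → z ^ ((q - 1) / 2) ≠ 1 → (z * c') ^ ((q - 1) / 2) = 1
  card_squares : Nat.card {u : ZMod q // u ^ ((q - 1) / 2) = 1} = (q - 1) / 2
  gen_mem : γ ^ ((q - 1) / 2) = 1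
  gen : ∀ u : ZMod q, u ^ ((q - 1) / 2) = 1 → ∃ j ∈ Finset.range ((q - 1) / 2), u = γ ^ j
  normalise : ∀ a : ZMod q, a ≠ 0 →
    ∃ u : ZMod q, u ^ ((q - 1) / 2) = 1 ∧ (u * a = 1 ∨ u * a = c)
  key : ∀ r ∈ Finset.range ((q - 1) / 2), ∀ b : ZMod q, b ≠ 0 → ∀ a ∈ ({1, c} : Finset (ZMod q)),
    Survives q c' r a b → IsStd q c' r a b ∨ (q = 7 ∧ r = 1)

end Cfsg.Agent.SmallSimple.ProjectiveLine
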