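import Mathlib
import Cfsg.Agent.Lib.SmallSimple.FixedPoints
import Cfsg.Agent.Lib.SmallSimple.ProjectiveLine
import Cfsg.Agent.Lib.SmallSimple.Order168
import Cfsg.Agent.Lib.Classical.SmallIso
import Cfsg.Agent.Lib.Classical.GL2

/-!
# Recognition of `PSL₂(q)` by its order, for small primes `q`

A simple group of order `(q + 1) q (q - 1) / 2` acts on its `q + 1` Sylow `q`-subgroups as the model
group of `ProjectiveLine`, hence all such groups are isomorphic.
-/

set_option linter.style.haveILetI false

namespace Cfsg.Agent.SmallSimple.Recognize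

open Subgroup MulAction
open Cfsg.Agent.SmallSimple.ProjectiveLine

variable {G : Type*} [Group G]

/-- A simple group of order `(q+1) q (q-1)/2` with `q + 1` Sylow `q`-subgroups is the model. -/
theorem mulEquiv_model [Finite G] [IsSimpleGroup G] {q : ℕ} [Fact q.Prime] (hq : 5 ≤ q)
    {c c' γ : ZMod q} (chk : Check q c c' γ) (hG : ¬ IsMulCommutative G)
    (hcard : Nat.card G = (q + 1) * q * ((q - 1) / 2)) (hn : Nat.card (Sylow q G) = q + 1)
    (h7 : q = 7 → ∀ d : G, orderOf d = 3 → Nat.card (centralizer ({d} : Set G)) = 3) :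
    Nonempty (G ≃* model q) := by
  classical
  have hqp : q.Prime := Fact.out
  set e := (q - 1) / 2 with he
  have he2 : 2 * e + 1 = q := by
    obtain ⟨k, hk⟩ := hqp.odd_of_ne_two (by omega)
    omega
  have hqe : ¬ q ∣ (q + 1) * e := by
    intro hd
    rcases hqp.dvd_mul.1 hd with h | h
    · exact hqp.one_lt.ne' (Nat.dvd_one.1 ((Nat.dvd_add_right dvd_rfl).1 h))
    · exact absurd (Nat.le_of_dvd (by omega) h) (by omega)
  have hP : ∀ P : Sylow q G, Nat.card (P : Subgroup G) = q := fun P => by
    simpa using Basic.card_sylow_eq_pow (a := 1) (m := (q + 1) * e) (by rw [hcard, pow_one]; ring) hqe P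
  have hN : ∀ P : Sylow q G, Nat.card (normalizer ((P : Subgroup G) : Set G)) = q * e := fun P => by
    have h := Basic.card_normalizer_mul P
    rw [hn, hcard] at h
    exact Nat.eq_of_mul_eq_mul_right (Nat.succ_pos q) (h.trans (by rw [Nat.succ_eq_add_one]; ring))
  have hC : ∀ P : Sylow q G, Nat.card (centralizer ((P : Subgroup G) : Set G)) = q := fun P =>
    Centralize.card_centralizer_of_le hG (by omega) P (hP P) (by omega)
  have hqG : q ∣ Nat.card G := ⟨(q + 1) * e, by rw [hcard]; ring⟩
  haveI := FixedPoints.faithful (p := q) hG hqG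
  obtain ⟨P⟩ : Nonempty (Sylow q G) := inferInstance
  set N := normalizer ((P : Subgroup G) : Set G) with hNdef
  obtain ⟨⟨x, hx⟩, hxo⟩ := exists_prime_orderOf_dvd_card' (G := (P : Subgroup G)) q ((hP P).symm ▸ dvd_rfl)
  rw [Subgroup.orderOf_mk] at hxo
  have hxP : zpowers x = (P : Subgroup G) :=
    eq_of_le_of_card_ge (zpowers_le.2 hx) (by rw [Nat.card_zpowers, hxo, hP])
  haveI hnt : Nontrivial (Sylow q G) := Finite.one_lt_card_iff_nontrivial.1 (by omega)
  obtain ⟨P0, hP0⟩ := exists_ne P
  -- powers of `x` indexed by `ZMod q`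
  let X : ZMod q → G := fun i => x ^ i.val
  have hXadd : ∀ i j, X (i + j) = X i * X j := fun i j => by
    simp only [X]
    rw [← pow_add, pow_eq_pow_iff_modEq, hxo, ZMod.val_add]
    exact Nat.mod_modEq _ _
  have hX0 : X 0 = 1 := by simp [X]
  have hX1 : X 1 = x := by
    haveI : Fact (1 < q) := ⟨hqp.one_lt⟩
    simp [X, ZMod.val_one]
  have hXP : ∀ i, X i ∈ (P : Subgroup G) := fun i => pow_mem hx _
  have hXfix : ∀ i, X i • P = P := fun i =>
    Sylow.smul_eq_iff_mem_normalizer.2 (le_normalizer (hXP i))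
  -- only `P` is fixed by a non-trivial power of `x`
  have honly : ∀ i, ∀ Q : Sylow q G, X i • Q = Q → i = 0 ∨ Q = P := by
    intro i Q hQ
    refine or_iff_not_imp_left.2 fun hi => ?_
    have hPQ : (P : Subgroup G) ≤ normalizer ((Q : Subgroup G) : Set G) := by
      rw [← Centralize.sylow_le_iff_mem (hXP i) ?_ (hP P)]
      · exact zpowers_le.2 (Sylow.smul_eq_iff_mem_normalizer.1 hQ)
      · intro h1
        refine hi ((ZMod.val_eq_zero i).1 (Nat.eq_zero_of_dvd_of_lt ?_ (ZMod.val_lt i)))
        have := orderOf_dvd_of_pow_eq_one h1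
        rwa [hxo] at this
    haveI hnorm : ((Q : Subgroup G).subgroupOf (normalizer ((Q : Subgroup G) : Set G))).Normal :=
      normal_in_normalizer
    haveI : ((Q.subtype le_normalizer : Sylow q (normalizer ((Q : Subgroup G) : Set G))) :
        Subgroup (normalizer ((Q : Subgroup G) : Set G))).Normal := by
      rwa [Sylow.coe_subtype]
    haveI := Sylow.unique_of_normal (Q.subtype le_normalizer) this
    exact (Sylow.subtype_injective (Subsingleton.elim (P.subtype hPQ) (Q.subtype le_normalizer))).symm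
  let f : Option (ZMod q) → Sylow q G := fun z => z.elim P (fun i => X i • P0)
  have hfinj : Function.Injective f := by
    rintro (_ | i) (_ | j) hij
    · rfl
    · exact absurd (smul_left_cancel _ (hij.symm.trans (hXfix j).symm)) hP0
    · exact absurd (smul_left_cancel _ (hij.trans (hXfix i).symm)) hP0
    · change X i • P0 = X j • P0 at hij
      have h0 : X (-j + i) • P0 = P0 := by
        rw [hXadd, mul_smul, hij, ← mul_smul, ← hXadd, neg_add_cancel, hX0, one_smul]
      rcases honly _ P0 h0 with h | h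
      · rw [neg_add_eq_sub, sub_eq_zero] at h; rw [h]
      · exact absurd h hP0
  have hfbij : Function.Bijective f := hfinj.bijective_of_nat_card_le (by
    rw [hn, Finite.card_option, Nat.card_zmod])
  let ι : Option (ZMod q) ≃ Sylow q G := Equiv.ofBijective f hfbij
  let φ : G →* Equiv.Perm (Option (ZMod q)) :=
    ι.symm.permCongrHom.toMonoidHom.comp (toPermHom G (Sylow q G))
  have hφ : ∀ (g : G) (z : Option (ZMod q)), f (φ g z) = g • f z := fun g z => by
    change ι (ι.symm (g • ι z)) = g • ι z
    rw [ι.apply_symm_apply]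
  have hφinj : Function.Injective φ :=
    ι.symm.permCongrHom.injective.comp (fun a b hab => eq_of_smul_eq_smul fun Q => Equiv.congr_fun hab Q)
  have hfnone : f none = P := rfl
  have hfsome : ∀ i, f (some i) = X i • P0 := fun i => rfl
  have hstab : ∀ g, φ g none = none ↔ g ∈ N := fun g => by
    rw [← hfinj.eq_iff, hφ, hfnone]
    exact Sylow.smul_eq_iff_mem_normalizer
  -- translations
  have hφX : ∀ i j, φ (X i) (some j) = some (i + j) := fun i j => hfinj (by
    rw [hφ, hfsome, hfsome, ← mul_smul, hXadd])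
  have hφX0 : ∀ i, φ (X i) none = none := fun i => (hstab _).2 (le_normalizer (hXP i))
  -- the torus
  set D : Subgroup G := N ⊓ normalizer ((P0 : Subgroup G) : Set G) with hD
  have hDnone : ∀ d ∈ D, φ d none = none := fun d hd => (hstab d).2 hd.1
  have hDzero : ∀ d ∈ D, φ d (some 0) = some 0 := fun d hd => hfinj (by
    rw [hφ, hfsome, hX0, one_smul]
    exact Sylow.smul_eq_iff_mem_normalizer.2 hd.2)
  have hsplit : ∀ n ∈ N, ∃ i, ∃ d ∈ D, n = X i * d := by
    intro n hn'
    have hne : φ n (some 0) ≠ none := fun h =>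
      Option.some_ne_none (0 : ZMod q) ((φ n).injective (h.trans ((hstab n).2 hn').symm))
    obtain ⟨i, hi⟩ := Option.ne_none_iff_exists'.1 hne
    refine ⟨i, X (-i) * n, ⟨N.mul_mem (le_normalizer (hXP _)) hn', ?_⟩, ?_⟩
    · refine Sylow.smul_eq_iff_mem_normalizer.1 ?_
      have h1 : φ (X (-i) * n) (some 0) = some 0 := by
        rw [map_mul, Equiv.Perm.mul_apply, hi, hφX, neg_add_cancel]
      have h2 := congrArg f h1
      rwa [hφ, hfsome, hX0, one_smul] at h2
    · rw [← mul_assoc, ← hXadd, add_neg_cancel, hX0, one_mul]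
  have hPD : ∀ i, X i ∈ D → i = 0 := fun i hi => by
    have := hDzero _ hi
    rw [hφX, add_zero] at this
    exact Option.some.inj this
  have hDcard : Nat.card D = e := by
    let F : ZMod q × D → N := fun s => ⟨X s.1 * s.2.1, N.mul_mem (le_normalizer (hXP _)) s.2.2.1⟩
    have hF : Function.Bijective F := by
      constructor
      · rintro ⟨i, d⟩ ⟨j, d'⟩ h
        have h1 : X i * d.1 = X j * d'.1 := congrArg Subtype.val h
        have h2 : X (-j + i) = d'.1 * d.1⁻¹ := by
          rw [hXadd, eq_mul_inv_iff_mul_eq, mul_assoc, h1, ← mul_assoc, ← hXadd, neg_add_cancel, hX0,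
            one_mul]
        have h3 := hPD _ (h2 ▸ D.mul_mem d'.2 (D.inv_mem d.2))
        obtain rfl : i = j := by rw [neg_add_eq_sub, sub_eq_zero] at h3; exact h3
        exact Prod.ext rfl (Subtype.ext (mul_left_cancel h1))
      · rintro ⟨n, hn'⟩
        obtain ⟨i, d, hd, rfl⟩ := hsplit n hn'
        exact ⟨(i, ⟨d, hd⟩), rfl⟩
    have := Nat.card_congr (Equiv.ofBijective F hF)
    rw [Nat.card_prod, Nat.card_zmod, hN P] at this
    exact Nat.eq_of_mul_eq_mul_left hqp.pos this
  have hmult : ∀ d ∈ D, ∃ u : ZMod q, d * x * d⁻¹ = X u := by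
    intro d hd
    have hmem : d * x * d⁻¹ ∈ (P : Subgroup G) := (mem_normalizer_iff.1 hd.1 x).1 hx
    rw [← hxP, ← mem_powers_iff_mem_zpowers, Submonoid.mem_powers_iff] at hmem
    obtain ⟨k, hk⟩ := hmem
    refine ⟨(k : ZMod q), ?_⟩
    rw [← hk]
    simp only [X, ZMod.val_natCast]
    rw [pow_eq_pow_iff_modEq, hxo]
    exact (Nat.mod_modEq _ _).symm
  choose μ hμ using hmult
  have hφD : ∀ d (hd : d ∈ D) (z : ZMod q), φ d (some z) = some (μ d hd * z) := by
    intro d hd z
    have h1 : ∀ n : ℕ, φ d (some (n : ZMod q)) = some (μ d hd * n) := by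
      intro n
      induction n with
      | zero => simpa using hDzero d hd
      | succ n ih =>
        have h2 : (some ((n + 1 : ℕ) : ZMod q) : Option (ZMod q)) = φ x (some (n : ZMod q)) := by
          conv_rhs => rw [← hX1, hφX]
          push_cast; rw [add_comm]
        rw [h2, ← Equiv.Perm.mul_apply, ← map_mul, show d * x = d * x * d⁻¹ * d by group, hμ d hd,
          map_mul, Equiv.Perm.mul_apply, ih, hφX]
        push_cast; ring_nf
    obtain ⟨n, rfl⟩ := ZMod.natCast_zmod_surjective z
    exact h1 n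
  have hμpow : ∀ d (hd : d ∈ D), μ d hd ^ e = 1 := by
    intro d hd
    have h1 : ∀ n : ℕ, φ (d ^ n) (some 1) = some (μ d hd ^ n) := by
      intro n
      induction n with
      | zero => simp
      | succ n ih => rw [pow_succ', map_mul, Equiv.Perm.mul_apply, ih, hφD d hd, pow_succ']
    have h2 : d ^ e = 1 := by
      rw [← hDcard]
      exact congrArg Subtype.val (pow_card_eq_one' (x := (⟨d, hd⟩ : D)))
    have h3 := h1 e
    rw [h2, map_one, Equiv.Perm.one_apply] at h3
    exact (Option.some.inj h3).symm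
  have hμsurj : ∀ u : ZMod q, u ^ e = 1 → ∃ d, ∃ hd : d ∈ D, μ d hd = u := by
    let F : D → {u : ZMod q // u ^ e = 1} := fun d => ⟨μ d.1 d.2, hμpow _ d.2⟩
    have hFi : Function.Injective F := by
      intro a b hab
      have hab' : μ a.1 a.2 = μ b.1 b.2 := congrArg Subtype.val hab
      refine Subtype.ext (hφinj (Equiv.ext fun z => ?_))
      cases z with
      | none => rw [hDnone _ a.2, hDnone _ b.2]
      | some z => rw [hφD _ a.2, hφD _ b.2, hab']
    have hFs := (hFi.bijective_of_nat_card_le (by rw [hDcard, chk.card_squares])).2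
    intro u hu
    obtain ⟨d, hd⟩ := hFs ⟨u, hu⟩
    exact ⟨d.1, d.2, congrArg Subtype.val hd⟩
  have haff : ∀ σ, IsAffine q σ → ∃ n ∈ N, φ n = σ := by
    rintro σ ⟨hσ, u, k, hu, hz⟩
    obtain ⟨d, hd, rfl⟩ := hμsurj u hu
    refine ⟨X k * d, N.mul_mem (le_normalizer (hXP k)) hd.1, Equiv.ext fun z => ?_⟩
    cases z with
    | none => rw [map_mul, Equiv.Perm.mul_apply, hDnone d hd, hφX0, hσ]
    | some z => rw [map_mul, Equiv.Perm.mul_apply, hφD d hd, hφX, hz, add_comm]
  have haff' : ∀ n ∈ N, IsAffine q (φ n) := by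
    intro n hn'
    obtain ⟨i, d, hd, rfl⟩ := hsplit n hn'
    exact ⟨(hstab _).2 hn', μ d hd, i, hμpow d hd, fun z => by
      rw [map_mul, Equiv.Perm.mul_apply, hφD d hd, hφX, add_comm]⟩
  -- an element exchanging `P` and `P0`
  obtain ⟨g, hgnone, hgzero⟩ : ∃ g, φ g none = some 0 ∧ φ g (some 0) = none := by
    obtain ⟨g, hg⟩ := MulAction.exists_smul_eq G P P0
    have hg' : φ g none = some 0 := hfinj (by rw [hφ, hfnone, hg, hfsome, hX0, one_smul])
    cases hy : φ g (some 0) with
    | none => exact ⟨g, hg', hy⟩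
    | some y =>
      -- `g x^i g⁻¹` fixes `some 0` and moves `some y` to `none`
      cases hu : φ g⁻¹ none with
      | none =>
        exfalso
        have h2 := congrArg (φ g) hu
        rw [map_inv, Equiv.Perm.inv_def, Equiv.apply_symm_apply, hg'] at h2
        exact Option.some_ne_none _ h2.symm
      | some u =>
        refine ⟨g * X u * g⁻¹ * g, ?_, ?_⟩
        · simp only [inv_mul_cancel_right, map_mul, Equiv.Perm.mul_apply, hφX0, hg']
        · simp only [inv_mul_cancel_right, map_mul, Equiv.Perm.mul_apply, hφX, add_zero]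
          have h2 := congrArg (φ g) hu
          rw [map_inv, Equiv.Perm.inv_def, Equiv.apply_symm_apply] at h2
          exact h2.symm
  have hgen : ∀ h : G, h ∈ closure ((N : Set G) ∪ {g}) := by
    intro h
    have hg' : g ∈ closure ((N : Set G) ∪ {g}) := subset_closure (Or.inr rfl)
    have hN' : ∀ n ∈ N, n ∈ closure ((N : Set G) ∪ {g}) := fun n hn' => subset_closure (Or.inl hn')
    obtain ⟨k, hk, hk'⟩ : ∃ k ∈ closure ((N : Set G) ∪ {g}), φ k none = φ h none := by
      cases hh : φ h none with
      | none => exact ⟨1, one_mem _, by simp⟩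
      | some i => exact ⟨X i * g, mul_mem (hN' _ (le_normalizer (hXP i))) hg', by
          rw [map_mul, Equiv.Perm.mul_apply, hgnone, hφX, add_zero]⟩
    have : k⁻¹ * h ∈ N := (hstab _).1 (by
      rw [map_mul, Equiv.Perm.mul_apply, ← hk', map_inv, Equiv.Perm.inv_def, Equiv.symm_apply_apply])
    simpa using mul_mem hk (hN' _ this)
  obtain ⟨d₀, hd₀, ha⟩ : ∃ d, ∃ _hd : d ∈ D, ∃ a ∈ ({1, c} : Finset (ZMod q)),
      φ (d * g) (some 1) = some a := by
    obtain ⟨a, ha⟩ := Option.ne_none_iff_exists'.1 (show φ g (some 1) ≠ none from fun h =>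
      one_ne_zero (Option.some.inj ((φ g).injective (h.trans hgzero.symm))))
    have ha0 : a ≠ 0 := fun h => Option.some_ne_none (1 : ZMod q)
      ((φ g).injective ((ha.trans (by rw [h])).trans hgnone.symm))
    obtain ⟨u, hu, hua⟩ := chk.normalise a ha0
    obtain ⟨d, hd, rfl⟩ := hμsurj u hu
    refine ⟨d, hd, μ d hd * a, ?_, ?_⟩
    · simp only [Finset.mem_insert, Finset.mem_singleton]; exact hua
    · rw [map_mul, Equiv.Perm.mul_apply, ha, hφD d hd]
  obtain ⟨a, hamem, ha⟩ := ha
  set w := d₀ * g with hw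
  have hwnone : φ w none = some 0 := by
    rw [hw, map_mul, Equiv.Perm.mul_apply, hgnone, hφD d₀ hd₀, mul_zero]
  have hwzero : φ w (some 0) = none := by
    rw [hw, map_mul, Equiv.Perm.mul_apply, hgzero, hDnone d₀ hd₀]
  have hwD : ∀ d ∈ D, w * d * w⁻¹ ∈ D := by
    intro d hd
    have h0 : φ w⁻¹ (some 0) = none := by
      rw [map_inv, Equiv.Perm.inv_def, Equiv.symm_apply_eq, hwnone]
    have h1 : φ w⁻¹ none = some 0 := by
      rw [map_inv, Equiv.Perm.inv_def, Equiv.symm_apply_eq, hwzero]
    refine ⟨(hstab _).1 ?_, Sylow.smul_eq_iff_mem_normalizer.1 ?_⟩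
    · rw [map_mul, map_mul, Equiv.Perm.mul_apply, Equiv.Perm.mul_apply, h1, hDzero d hd, hwzero]
    · have h2 : φ (w * d * w⁻¹) (some 0) = some 0 := by
        rw [map_mul, map_mul, Equiv.Perm.mul_apply, Equiv.Perm.mul_apply, h0, hDnone d hd, hwnone]
      have h3 := congrArg f h2
      rwa [hφ, hfsome, hX0, one_smul] at h3
  -- conjugation by `w` raises the torus to a power `r`
  obtain ⟨dγ, hdγ, hμγ⟩ := hμsurj γ chk.gen_mem
  obtain ⟨r, hr, hrγ⟩ : ∃ r ∈ Finset.range e, μ _ (hwD dγ hdγ) = γ ^ r :=
    chk.gen _ (hμpow _ (hwD dγ hdγ))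
  have hpow : ∀ (j : ℕ) (z : ZMod q) (v : ZMod q), φ w (some z) = some v →
      φ w (some (γ ^ j * z)) = some ((γ ^ j) ^ r * v) := by
    intro j z v hz
    induction j with
    | zero => simpa using hz
    | succ j ih =>
      rw [pow_succ', mul_assoc, ← hμγ, ← hφD dγ hdγ, ← Equiv.Perm.mul_apply, ← map_mul,
        show w * dγ = w * dγ * w⁻¹ * w by group, map_mul, Equiv.Perm.mul_apply, hμγ, ih,
        hφD _ (hwD dγ hdγ), hrγ, mul_pow, mul_assoc]
  obtain ⟨b, hb⟩ := Option.ne_none_iff_exists'.1 (show φ w (some c) ≠ none from fun h => by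
    have := (φ w).injective (h.trans hwzero.symm)
    have hc : c = 0 := Option.some.inj this
    have := chk.inv
    rw [hc, zero_mul] at this
    exact zero_ne_one this)
  have hb0 : b ≠ 0 := fun h => Option.some_ne_none c
    ((φ w).injective ((hb.trans (by rw [h])).trans hwnone.symm))
  have hwfun : ∀ z, φ w z = swapFun q c' r a b z := by
    intro z
    cases z with
    | none => simpa [swapFun] using hwnone
    | some z =>
      by_cases hz : z = 0
      · subst hz; simpa [swapFun] using hwzero
      by_cases hz2 : z ^ e = 1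
      · obtain ⟨j, -, rfl⟩ := chk.gen z hz2
        have := hpow j 1 a ha
        rw [mul_one] at this
        rw [this]
        simp only [swapFun, hz, if_false, he ▸ hz2, if_true, mul_comm]
      · obtain ⟨j, -, hj⟩ := chk.gen (z * c') (chk.shift_square z hz hz2)
        have := hpow j c b hb
        rw [← hj, mul_assoc, mul_comm c', chk.inv, mul_one] at this
        rw [this]
        simp only [swapFun, hz, if_false]
        rw [if_neg (he ▸ hz2), mul_comm]
  have hshift : ∀ k z, φ (X k) z = shift k z := fun k z => by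
    cases z with
    | none => exact hφX0 k
    | some z => rw [hφX, add_comm]; rfl
  have hword : ∀ z, φ (w * X (-a) * w * X 1 * w) z = word q c' r a b z := fun z => by
    simp only [map_mul, Equiv.Perm.mul_apply, word, hwfun, hshift]
  have hwordN : w * X (-a) * w * X 1 * w ∈ N := by
    refine (hstab _).1 ?_
    simp only [map_mul, Equiv.Perm.mul_apply, hwnone, hφX, add_zero, ha, neg_add_cancel, hwzero]
  have hsurv : Survives q c' r a b := by
    obtain ⟨-, u, k, hu, hz⟩ := haff' _ hwordN
    simp only [hword] at hz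
    have h0 : word q c' r a b (some 0) = some k := by rw [hz, mul_zero, zero_add]
    have h1 : word q c' r a b (some 1) = some (u + k) := by rw [hz, mul_one]
    obtain ⟨-, u2, k2, -, hz2⟩ := haff' (w * w) ((hstab _).1 (by
      rw [map_mul φ w w, Equiv.Perm.mul_apply, hwnone, hwzero]))
    have hk2 : k2 = 0 := by
      have h2 := hz2 0
      rw [map_mul φ w w, Equiv.Perm.mul_apply, hwzero, hwnone, mul_zero, zero_add] at h2
      exact (Option.some.inj h2).symm
    subst hk2
    simp only [map_mul φ w w, Equiv.Perm.mul_apply, hwfun, add_zero] at hz2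
    unfold Survives
    rw [h0, h1]
    simp only [Option.getD_some, add_sub_cancel_right]
    exact ⟨fun z => by rw [hz2, hz2, mul_one, Option.getD_some], hu, hz⟩
  rcases chk.key r hr b hb0 a hamem hsurv with hstd | ⟨hq7, hr1⟩
  swap
  · -- `q = 7` and `w` would centralise the torus
    exfalso
    subst hr1
    have he3 : e = 3 := by omega
    obtain ⟨⟨d, hd⟩, hdo⟩ : ∃ d : D, orderOf d = 3 := by
      haveI : Fact (Nat.Prime 3) := ⟨Nat.prime_three⟩
      exact exists_prime_orderOf_dvd_card' 3 (by rw [hDcard, he3])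
    rw [Subgroup.orderOf_mk] at hdo
    have hcomm : w * d = d * w := hφinj (Equiv.ext fun z => by
      rw [map_mul φ w d, map_mul φ d w, Equiv.Perm.mul_apply, Equiv.Perm.mul_apply]
      cases z with
      | none => rw [hDnone d hd, hwnone, hφD d hd, mul_zero]
      | some z =>
        rw [hφD d hd]
        by_cases hz : z = 0
        · subst hz; rw [mul_zero, hwzero, hDnone d hd]
        · have hu0 : μ d hd ≠ 0 := fun h0 => by
            have h := hμpow d hd; rw [h0, zero_pow (by omega)] at h; exact zero_ne_one h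
          have hsq : (μ d hd * z) ^ e = z ^ e := by rw [mul_pow, hμpow, one_mul]
          rw [hwfun, hwfun]
          simp only [swapFun, hz, mul_eq_zero, hu0, or_self, if_false, ← he, hsq, pow_one]
          split_ifs with h2 <;> rw [hφD d hd] <;> congr 1 <;> ring)
    have hwC : w ∈ centralizer ({d} : Set G) := mem_centralizer_singleton_iff.2 hcomm
    have hCd : centralizer ({d} : Set G) = zpowers d :=
      (eq_of_le_of_card_ge (zpowers_le.2 (mem_centralizer_singleton_iff.2 rfl))
        (by rw [h7 hq7 d hdo, Nat.card_zpowers, hdo])).symm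
    rw [hCd] at hwC
    have := (hstab w).2 ((zpowers_le.2 hd.1) hwC)
    rw [hwnone] at this
    exact Option.some_ne_none _ this
  have hwmem : IsStdSwap q (φ w) :=
    ⟨hwnone, hwzero, a, hstd.1, fun z hz => by rw [hwfun]; exact hstd.2 z hz⟩
  have hrange : φ.range = model q := by
    refine le_antisymm ?_ ((closure_le _).2 ?_)
    · rintro _ ⟨h, rfl⟩
      have hmem : h ∈ (model q).comap φ := by
        refine (closure_le _).2 ?_ (hgen h)
        rintro n (hn' | hn')
        · exact subset_closure (Or.inl (haff' n hn'))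
        · rw [Set.mem_singleton_iff.1 hn', SetLike.mem_coe, mem_comap,
            show g = d₀⁻¹ * w by rw [hw, inv_mul_cancel_left], map_mul φ d₀⁻¹ w]
          exact mul_mem (subset_closure (Or.inl (haff' _ (N.inv_mem hd₀.1))))
            (subset_closure (Or.inr hwmem))
      exact hmem
    · rintro σ (hσ | ⟨h1, h2, a', ha', hz⟩)
      · obtain ⟨n, -, rfl⟩ := haff σ hσ
        exact ⟨n, rfl⟩
      · have hu : (a' * a ^ (q - 2)) ^ e = 1 := by
          have hme : ((-1 : ZMod q)) ^ e * (-1) ^ e = 1 := by rw [← mul_pow]; simp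
          have ha0 : a ≠ 0 := fun h => by
            have h3 := hstd.1
            rw [h, neg_zero, zero_pow (by omega)] at h3
            exact zero_ne_one h3
          have hinv : a ^ (q - 2) * a = 1 := by
            rw [← pow_succ, show q - 2 + 1 = q - 1 by omega]
            exact ZMod.pow_card_sub_one_eq_one ha0
          have h3 : (-a') ^ e = 1 := ha'
          have h4 : (-a) ^ e = 1 := hstd.1
          calc (a' * a ^ (q - 2)) ^ e = ((-a') * a ^ (q - 2)) ^ e * (-1) ^ e := by
                rw [← mul_pow]; ring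
            _ = (-1) ^ e * (a ^ (q - 2)) ^ e := by rw [mul_pow, h3, one_mul, mul_comm]
            _ = (-1) ^ e * (a ^ (q - 2)) ^ e * (-a) ^ e := by rw [h4, mul_one]
            _ = ((-1) ^ e * (-1) ^ e) * (a ^ (q - 2) * a) ^ e := by
                rw [neg_pow a, mul_pow]; ring
            _ = 1 := by rw [hme, hinv, one_pow, mul_one]
        obtain ⟨d, hd, hdu⟩ := hμsurj _ hu
        refine ⟨d * w, Equiv.ext fun z => ?_⟩
        rw [map_mul, Equiv.Perm.mul_apply]
        cases z with
        | none => rw [hwnone, hφD d hd, mul_zero, h1]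
        | some z =>
          by_cases hz0 : z = 0
          · subst hz0; rw [hwzero, hDnone d hd, h2]
          · have ha0 : a ≠ 0 := fun h => by
              have h3 := hstd.1
              rw [h, neg_zero, zero_pow (by omega)] at h3
              exact zero_ne_one h3
            rw [hwfun, hstd.2 z hz0, hφD d hd, hdu, hz z hz0]
            congr 1
            have hinv : a ^ (q - 2) * a = 1 := by
              rw [← pow_succ, show q - 2 + 1 = q - 1 by omega]
              exact ZMod.pow_card_sub_one_eq_one ha0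
            calc a' * a ^ (q - 2) * (a * z ^ (q - 2)) = a' * (a ^ (q - 2) * a) * z ^ (q - 2) := by ring
              _ = a' * z ^ (q - 2) := by rw [hinv, mul_one]
  exact ⟨(MonoidHom.ofInjective hφinj).trans (MulEquiv.subgroupCongr hrange)⟩

/-- `mulEquiv_model` from the order alone. -/
theorem mulEquiv_model_of_card [Finite G] [IsSimpleGroup G] {q : ℕ} [Fact q.Prime] (hq : 5 ≤ q)
    {c c' γ : ZMod q} (chk : Check q c c' γ)
    (hdiv : ∀ n ∈ Nat.divisors ((q + 1) * ((q - 1) / 2)), n % q = 1 → 1 < n → n = q + 1)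
    (hcard : Nat.card G = (q + 1) * q * ((q - 1) / 2)) : Nonempty (G ≃* model q) := by
  have hqp : q.Prime := Fact.out
  obtain ⟨k, hk⟩ := hqp.odd_of_ne_two (by omega)
  have hne : ¬ (Nat.card G).Prime := by
    rw [hcard, show (q - 1) / 2 = k by omega, show (q + 1) * q * k = q * ((q + 1) * k) by ring]
    refine Nat.not_prime_mul (by omega) ?_
    have : 1 ≤ k := by omega
    nlinarith
  have hG : ¬ IsMulCommutative G := Basic.not_comm_of_not_prime hne
  have hqe : ¬ q ∣ (q + 1) * ((q - 1) / 2) := by
    intro hd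
    rcases hqp.dvd_mul.1 hd with h | h
    · exact hqp.one_lt.ne' (Nat.dvd_one.1 ((Nat.dvd_add_right dvd_rfl).1 h))
    · exact absurd (Nat.le_of_dvd (by omega) h) (by omega)
  obtain ⟨hd, hmod, h1, -⟩ := Basic.sylow_count (p := q) hG
    (by rw [hcard]; exact ⟨(q + 1) * ((q - 1) / 2), by ring⟩)
    (a := 1) (m := (q + 1) * ((q - 1) / 2)) (by rw [hcard]; ring) hqe
  have hn := hdiv _ (Nat.mem_divisors.2 ⟨hd, fun e => hqe (e ▸ dvd_zero q)⟩) hmod h1
  refine mulEquiv_model hq chk hG hcard hn fun h7 d hd3 => (Order168.cent3 ?_ hd3).2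
  subst h7; rw [hcard]

/-- Two simple groups of this order are isomorphic; in particular they are `PSL₂(q)`. -/
theorem mulEquiv_psl [Finite G] [IsSimpleGroup G] {q : ℕ} [Fact q.Prime] (hq : 5 ≤ q)
    {c c' γ : ZMod q} (chk : Check q c c' γ)
    (hdiv : ∀ n ∈ Nat.divisors ((q + 1) * ((q - 1) / 2)), n % q = 1 → 1 < n → n = q + 1)
    (hcard : 2 * Nat.card G = q * (q ^ 2 - 1)) {F : Type*} [Field F] [Fintype F]
    (hF : Fintype.card F = q) :
    Nonempty (G ≃* Matrix.ProjectiveSpecialLinearGroup (Fin 2) F) := by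
  have hqp : q.Prime := Fact.out
  obtain ⟨k, hk⟩ := hqp.odd_of_ne_two (by omega)
  have hq1 : q * (q ^ 2 - 1) = 2 * ((q + 1) * q * ((q - 1) / 2)) := by
    rw [show (q - 1) / 2 = k by omega, show q ^ 2 - 1 = (q + 1) * (q - 1) from Nat.sq_sub_sq q 1,
      show q - 1 = 2 * k by omega]
    ring
  have hG' : Nat.card G = (q + 1) * q * ((q - 1) / 2) := by omega
  obtain ⟨e₁⟩ := mulEquiv_model_of_card hq chk hdiv hG'
  haveI := Classical.Linear.isSimpleGroup_PSL_fin (F := F) (le_refl 2) fun _ => by omega
  have hP : Nat.card (Matrix.ProjectiveSpecialLinearGroup (Fin 2) F) = (q + 1) * q * ((q - 1) / 2) := by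
    have h := Classical.SmallIso.natCard_pslTwo F
    rw [Classical.GL2.natCard_SL_two, hF, show Nat.gcd 2 (q - 1) = 2 by
      rw [show q - 1 = 2 * k by omega]; exact Nat.gcd_mul_right_right k 2] at h
    rw [show (q - 1) / 2 = k by omega]
    rw [show q - 1 = 2 * k by omega] at h
    nlinarith
  obtain ⟨e₂⟩ := mulEquiv_model_of_card hq chk hdiv hP
  exact ⟨e₁.trans e₂.symm⟩

end Cfsg.Agent.SmallSimple.Recognize
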