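import Mathlib
import Cfsg.Agent.Lib.SmallSimple.Recognize

/-!
# The finite checks for `q = 5, 7, 11, 13, 17, 19, 23`
-/

namespace Cfsg.Agent.SmallSimple.ProjectiveLine

theorem check5 : Check 5 (2 : ZMod 5) 3 4 where
  inv := by decide +kernel
  nonsquare := by decide +kernel
  shift_square := by decide +kernel
  card_squares := by rw [Nat.card_eq_fintype_card]; decide +kernel
  gen_mem := by decide +kernel
  gen := by decide +kernel
  normalise := by decide +kernel
  key := by decide +kernel

theorem div5 : ∀ n ∈ Nat.divisors ((5 + 1) * ((5 - 1) / 2)), n % 5 = 1 → 1 < n → n = 5 + 1 := by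
  decide +kernel

theorem check7 : Check 7 (3 : ZMod 7) 5 2 where
  inv := by decide +kernel
  nonsquare := by decide +kernel
  shift_square := by decide +kernel
  card_squares := by rw [Nat.card_eq_fintype_card]; decide +kernel
  gen_mem := by decide +kernel
  gen := by decide +kernel
  normalise := by decide +kernel
  key := by decide +kernel

theorem div7 : ∀ n ∈ Nat.divisors ((7 + 1) * ((7 - 1) / 2)), n % 7 = 1 → 1 < n → n = 7 + 1 := by
  decide +kernel

theorem check11 : Check 11 (2 : ZMod 11) 6 3 where
  inv := by decide +kernel
  nonsquare := by decide +kernel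
  shift_square := by decide +kernel
  card_squares := by rw [Nat.card_eq_fintype_card]; decide +kernel
  gen_mem := by decide +kernel
  gen := by decide +kernel
  normalise := by decide +kernel
  key := by decide +kernel

theorem div11 : ∀ n ∈ Nat.divisors ((11 + 1) * ((11 - 1) / 2)), n % 11 = 1 → 1 < n → n = 11 + 1 := by
  decide +kernel

theorem check13 : Check 13 (2 : ZMod 13) 7 4 where
  inv := by decide +kernel
  nonsquare := by decide +kernel
  shift_square := by decide +kernel
  card_squares := by rw [Nat.card_eq_fintype_card]; decide +kernel
  gen_mem := by decide +kernel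
  gen := by decide +kernel
  normalise := by decide +kernel
  key := by decide +kernel

theorem div13 : ∀ n ∈ Nat.divisors ((13 + 1) * ((13 - 1) / 2)), n % 13 = 1 → 1 < n → n = 13 + 1 := by
  decide +kernel

theorem check17 : Check 17 (3 : ZMod 17) 6 2 where
  inv := by decide +kernel
  nonsquare := by decide +kernel
  shift_square := by decide +kernel
  card_squares := by rw [Nat.card_eq_fintype_card]; decide +kernel
  gen_mem := by decide +kernel
  gen := by decide +kernel
  normalise := by decide +kernel
  key := by decide +kernel

theorem div17 : ∀ n ∈ Nat.divisors ((17 + 1) * ((17 - 1) / 2)), n % 17 = 1 → 1 < n → n = 17 + 1 := by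
  decide +kernel

theorem check19 : Check 19 (2 : ZMod 19) 10 4 where
  inv := by decide +kernel
  nonsquare := by decide +kernel
  shift_square := by decide +kernel
  card_squares := by rw [Nat.card_eq_fintype_card]; decide +kernel
  gen_mem := by decide +kernel
  gen := by decide +kernel
  normalise := by decide +kernel
  key := by decide +kernel

theorem div19 : ∀ n ∈ Nat.divisors ((19 + 1) * ((19 - 1) / 2)), n % 19 = 1 → 1 < n → n = 19 + 1 := by
  decide +kernel

theorem check23 : Check 23 (5 : ZMod 23) 14 2 where
  inv := by decide +kernel
  nonsquare := by decide +kernel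
  shift_square := by decide +kernel
  card_squares := by rw [Nat.card_eq_fintype_card]; decide +kernel
  gen_mem := by decide +kernel
  gen := by decide +kernel
  normalise := by decide +kernel
  key := by decide +kernel

theorem div23 : ∀ n ∈ Nat.divisors ((23 + 1) * ((23 - 1) / 2)), n % 23 = 1 → 1 < n → n = 23 + 1 := by
  decide +kernel

end Cfsg.Agent.SmallSimple.ProjectiveLine
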