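import Cfsg.Agent.Lib.SmallSimple.Orders
import Cfsg.Agent.Lib.CharTheory.DihedralEight

/-!
# A self-centralizing subgroup of prime order with index two in its normaliser

If `P` has prime order `q`, is self-centralizing and has index `2` in its normaliser, counting the
pairs of conjugates of an inverting involution with product in `P` gives
`|G| (a - x)² = q c² x (x + 1)` with `c` the order of an involution centraliser and `x` the degree
of an irreducible character.
-/

set_option linter.style.haveILetI false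
set_option linter.unusedSectionVars false

namespace Cfsg.Agent.SmallSimple.IndexTwo

open scoped BigOperators
open Cfsg.Agent.Characters Cfsg.Agent.OddChar
open Cfsg.Agent.SmallSimple.Exceptional

universe u

variable {G : Type u} [Group G] [Fintype G]

theorem inverting {P : Subgroup G} {q : ℕ} [Fact q.Prime] (hq : q ≠ 2) (hP : SelfCent P)
    (hPq : Nat.card P = q) (he : P.relIndex (Subgroup.normalizer (P : Set G)) = 2) :
    Nat.card {u : G // u ∈ Subgroup.normalizer (P : Set G) ∧ u ∉ P} = q ∧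
      ∀ u ∈ Subgroup.normalizer (P : Set G), u ∉ P →
        orderOf u = 2 ∧ ∀ y ∈ P, u * y * u⁻¹ = y⁻¹ := by
  classical
  set N := Subgroup.normalizer (P : Set G)
  have hodd : Odd q := (Fact.out : q.Prime).odd_of_ne_two hq
  haveI hidx : (P.subgroupOf N).index = 2 → True := fun _ => trivial
  refine ⟨?_, fun u hu huP => ?_⟩
  · have hNc : Nat.card N = q * 2 := by
      have := Subgroup.relIndex_mul_relIndex ⊥ P N bot_le Subgroup.le_normalizer
      rw [Subgroup.relIndex_bot_left, Subgroup.relIndex_bot_left, hPq, he] at this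
      exact this.symm
    have h1 : Nat.card {u : G // u ∈ N ∧ u ∉ P} = Nat.card {u : N // ¬ (u : G) ∈ P} :=
      (Nat.card_congr
        { toFun := fun u => ⟨⟨u.1, u.2.1⟩, u.2.2⟩
          invFun := fun u => ⟨u.1.1, u.1.2, u.2⟩
          left_inv := fun _ => rfl
          right_inv := fun _ => rfl })
    have h2 : Nat.card {u : N // (u : G) ∈ P} = q := by
      rw [← hPq]
      exact Nat.card_congr
        { toFun := fun u => ⟨u.1.1, u.2⟩
          invFun := fun u => ⟨⟨u.1, Subgroup.le_normalizer u.2⟩, u.2⟩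
          left_inv := fun _ => rfl
          right_inv := fun _ => rfl }
    rw [h1, Nat.card_eq_fintype_card, Fintype.card_subtype_compl, ← Nat.card_eq_fintype_card,
      ← Nat.card_eq_fintype_card, hNc, h2]
    omega
  · have hu2 : u ^ 2 ∈ P := by
      have h : ((⟨u, hu⟩ : N) ^ (P.subgroupOf N).index) ∈ P.subgroupOf N := by
        haveI : (P.subgroupOf N).Normal := Subgroup.normal_in_normalizer
        exact Subgroup.pow_index_mem _ _
      rw [show (P.subgroupOf N).index = 2 from he] at h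
      exact h
    have hsq : u ^ 2 = 1 := by
      by_contra h1
      exact huP (hP.centralizer_eq _ hu2 h1 ▸ Subgroup.mem_centralizer_singleton_iff.2
        ((Commute.refl u).pow_right 2).eq)
    have hu1 : u ≠ 1 := fun h => huP (h ▸ P.one_mem)
    refine ⟨orderOf_eq_prime hsq hu1, fun y hy => ?_⟩
    have hui : u⁻¹ = u := inv_eq_of_mul_eq_one_right (by rw [← sq]; exact hsq)
    have hy' : u * y * u⁻¹ ∈ P := (Subgroup.mem_normalizer_iff.1 hu y).1 hy
    have hcomm : u * y * u⁻¹ * y = y * (u * y * u⁻¹) :=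
      congrArg Subtype.val (hP.comm ⟨_, hy'⟩ ⟨y, hy⟩)
    by_contra hne
    have hw : u * y * u⁻¹ * y ≠ 1 := fun h => hne (mul_eq_one_iff_eq_inv.1 h)
    refine huP (hP.centralizer_eq _ (P.mul_mem hy' hy) hw ▸
      Subgroup.mem_centralizer_singleton_iff.2 ?_)
    calc u * (u * y * u⁻¹ * y) = u * u * (y * u⁻¹ * y) := by group
      _ = y * u * y := by rw [← sq, hsq, one_mul, hui]
      _ = y * (u * y * u⁻¹) * u := by group
      _ = u * y * u⁻¹ * y * u := by rw [hcomm]

/-- The equation `|G| (a - x)² = q c² x (x + 1)`; moreover there is one class of involutions. -/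
theorem equation [IsSimpleGroup G] (hG : ¬ IsMulCommutative G) {q : ℕ} [Fact q.Prime] (hq : q ≠ 2) {P : Subgroup G} (hP : SelfCent P)
    (hPq : Nat.card P = q) (he : P.relIndex (Subgroup.normalizer (P : Set G)) = 2) :
    ∃ (t : G) (a : ℤ) (x : ℕ), orderOf t = 2 ∧ (∀ u : G, orderOf u = 2 → IsConj t u) ∧
      1 < x ∧ |a| ≤ (x : ℤ) ∧ x ∣ Nat.card G ∧ (x + 1) ∣ Nat.card G ∧
      (Nat.card G : ℤ) * (a - x) ^ 2 =
        q * (Nat.card (Subgroup.centralizer ({t} : Set G)) : ℤ) ^ 2 * (x * (x + 1)) := by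
  classical
  haveI := Fintype.ofFinite (Cfsg.IrrCharacter G)
  haveI := Fintype.ofFinite P
  haveI : Finite (P →* ℂˣ) := Nat.finite_of_card_ne_zero (by rw [card_dual hP]; exact Nat.card_pos.ne')
  haveI := Fintype.ofFinite (P →* ℂˣ)
  set N := Subgroup.normalizer (P : Set G) with hN
  obtain ⟨hcardT, hT⟩ := inverting hq hP hPq he
  -- a nontrivial linear character
  obtain ⟨φ, hφ⟩ : ∃ φ : P →* ℂˣ, φ ≠ 1 := by
    refine Fintype.exists_ne_of_one_lt_card ?_ 1
    rw [← Nat.card_eq_fintype_card, card_dual hP, hPq]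
    exact (Fact.out : q.Prime).one_lt
  have hgen : Cfsg.IsGeneralizedCharacter G (A P φ) := A_isGen φ
  set f : Cfsg.IrrCharacter G → ℤ := Lattice.coeff (A P φ) with hf
  choose deg hdeg0 hdeg using fun χ : Cfsg.IrrCharacter G => irr_one_pos χ.2
  have hsq : ∑ χ, f χ ^ 2 = 3 := by
    refine Lattice.sum_sq_of_norm hgen ?_
    rw [inner_A_eq hP hφ hφ, if_pos ((sameOrbit_equivalence P).refl φ), he]
    norm_num
  have htriv : f (trivIrr G) = 1 := Lattice.coeff_eq_of_inner (by simpa using inner_A_one hφ)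
  set R := (Finset.univ.erase (trivIrr G)).filter (fun χ => f χ ≠ 0) with hR
  have hzero : ∀ χ, χ ∉ R → χ ≠ trivIrr G → f χ = 0 := fun χ h1 h2 => by
    by_contra h3
    exact h1 (by simp [hR, h2, h3])
  have hsplit : ∀ g : Cfsg.IrrCharacter G → ℂ,
      ∑ χ, (f χ : ℂ) * g χ = g (trivIrr G) + ∑ χ ∈ R, (f χ : ℂ) * g χ := by
    intro g
    rw [← Finset.add_sum_erase Finset.univ _ (Finset.mem_univ (trivIrr G)), htriv, hR,
      Finset.sum_filter_of_ne (by intro χ _ h e; simp [e] at h)]
    push_cast; ring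
  have hR2 : ∑ χ ∈ R, f χ ^ 2 = 2 := by
    have := Finset.add_sum_erase Finset.univ (fun χ => f χ ^ 2) (Finset.mem_univ (trivIrr G))
    simp only [htriv, hsq] at this
    rw [hR, Finset.sum_filter_of_ne (by intro χ _ h e; simp [e] at h)]
    linarith
  have hone : ∀ χ ∈ R, f χ = 1 ∨ f χ = -1 := by
    intro χ hχ
    have h1 : f χ ^ 2 ≤ 2 := hR2 ▸ Finset.single_le_sum (fun χ _ => sq_nonneg (f χ)) hχ
    have h0 : f χ ≠ 0 := (Finset.mem_filter.1 hχ).2
    have : f χ ≤ 1 := by nlinarith
    have : -1 ≤ f χ := by nlinarith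
    omega
  have hcard2 : R.card = 2 := by
    have : ∑ χ ∈ R, f χ ^ 2 = (R.card : ℤ) := by
      rw [Finset.sum_congr rfl (g := fun _ => (1 : ℤ)) fun χ hχ => by
        rcases hone χ hχ with h | h <;> simp [h]]
      simp
    exact_mod_cast this.symm.trans hR2
  obtain ⟨χ₁, χ₂, hne, hR12⟩ := Finset.card_eq_two.1 hcard2
  have htrivdeg : deg (trivIrr G) = 1 := by
    have h := hdeg (trivIrr G)
    simp only [trivIrr_coe] at h
    exact_mod_cast h.symm
  have hd : 1 + f χ₁ * (deg χ₁ : ℤ) + f χ₂ * (deg χ₂ : ℤ) = 0 := by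
    have := Lattice.apply_eq_sum hgen 1
    rw [A_one, hsplit, hR12, Finset.sum_pair hne] at this
    simp only [hdeg, htrivdeg] at this
    have h' : (0 : ℂ) = ((1 + f χ₁ * (deg χ₁ : ℤ) + f χ₂ * (deg χ₂ : ℤ) : ℤ) : ℂ) := by
      rw [this]; push_cast; ring
    exact_mod_cast h'.symm
  obtain ⟨θ, μ, hθμ, hRθ, hθ1, hμ1⟩ : ∃ θ μ, θ ≠ μ ∧ R = {θ, μ} ∧ f θ = 1 ∧ f μ = -1 := by
    have h1 := hone χ₁ (by simp [hR12])
    have h2 := hone χ₂ (by simp [hR12])
    have := hdeg0 χ₁
    have := hdeg0 χ₂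
    rcases h1 with h1 | h1 <;> rcases h2 with h2 | h2
    · rw [h1, h2] at hd; omega
    · exact ⟨χ₁, χ₂, hne, hR12, h1, h2⟩
    · exact ⟨χ₂, χ₁, hne.symm, by rw [hR12, Finset.pair_comm], h2, h1⟩
    · rw [h1, h2] at hd; omega
  set x := deg θ with hx
  have hμdeg : deg μ = x + 1 := by
    have := Lattice.apply_eq_sum hgen 1
    rw [A_one, hsplit, hRθ, Finset.sum_pair hθμ, hθ1, hμ1] at this
    simp only [hdeg, htrivdeg] at this
    have h' : (deg μ : ℂ) = ((x + 1 : ℕ) : ℂ) := by
      push_cast at this ⊢; linear_combination this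
    exact_mod_cast h'
  -- the involution
  obtain ⟨t, htN, htP⟩ : ∃ t, t ∈ N ∧ t ∉ P := by
    have : 0 < Nat.card {u : G // u ∈ N ∧ u ∉ P} := hcardT ▸ (Fact.out : q.Prime).pos
    obtain ⟨⟨t, ht⟩⟩ := (Nat.card_pos_iff.1 this).1
    exact ⟨t, ht⟩
  have ht := (hT t htN htP).1
  have hall : ∀ w ∈ N, w ∉ P → IsConj t w := by
    intro w hwN hwP
    haveI : (P.subgroupOf N).Normal := Subgroup.normal_in_normalizer
    have hs : t * w ∈ P := (Subgroup.mul_mem_iff_of_index_two
      (H := P.subgroupOf N) he (a := ⟨t, htN⟩) (b := ⟨w, hwN⟩)).2 (iff_of_false htP hwP)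
    obtain ⟨s, hs'⟩ : ∃ s : P, s ^ 2 = ⟨t * w, hs⟩ := by
      refine ⟨(powCoprime (G := P) (n := 2) ?_).symm ⟨t * w, hs⟩, (powCoprime _).apply_symm_apply _⟩
      rw [hPq]; exact (Nat.coprime_primes (Fact.out : q.Prime) Nat.prime_two).2 hq
    refine isConj_iff.2 ⟨(s : G)⁻¹, ?_⟩
    have h1 := (hT t htN htP).2 _ (s : P).2
    have htt : t * t = 1 := by rw [← sq]; exact ht ▸ pow_orderOf_eq_one t
    have h3 : (s : G) * (s : G) = t * w := by
      rw [← sq]; exact (SubmonoidClass.coe_pow s 2).symm.trans (congrArg Subtype.val hs')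
    have h4 : (s : G)⁻¹ * t = t * s := by rw [← h1]; group
    calc (s : G)⁻¹ * t * (s : G)⁻¹⁻¹ = t * ((s : G) * s) := by rw [h4]; group
      _ = w := by rw [h3, ← mul_assoc, htt, one_mul]
  have hmain : ∀ t' : G, orderOf t' = 2 → ∃ b : ℤ, (θ : G → ℂ) t' = (b : ℂ) ∧
      (if IsConj t t' then (q : ℂ) * (Nat.card G : ℂ) else 0) =
        ((Finset.univ.filter (IsConj t')).card : ℂ) ^ 2 *
          (1 + (b : ℂ) ^ 2 / x - (1 + (b : ℂ)) ^ 2 / (x + 1)) := by
    intro t' ht'
    obtain ⟨a, ha⟩ := CharTheory.DihedralEight.exists_int_value (irr_isCharacter θ) ht'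
    set K : Finset G := Finset.univ.filter (IsConj t') with hK
    have hKmem : ∀ u, u ∈ K ↔ IsConj t' u := fun u => by simp [hK]
    have hAt : A P φ t' = 0 := by
      refine Induce.indFun_eq_zero P _ t' fun g => CharTheory.IndBasic.extendByZero_of_notMem P _ fun hg => ?_
      have ho : orderOf (g⁻¹ * t' * g) = 2 := by
        rw [← ht']
        have := orderOf_injective (MulAut.conj g⁻¹).toMonoidHom (MulAut.conj g⁻¹).injective t'
        simpa using this
      have hd2 := orderOf_dvd_natCard (⟨_, hg⟩ : P)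
      rw [Subgroup.orderOf_mk, ho, hPq, Nat.dvd_prime_two_le (Fact.out : q.Prime) le_rfl] at hd2
      exact hq hd2.symm
    have hμt : (μ : G → ℂ) t' = 1 + (a : ℂ) := by
      have := Lattice.apply_eq_sum hgen t'
      rw [hAt, hsplit, hRθ, Finset.sum_pair hθμ, hθ1, hμ1, ha, trivIrr_coe] at this
      push_cast at this
      linear_combination this
    -- the two evaluations
    have hrhs : ∑ u ∈ K, ∑ v ∈ K, A P φ (u * v) = (K.card : ℂ) ^ 2 *
        (1 + (a : ℂ) ^ 2 / x - (1 + (a : ℂ)) ^ 2 / (x + 1)) := by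
      have hs : ∀ χ : Cfsg.IrrCharacter G, ∑ u ∈ K, ∑ v ∈ K, (χ : G → ℂ) (u * v) =
          ((K.card : ℂ) * (χ : G → ℂ) t') ^ 2 / (deg χ : ℂ) := by
        intro χ
        rw [eq_div_iff (by exact_mod_cast (hdeg0 χ).ne'), mul_comm, ← hdeg χ]
        refine CharTheory.DihedralEight.sum_mul_involutions χ.2 K t' (fun u hu g => ?_) fun u hu => ?_
        · exact (hKmem _).2 (((hKmem u).1 hu).trans (isConj_iff.2 ⟨g, rfl⟩))
        · obtain ⟨g, rfl⟩ := isConj_iff.1 ((hKmem u).1 hu)
          exact irr_isClassFunction χ t' g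
      calc ∑ u ∈ K, ∑ v ∈ K, A P φ (u * v)
          = ∑ χ, (f χ : ℂ) * ∑ u ∈ K, ∑ v ∈ K, (χ : G → ℂ) (u * v) := by
            simp only [Lattice.apply_eq_sum hgen, Finset.mul_sum]
            rw [Finset.sum_comm (s := (Finset.univ : Finset (Cfsg.IrrCharacter G)))]
            exact Finset.sum_congr rfl fun u _ => Finset.sum_comm
        _ = _ := by
            rw [hsplit, hRθ, Finset.sum_pair hθμ, hs, hs, hs, hθ1, hμ1, ha, hμt, trivIrr_coe, htrivdeg,
              hμdeg]
            push_cast; ring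
    have hlhs : ∑ u ∈ K, ∑ v ∈ K, A P φ (u * v) = (if IsConj t t' then (q : ℂ) * (Nat.card G : ℂ) else 0) := by
      have h1 : ∀ u ∈ K, ∑ v ∈ K, A P φ (u * v) = ∑ g : G, if u * g ∈ K then A P φ g else 0 := by
        intro u hu
        obtain ⟨g, rfl⟩ := isConj_iff.1 ((hKmem u).1 hu)
        have hinv : g * t' * g⁻¹ * (g * t' * g⁻¹) = 1 := by
          have : t' * t' = 1 := by rw [← sq]; exact ht' ▸ pow_orderOf_eq_one t'
          calc g * t' * g⁻¹ * (g * t' * g⁻¹) = g * (t' * t') * g⁻¹ := by group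
            _ = 1 := by rw [this]; group
        rw [← Finset.sum_filter]
        refine Finset.sum_nbij' (fun v => g * t' * g⁻¹ * v) (fun w => g * t' * g⁻¹ * w) ?_ ?_ ?_ ?_ ?_
        · intro v hv; simp [← mul_assoc, hinv, Finset.mem_coe.1 hv]
        · intro w hw; simpa using hw
        · intro v _; simp [← mul_assoc, hinv]
        · intro v _; simp [← mul_assoc, hinv]
        · intro v _; rfl
      rw [Finset.sum_congr rfl h1, Finset.sum_comm]
      have hgsum : ∑ g : G, A P φ g = (Nat.card G : ℂ) := by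
        have h := inner_A_one (G := G) hφ
        rw [classInner_def] at h
        have hG0 : (Nat.card G : ℂ) ≠ 0 := by exact_mod_cast Nat.card_pos.ne'
        simp only [map_one, mul_one, Nat.card_eq_fintype_card] at h hG0 ⊢
        field_simp at h
        linear_combination h
      rw [← hgsum, ← ite_zero_mul, Finset.mul_sum]
      refine Finset.sum_congr rfl fun g _ => ?_
      rw [← Finset.sum_filter, Finset.sum_const, nsmul_eq_mul]
      by_cases hA : A P φ g = 0
      · rw [hA]; simp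
      congr 1
      obtain ⟨r, hr⟩ : ∃ r, r⁻¹ * g * r ∈ P := by
        by_contra h
        push Not at h
        exact hA (Induce.indFun_eq_zero P _ g fun x => CharTheory.IndBasic.extendByZero_of_notMem P _ (h x))
      have hy1 : r⁻¹ * g * r ≠ 1 := by
        intro h
        apply hA
        have : g = 1 := by
          have h2 := congrArg (fun z => r * z * r⁻¹) h
          simpa [mul_assoc] using h2
        rw [this, A_one]
      set y := r⁻¹ * g * r with hy
      rw [← Nat.card_eq_finsetCard]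
      have hval : (if IsConj t t' then (q : ℂ) else 0) =
          (Nat.card {u : G // (u ∈ N ∧ u ∉ P) ∧ IsConj t t'} : ℂ) := by
        split_ifs with hc
        · rw [← hcardT]
          exact_mod_cast (Nat.card_congr (Equiv.subtypeEquivRight fun u => (and_iff_left hc).symm))
        · haveI : IsEmpty {u : G // (u ∈ N ∧ u ∉ P) ∧ IsConj t t'} := ⟨fun u => hc u.2.2⟩
          rw [Nat.card_of_isEmpty, Nat.cast_zero]
      rw [hval]
      congr 1
      refine Nat.card_congr ((MulAut.conj r⁻¹).toEquiv.subtypeEquiv fun u => ?_)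
      simp only [Finset.mem_filter, MulEquiv.toEquiv_eq_coe, EquivLike.coe_coe, MulAut.conj_apply, inv_inv]
      have hconjK : ∀ w, r⁻¹ * w * r ∈ K ↔ w ∈ K := by
        intro w
        rw [hKmem, hKmem]
        exact ⟨fun h => h.trans (isConj_iff.2 ⟨r, by group⟩), fun h => h.trans (isConj_iff.2 ⟨r⁻¹, by group⟩)⟩
      set u' := r⁻¹ * u * r with hu'
      have e1 : r⁻¹ * (u * g) * r = u' * y := by rw [hu', hy]; group
      rw [← hconjK u, ← hconjK (u * g), e1]
      constructor
      · rintro ⟨hu, huy⟩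
        have h2 : ∀ w ∈ K, w * w = 1 := by
          intro w hw
          obtain ⟨g, rfl⟩ := isConj_iff.1 ((hKmem w).1 hw)
          have : t' * t' = 1 := by rw [← sq]; exact ht' ▸ pow_orderOf_eq_one t'
          calc g * t' * g⁻¹ * (g * t' * g⁻¹) = g * (t' * t') * g⁻¹ := by group
            _ = 1 := by rw [this]; group
        have hui : u'⁻¹ = u' := inv_eq_of_mul_eq_one_right (h2 _ hu)
        have hinvy : u'⁻¹ * y * u' = y⁻¹ := by
          rw [eq_inv_iff_mul_eq_one]
          calc u'⁻¹ * y * u' * y = u'⁻¹ * u'⁻¹ * ((u' * y) * (u' * y)) := by group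
            _ = 1 := by rw [h2 _ huy, ← mul_inv_rev, h2 _ hu]; simp
        suffices huP' : u' ∈ N ∧ u' ∉ P from ⟨huP', ((hall u' huP'.1 huP'.2).trans ((hKmem _).1 hu).symm)⟩
        refine ⟨hP.mem_normalizer_of_conj hr hy1 (by rw [hinvy]; exact P.inv_mem hr), fun huP => ?_⟩
        have hd2 := orderOf_dvd_natCard (⟨_, huP⟩ : P)
        have hne1 : u' ≠ 1 := by
          intro h
          obtain ⟨g, hg⟩ := isConj_iff.1 ((hKmem _).1 hu)
          change g * t' * g⁻¹ = u' at hg
          rw [h] at hg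
          have : t' = 1 := by
            have h3 := congrArg (fun z => g⁻¹ * z * g) hg
            simpa [mul_assoc] using h3
          rw [this, orderOf_one] at ht'; omega
        rw [Subgroup.orderOf_mk, orderOf_eq_prime (by rw [sq]; exact h2 _ hu) hne1, hPq,
          Nat.dvd_prime_two_le (Fact.out : q.Prime) le_rfl] at hd2
        exact hq hd2.symm
      · rintro ⟨⟨huN, huP⟩, htt'⟩
        refine ⟨(hKmem _).2 (htt'.symm.trans (hall _ huN huP)), (hKmem _).2 (htt'.symm.trans
          (hall _ (N.mul_mem huN (Subgroup.le_normalizer hr)) fun h => huP ?_))⟩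
        simpa using P.mul_mem h (P.inv_mem hr)
    exact ⟨a, ha, hlhs.symm.trans hrhs⟩
  have hxd : x ∣ Nat.card G := by
    obtain ⟨d, hd1, -, hd2⟩ := irr_degree_dvd_card θ.2
    have : x = d := by exact_mod_cast (hdeg θ).symm.trans hd1
    exact this ▸ hd2
  have hxd1 : (x + 1) ∣ Nat.card G := by
    obtain ⟨d, hd1, -, hd2⟩ := irr_degree_dvd_card μ.2
    have : x + 1 = d := by
      rw [← hμdeg]; exact_mod_cast (hdeg μ).symm.trans hd1
    exact this ▸ hd2
  have hθtriv : θ ≠ trivIrr G := by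
    have hmemR : θ ∈ R := by simp [hRθ]
    rw [hR] at hmemR
    exact (Finset.mem_erase.1 (Finset.mem_filter.1 hmemR).1).1
  have hx0 : (x : ℂ) ≠ 0 := by exact_mod_cast (hdeg0 θ).ne'
  have hx1 : (x : ℂ) + 1 ≠ 0 := by exact_mod_cast Nat.succ_ne_zero x
  have hKne : ∀ t' : G, ((Finset.univ.filter (IsConj t')).card : ℂ) ≠ 0 := fun t' => by
    exact_mod_cast (Finset.card_pos.2 ⟨t', Finset.mem_filter.2 ⟨Finset.mem_univ _, IsConj.refl t'⟩⟩).ne'
  have hclass : ∀ u : G, orderOf u = 2 → IsConj t u := by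
    intro u hu
    by_contra hnc
    obtain ⟨b, hb, e⟩ := hmain u hu
    rw [if_neg hnc] at e
    have h1 := (mul_eq_zero.1 e.symm).resolve_left (pow_ne_zero 2 (hKne u))
    field_simp at h1
    have h2 : ((b : ℂ) - x) ^ 2 = 0 := by linear_combination h1
    have h3 : (θ : G → ℂ) u = (θ : G → ℂ) 1 := by
      rw [hb, hdeg θ]
      exact sub_eq_zero.1 (pow_eq_zero_iff two_ne_zero |>.1 h2)
    have hker := charKernel_normal (irr_isCharacter θ)
    rcases hker.eq_bot_or_eq_top with hk | hk
    · have : u ∈ charKernel (θ : G → ℂ) (irr_isCharacter θ) := h3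
      rw [hk, Subgroup.mem_bot] at this
      rw [this, orderOf_one] at hu; omega
    · have hconst : ∀ g, (θ : G → ℂ) g = (x : ℂ) := fun g => by
        have hg : g ∈ charKernel (θ : G → ℂ) (irr_isCharacter θ) := hk ▸ Subgroup.mem_top g
        exact (mem_charKernel.1 hg).trans (hdeg θ)
      have hi := classInner_irr θ (trivIrr G)
      rw [if_neg hθtriv, classInner_def, trivIrr_coe] at hi
      simp only [hconst, map_one, mul_one, Finset.sum_const, Finset.card_univ, nsmul_eq_mul] at hi
      rcases mul_eq_zero.1 hi with h4 | h4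
      · exact inv_ne_zero (by exact_mod_cast Nat.card_pos.ne') h4
      · rcases mul_eq_zero.1 h4 with h5 | h5
        · exact Fintype.card_ne_zero (α := G) (by exact_mod_cast h5)
        · exact hx0 h5
  obtain ⟨a, ha, e⟩ := hmain t ht
  rw [if_pos (IsConj.refl t)] at e
  set K := Finset.univ.filter (IsConj t) with hK
  have hKc : Nat.card (Subgroup.centralizer ({t} : Set G)) * K.card = Nat.card G := by
    rw [← Basic.card_centralizer_mul_card_class t, Nat.card_eq_fintype_card (α := {y : G // IsConj t y}),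
      Fintype.card_subtype, hK]
  refine ⟨t, a, x, ht, hclass, degree_ne_one hG hθtriv (hdeg θ), ?_, hxd, hxd1, ?_⟩
  · have hle := char_norm_le (irr_isCharacter θ) t
    rw [ha, hdeg θ, Complex.norm_intCast, Complex.norm_natCast] at hle
    exact_mod_cast hle
  · field_simp at e
    have key : ((Nat.card G : ℂ)) * ((a : ℂ) - x) ^ 2 =
        (q : ℂ) * (Nat.card (Subgroup.centralizer ({t} : Set G)) : ℂ) ^ 2 * ((x : ℂ) * (x + 1)) := by
      refine mul_left_cancel₀ (pow_ne_zero 2 (hKne t)) ?_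
      have hKc' : (Nat.card (Subgroup.centralizer ({t} : Set G)) : ℂ) * (K.card : ℂ) =
          (Nat.card G : ℂ) := by exact_mod_cast hKc
      rw [show (K.card : ℂ) ^ 2 * ((q : ℂ) * (Nat.card (Subgroup.centralizer ({t} : Set G)) : ℂ) ^ 2 *
        ((x : ℂ) * (x + 1))) = (q : ℂ) * ((Nat.card (Subgroup.centralizer ({t} : Set G)) : ℂ) *
          (K.card : ℂ)) ^ 2 * ((x : ℂ) * (x + 1)) by ring, hKc']
      linear_combination (-(Nat.card G : ℂ)) * e
    exact_mod_cast key

end Cfsg.Agent.SmallSimple.IndexTwo
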