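import Mathlib
import Cfsg.Agent.Lib.SmallSimple.Centralize
import Cfsg.Agent.Lib.SmallSimple.FixedPoints
import Cfsg.Agent.Lib.SmallSimple.IndexTwo
import Cfsg.Agent.Lib.Classical.SmallIso
import Cfsg.Agent.Lib.Involutions.ElementaryCentralizersPSL

/-!
# Recognition of `PSL₂(q)` for small even `q`
-/

set_option linter.style.haveILetI false

namespace Cfsg.Agent.SmallSimple.EvenPSL

open Subgroup

variable {G : Type*} [Group G]

/-- A prime order Sylow subgroup of centralizer order `p` is self-centralizing. -/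
theorem selfCent_of_card [Finite G] {p : ℕ} [Fact p.Prime] (P : Sylow p G)
    (hP : Nat.card (P : Subgroup G) = p)
    (hC : Nat.card (centralizer ((P : Subgroup G) : Set G)) = p) :
    Exceptional.SelfCent (P : Subgroup G) := by
  haveI : IsCyclic (P : Subgroup G) := isCyclic_of_prime_card hP
  refine ⟨fun h => ?_, fun x hx hx1 => ?_⟩
  · rw [h, card_bot] at hP
    exact (Fact.out : p.Prime).ne_one hP.symm
  · have he : centralizer ((P : Subgroup G) : Set G) = centralizer ({x} : Set G) := by
      rw [← Centralize.sylow_le_iff_mem hx hx1 hP, zpowers_eq_closure, centralizer_closure]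
    rw [← he]
    exact (eq_of_le_of_card_ge (le_centralizer _) (by rw [hC, hP])).symm

/-- In a family of subgroups of order `a` with trivial intersections there are `|ι| (a - 1)`
non-identity elements. -/
theorem card_union [Finite G] {ι : Type*} [Finite ι] (A : ι → Subgroup G) {a : ℕ}
    (hA : ∀ i, Nat.card (A i) = a)
    (hTI : ∀ i j : ι, ∀ g : G, g ≠ 1 → g ∈ A i → g ∈ A j → i = j) :
    Nat.card {g : G // g ≠ 1 ∧ ∃ i, g ∈ A i} = Nat.card ι * (a - 1) := by
  classical
  haveI := Fintype.ofFinite ι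
  haveI := Fintype.ofFinite G
  let f : (Σ i, {g : A i // g ≠ 1}) → {g : G // g ≠ 1 ∧ ∃ i, g ∈ A i} := fun x =>
    ⟨(x.2.1 : G), fun h => x.2.2 (Subtype.ext h), x.1, x.2.1.2⟩
  have hf : Function.Bijective f := by
    constructor
    · rintro ⟨i, ⟨⟨g, hg⟩, hg1⟩⟩ ⟨j, ⟨⟨g', hg'⟩, hg1'⟩⟩ e
      have e' : g = g' := congrArg Subtype.val e
      subst e'
      obtain rfl := hTI i j g (fun h => hg1 (Subtype.ext h)) hg hg'
      rfl
    · rintro ⟨g, hg1, i, hi⟩
      exact ⟨⟨i, ⟨⟨g, hi⟩, fun h => hg1 (congrArg Subtype.val h)⟩⟩, rfl⟩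
  rw [← Nat.card_congr (Equiv.ofBijective f hf), Nat.card_sigma]
  have : ∀ i, Nat.card {g : A i // g ≠ 1} = a - 1 := fun i => by
    rw [Nat.card_eq_fintype_card, Fintype.card_subtype_compl, Fintype.card_subtype_eq,
      ← Nat.card_eq_fintype_card, hA]
  rw [Finset.sum_congr rfl fun i _ => this i, Finset.sum_const, Finset.card_univ, smul_eq_mul,
    Nat.card_eq_fintype_card]

/-- A Sylow subgroup with trivial intersections has `1` mod its order conjugates. -/
theorem card_dvd_card_sylow_sub_one [Finite G] {p : ℕ} [Fact p.Prime] (Q : Sylow p G)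
    (hTI : ∀ Q' : Sylow p G, ∀ g : G, g ≠ 1 → g ∈ (Q : Subgroup G) → g ∈ (Q' : Subgroup G) →
      Q = Q') :
    Nat.card (Q : Subgroup G) ∣ Nat.card (Sylow p G) - 1 := by
  classical
  let α := {Q' : Sylow p G // Q' ≠ Q}
  have hfixQ : ∀ q : (Q : Subgroup G), (q : G) • Q = Q := fun q =>
    Sylow.smul_eq_iff_mem_normalizer.2 (le_normalizer q.2)
  letI : MulAction (Q : Subgroup G) α :=
    { smul := fun q x => ⟨(q : G) • x.1, fun h => x.2 (smul_left_cancel (q : G) (h.trans (hfixQ q).symm))⟩
      one_smul := fun x => Subtype.ext (one_smul G x.1)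
      mul_smul := fun q r x => Subtype.ext (mul_smul (q : G) (r : G) x.1) }
  have hstab : ∀ x : α, MulAction.stabilizer (Q : Subgroup G) x = ⊥ := by
    intro x
    refine (eq_bot_iff_forall _).2 fun q hq => ?_
    by_contra hq1
    have h1 : (q : G) • x.1 = x.1 := congrArg Subtype.val hq
    -- the normal Sylow subgroup of the normaliser contains all of its `p`-elements
    have hqx : (q : G) ∈ (x.1 : Subgroup G) := by
      have hle : zpowers (q : G) ≤ normalizer ((x.1 : Subgroup G) : Set G) :=
        zpowers_le.2 (Sylow.smul_eq_iff_mem_normalizer.1 h1)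
      have hp : IsPGroup p (zpowers (q : G)) := Q.2.to_le (zpowers_le.2 q.2)
      have h2 : zpowers (q : G) ⊔ (x.1 : Subgroup G) = (x.1 : Subgroup G) :=
        x.1.3 (IsPGroup.to_sup_of_normal_right' hp x.1.2 hle) le_sup_right
      exact h2 ▸ mem_sup_left (mem_zpowers _)
    exact x.2 (hTI x.1 q (fun h => hq1 (Subtype.ext h)) q.2 hqx).symm
  haveI := Fintype.ofFinite (MulAction.orbitRel.Quotient (Q : Subgroup G) α)
  have hcard : Nat.card α = Nat.card (Sylow p G) - 1 := by
    haveI := Fintype.ofFinite (Sylow p G)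
    rw [Nat.card_eq_fintype_card, Nat.card_eq_fintype_card, Fintype.card_subtype_compl,
      Fintype.card_subtype_eq]
  rw [← hcard, Nat.card_congr (MulAction.selfEquivSigmaOrbitsQuotientStabilizer (Q : Subgroup G) α),
    Nat.card_sigma]
  refine Finset.dvd_sum fun ω _ => ?_
  rw [hstab, ← index, index_bot]

/-- The order of the centraliser of an involution is divisible by `|T|` when there is one class. -/
theorem card_sylow_dvd_centralizer [Finite G] (T : Sylow 2 G) (h2 : 2 ∣ Nat.card G) {t : G}
    (hcl : ∀ u : G, orderOf u = 2 → IsConj t u) :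
    Nat.card (T : Subgroup G) ∣ Nat.card (centralizer ({t} : Set G)) := by
  haveI : Fact (Nat.Prime 2) := ⟨Nat.prime_two⟩
  haveI : Nontrivial (T : Subgroup G) := (nontrivial_iff_ne_bot _).2 (Basic.sylow_ne_bot h2 T)
  haveI : Nontrivial (center (T : Subgroup G)) := T.2.center_nontrivial
  obtain ⟨k, hk⟩ := IsPGroup.iff_card.1 (T.2.to_subgroup (center (T : Subgroup G)))
  have hk0 : k ≠ 0 := by
    rintro rfl
    rw [pow_zero] at hk
    exact absurd hk (Finite.one_lt_card (α := center (T : Subgroup G))).ne'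
  obtain ⟨z, hz⟩ := exists_prime_orderOf_dvd_card' (G := center (T : Subgroup G)) 2
    (hk ▸ dvd_pow_self 2 hk0)
  have hz' : orderOf ((z : (T : Subgroup G)) : G) = 2 := by
    rw [← orderOf_coe, ← orderOf_coe] at hz
    exact hz
  have h1 := Basic.card_centralizer_mul_card_class (G := G) t
  have h2' := Basic.card_centralizer_mul_card_class (G := G) ((z : (T : Subgroup G)) : G)
  have hc := hcl _ hz'
  have e : Nat.card {y : G // IsConj t y} = Nat.card {y : G // IsConj ((z : (T : Subgroup G)) : G) y} :=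
    Nat.card_congr (Equiv.subtypeEquivRight fun y => ⟨fun h => hc.symm.trans h, fun h => hc.trans h⟩)
  have hpos : 0 < Nat.card {y : G // IsConj t y} := by
    haveI : Nonempty {y : G // IsConj t y} := ⟨⟨t, IsConj.refl t⟩⟩
    exact Nat.card_pos
  rw [← e] at h2'
  rw [Nat.eq_of_mul_eq_mul_right hpos (h1.trans h2'.symm)]
  refine card_dvd_of_le fun w hw => mem_centralizer_singleton_iff.2 ?_
  exact congrArg Subtype.val (mem_center_iff.1 z.2 ⟨w, hw⟩)

/-- Recognition through the centralisers of involutions. -/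
theorem psl_of_centralizers [Finite G] [IsSimpleGroup G] (hG : ¬ IsMulCommutative G)
    (T : Sylow 2 G) {q : ℕ} (hT : Nat.card (T : Subgroup G) = q) (hq : 4 ≤ q)
    (hC : ∀ t : G, orderOf t = 2 → Nat.card (centralizer ({t} : Set G)) = q)
    (hexp : ∀ g : G, ∀ k, orderOf g = 2 ^ k → k ≤ 1)
    {F : Type*} [Field F] [Fintype F] (hF : Fintype.card F = q) :
    Nonempty (G ≃* Matrix.ProjectiveSpecialLinearGroup (Fin 2) F) := by
  classical
  haveI : Fact (Nat.Prime 2) := ⟨Nat.prime_two⟩
  obtain ⟨n, hn⟩ := IsPGroup.iff_card.1 T.2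
  rw [hT] at hn
  have h2 : 2 ∣ Nat.card G := by
    refine (dvd_trans ?_ (T : Subgroup G).card_subgroup_dvd_card)
    rw [hT, hn]
    refine dvd_pow_self 2 ?_
    rintro rfl
    rw [pow_zero] at hn
    omega
  have hsq : ∀ H : Subgroup G, Nat.card H = q → ∀ g ∈ H, g * g = 1 := by
    intro H hH g hg
    have hd := orderOf_dvd_natCard (⟨g, hg⟩ : H)
    rw [orderOf_mk, hH, hn] at hd
    obtain ⟨k, -, hk⟩ := (Nat.dvd_prime_pow Nat.prime_two).1 hd
    rw [← sq, ← orderOf_dvd_iff_pow_eq_one, hk]
    exact (pow_dvd_pow 2 (hexp g k hk)).trans (by norm_num)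
  have hcomm : ∀ H : Subgroup G, Nat.card H = q → IsMulCommutative H := by
    intro H hH
    refine ⟨⟨fun a b => ?_⟩⟩
    have hinv : ∀ c : H, c⁻¹ = c := fun c =>
      inv_eq_of_mul_eq_one_right (Subtype.ext (hsq H hH c c.2))
    calc a * b = (a * b)⁻¹ := (hinv _).symm
      _ = b * a := by rw [mul_inv_rev, hinv, hinv]
  have h : Involutions.ElementaryCentralizers.Hyp T := by
    refine ⟨fun hcyc => ?_, Basic.sylow_not_normal hG h2 T, fun t ht => ⟨hcomm _ (hC t ht), ?_⟩⟩
    · obtain ⟨g, hg⟩ := IsCyclic.exists_ofOrder_eq_natCard (α := (T : Subgroup G))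
      have : orderOf g ∣ 2 := orderOf_dvd_of_pow_eq_one
        (by rw [sq]; exact Subtype.ext (hsq _ hT g g.2))
      rw [hg, hT] at this
      exact absurd (Nat.le_of_dvd (by norm_num) this) (by omega)
    · exact fun c hc => by rw [sq]; exact hsq _ (hC t ht) c hc
  obtain ⟨K, iF, iK, hK, -, ⟨φ⟩⟩ := h.exists_pslTwo
  exact ⟨φ.trans (Classical.SmallIso.pslCongr
    (FiniteField.ringEquivOfCardEq (hK.trans (hT.trans hF.symm))))⟩

/-- If a cover by involutions and subgroups of odd order is large enough, there are no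
elements of order `4`. -/
theorem exponent_two [Finite G] {a b : ℕ} {Q : G → Prop}
    (hI : Nat.card {g : G // orderOf g = 2} = a)
    (hQ : Nat.card {g : G // Q g} = b)
    (hQodd : ∀ g, Q g → g ≠ 1 ∧ Odd (orderOf g)) (hcard : Nat.card G ≤ 1 + a + b) :
    ∀ g : G, ∀ k, orderOf g = 2 ^ k → k ≤ 1 := by
  classical
  haveI := Fintype.ofFinite G
  intro g k hk
  by_contra hk1
  set S : Finset G := insert (1 : G)
    ((Finset.univ.filter fun g => orderOf g = 2) ∪ Finset.univ.filter Q) with hS
  have hSc : S.card = 1 + a + b := by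
    rw [hS, Finset.card_insert_of_notMem, Finset.card_union_of_disjoint]
    · rw [← hI, ← hQ, Nat.card_eq_fintype_card, Nat.card_eq_fintype_card, Fintype.card_subtype,
        Fintype.card_subtype]
      ring
    · rw [Finset.disjoint_filter]
      intro x _ hx hxQ
      have := (hQodd x hxQ).2
      rw [hx] at this
      exact absurd this (by decide)
    · simp only [Finset.mem_union, Finset.mem_filter, Finset.mem_univ, true_and, orderOf_one]
      rintro (h | h)
      · norm_num at h
      · exact (hQodd 1 h).1 rfl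
  have huniv : S = Finset.univ :=
    Finset.eq_univ_of_card S (le_antisymm (Finset.card_le_univ S)
      (by rw [hSc, ← Nat.card_eq_fintype_card]; exact hcard))
  have hg := huniv ▸ Finset.mem_univ g
  simp only [hS, Finset.mem_insert, Finset.mem_union, Finset.mem_filter, Finset.mem_univ,
    true_and] at hg
  rcases hg with rfl | h | h
  · rw [orderOf_one] at hk
    exact absurd hk (Nat.one_lt_two_pow (by omega)).ne
  · rw [hk] at h
    exact hk1 (le_of_eq (Nat.pow_right_injective (le_refl 2) (show 2 ^ k = 2 ^ 1 by rw [h, pow_one])))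
  · have := (hQodd g h).2
    rw [hk] at this
    exact (Nat.not_odd_iff_even.2 (even_two.pow_of_ne_zero (by omega))) this

/-- The number of involutions when there is one class. -/
theorem card_involutions [Finite G] {t : G} (ht : orderOf t = 2)
    (hcl : ∀ u : G, orderOf u = 2 → IsConj t u) :
    Nat.card (centralizer ({t} : Set G)) * Nat.card {g : G // orderOf g = 2} = Nat.card G := by
  rw [← Basic.card_centralizer_mul_card_class t]
  congr 1
  refine Nat.card_congr (Equiv.subtypeEquivRight fun u => ⟨hcl u, fun h => ?_⟩)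
  obtain ⟨c, rfl⟩ := isConj_iff.1 h
  rw [← ht]
  exact orderOf_injective (MulAut.conj c).toMonoidHom (MulAut.conj c).injective t

end Cfsg.Agent.SmallSimple.EvenPSL
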