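import Mathlib

/-!
# The action of a group of order 360 on ten points

The points are `none` and `some v` with `v` in `(ZMod 3)²`. Translations fix `none`, `rot` is
multiplication by a square root of `-1`, and a candidate exchanging `none` and `some 0` and
normalising `⟨rot⟩` is given by its values on `(1,0)` and `(1,1)` and an exponent. The test keeps
only the inversion, up to `⟨rot⟩`.
-/

namespace Cfsg.Agent.SmallSimple.Model360

/-- The affine points. -/
abbrev V := ZMod 3 × ZMod 3

/-- Multiplication by a square root of `-1`. -/
def rot (v : V) : V := (-v.2, v.1)

/-- The orbit of a non-zero point under `rot`, and its position there. -/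
def pos (v : V) : Bool × ℕ :=
  if v = (1, 0) then (true, 0) else if v = (0, 1) then (true, 1) else if v = (2, 0) then (true, 2)
  else if v = (0, 2) then (true, 3) else if v = (1, 1) then (false, 0) else if v = (2, 1) then (false, 1)
  else if v = (2, 2) then (false, 2) else (false, 3)

theorem val_sq : ∀ b : ZMod 3, b ≠ 0 → (b.val * b.val) % 3 = 1 := by decide +kernel

theorem one_zero_ne : ((1, 0) : V) ≠ 0 := by decide

theorem one_one_ne : ((1, 1) : V) ≠ 0 := by decide

/-- The base point of an orbit. -/
def base (o : Bool) : V := if o then (1, 0) else (1, 1)

theorem pos_spec : ∀ v : V, v ≠ 0 → rot^[(pos v).2] (base (pos v).1) = v ∧ (pos v).2 < 4 := by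
  decide +kernel

/-- A translation. -/
def shift (k : V) : Option V → Option V
  | none => none
  | some v => some (k + v)

/-- The rotation. -/
def rotO : Option V → Option V
  | none => none
  | some v => some (rot v)

/-- The candidate with values `a`, `b` and exponent `s`. -/
def swap (a b : V) (s : ℕ) : Option V → Option V
  | none => some 0
  | some v => if v = 0 then none else some (rot^[s * (pos v).2 % 4] (if (pos v).1 then a else b))

/-- The inversion `z ↦ 1/z`. -/
def inversion : Option V → Option V := swap (1, 0) (2, 1) 3

/-- Some power with exponent at most five is the identity. -/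
abbrev SmallOrder (f : Option V → Option V) : Prop :=
  ∃ k ∈ [1, 2, 3, 4, 5], ∀ z, f^[k] z = z

/-- The only candidates are the inversion times a rotation. -/
theorem key : ∀ a b : V, a ≠ 0 → b ≠ 0 → ∀ s ∈ [1, 3],
    (∀ v ∈ [(0 : V), (1, 0), (0, 1), (1, 1)], SmallOrder (fun z => swap a b s (shift v z))) →
    ∃ k ∈ Finset.range 4, ∀ z, swap a b s (rotO^[k] z) = inversion z := by
  decide +kernel

/-- The permutations generating the model. -/
def model : Subgroup (Equiv.Perm (Option V)) :=
  Subgroup.closure {σ | (σ : Option V → Option V) = shift (1, 0) ∨ (σ : Option V → Option V) = shift (0, 1) ∨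
    (σ : Option V → Option V) = rotO ∨ (σ : Option V → Option V) = inversion}

end Cfsg.Agent.SmallSimple.Model360
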