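import Mathlib
import Cfsg.Agent.Lib.SmallSimple.EvenPSL
import Cfsg.Agent.Lib.SmallSimple.Model360

/-!
# Simple groups of order 360 are determined up to isomorphism
-/

set_option linter.style.haveILetI false

namespace Cfsg.Agent.SmallSimple.Order360

open Subgroup MulAction
open Cfsg.Agent.SmallSimple.Model360

variable {G : Type*} [Group G] [Finite G] [IsSimpleGroup G]

/-- The centralisers in a simple group of order 360. -/
theorem centralizers (h : Nat.card G = 360) :
    (∀ t : G, orderOf t = 2 → Nat.card (centralizer ({t} : Set G)) = 8) ∧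
    (∀ y : G, orderOf y = 3 → ∀ Q : Sylow 3 G, y ∈ (Q : Subgroup G) →
      centralizer ({y} : Set G) = (Q : Subgroup G)) ∧
    (∀ g : G, 5 ∣ orderOf g → orderOf g = 5) := by
  classical
  haveI := Fintype.ofFinite G
  haveI : Fact (Nat.Prime 5) := ⟨by norm_num⟩
  haveI : Fact (Nat.Prime 3) := ⟨by norm_num⟩
  haveI : Fact (Nat.Prime 2) := ⟨by norm_num⟩
  have hG : ¬ IsMulCommutative G := Basic.not_comm_of_not_prime (by rw [h]; norm_num)
  have hP5 : ∀ P : Sylow 5 G, Nat.card (P : Subgroup G) = 5 := fun P => by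
    simpa using Basic.card_sylow_eq_pow (a := 1) (m := 72) (by rw [h]; norm_num) (by norm_num) P
  have hQ9 : ∀ Q : Sylow 3 G, Nat.card (Q : Subgroup G) = 9 := fun Q =>
    Basic.card_sylow_eq_pow (a := 2) (m := 40) (by rw [h]; norm_num) (by norm_num) Q
  have hdata : ∀ P : Sylow 5 G, Nat.card (centralizer ((P : Subgroup G) : Set G)) = 5 ∧
      Nat.card (normalizer ((P : Subgroup G) : Set G)) = 10 := fun P => by
    obtain ⟨r, hr, hr1, hN, hC⟩ := Centralize.centralizer_data hG P (hP5 P)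
    obtain ⟨hd, hm, h1, -⟩ := Basic.sylow_count (p := 5) hG (by rw [h]; norm_num) (a := 1) (m := 72)
      (by rw [h]; norm_num) (by norm_num)
    have hmul := Basic.card_normalizer_mul P
    rw [hN, h] at hmul
    have key : ∀ n ∈ Nat.divisors 72, n % 5 = 1 → 1 < n → ∀ c ∈ Nat.divisors 360, 5 ∣ c →
        ∀ e ∈ Nat.divisors 4, 1 < e → c * e * n = 360 → (n ≤ 7 → c = 5) → c = 5 ∧ c * e = 10 := by
      decide +kernel
    obtain ⟨k1, k2⟩ := key _ (Nat.mem_divisors.2 ⟨hd, by norm_num⟩) hm h1 _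
      (Nat.mem_divisors.2 ⟨h ▸ card_subgroup_dvd_card _, by norm_num⟩) hC r
      (Nat.mem_divisors.2 ⟨hr, by norm_num⟩) hr1 hmul
      (fun hle => Centralize.card_centralizer_of_le hG (by norm_num) P (hP5 P) hle)
    exact ⟨k1, hN.trans k2⟩
  obtain ⟨P⟩ : Nonempty (Sylow 5 G) := inferInstance
  have hidx : (P : Subgroup G).relIndex (normalizer ((P : Subgroup G) : Set G)) = 2 := by
    have h1 := relIndex_mul_relIndex ⊥ (P : Subgroup G) (normalizer ((P : Subgroup G) : Set G)) bot_le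
      le_normalizer
    rw [relIndex_bot_left, relIndex_bot_left, hP5, (hdata P).2] at h1
    omega
  obtain ⟨t, a, x, ht, hcl, hx1, hax, hxd, hxd1, heq⟩ := IndexTwo.equation hG (q := 5) (by norm_num)
    (EvenPSL.selfCent_of_card P (hP5 P) (hdata P).1) (hP5 P) hidx
  obtain ⟨T⟩ : Nonempty (Sylow 2 G) := inferInstance
  have hCt : Nat.card (centralizer ({t} : Set G)) = 8 := by
    have h8 := EvenPSL.card_sylow_dvd_centralizer T (by rw [h]; norm_num) hcl
    rw [Basic.card_sylow_eq_pow (a := 3) (m := 45) (by rw [h]; norm_num) (by norm_num) T] at h8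
    have hcd : Nat.card (centralizer ({t} : Set G)) ∣ 360 := h ▸ card_subgroup_dvd_card _
    generalize Nat.card (centralizer ({t} : Set G)) = c at h8 hcd heq ⊢
    have hax2 := abs_le.1 hax
    obtain ⟨d, hd⟩ : ∃ d : ℕ, (a - x) ^ 2 = (d : ℤ) ^ 2 ∧ d ≤ 2 * x :=
      ⟨(a - x).natAbs, (Int.natAbs_sq _).symm, by omega⟩
    rw [hd.1, h] at heq
    have heq' : 360 * d ^ 2 = 5 * c ^ 2 * (x * (x + 1)) := by exact_mod_cast heq
    have hx9 : x ≤ 9 := by
      have key : ∀ y ∈ Nat.divisors 360, (y + 1) ∣ 360 → y ≤ 9 := by decide +kernel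
      exact key x (Nat.mem_divisors.2 ⟨h ▸ hxd, by norm_num⟩) (h ▸ hxd1)
    have key : ∀ y ∈ Finset.range 10, (1 < y ∧ y ∣ 360 ∧ (y + 1) ∣ 360) → ∀ c ∈ Nat.divisors 360,
        8 ∣ c → ∀ d ∈ Finset.range 19, d ≤ 2 * y → 360 * d ^ 2 = 5 * c ^ 2 * (y * (y + 1)) → c = 8 := by
      decide +kernel
    exact key x (Finset.mem_range.2 (by omega)) ⟨hx1, h ▸ hxd, h ▸ hxd1⟩ c
      (Nat.mem_divisors.2 ⟨hcd, by norm_num⟩) (by simpa using h8) d (Finset.mem_range.2 (by omega))
      hd.2 heq'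
  have hCall : ∀ u : G, orderOf u = 2 → Nat.card (centralizer ({u} : Set G)) = 8 := fun u hu => by
    have h1 := Basic.card_centralizer_mul_card_class (G := G) t
    have h2 := Basic.card_centralizer_mul_card_class (G := G) u
    have hc := hcl u hu
    have e : Nat.card {y : G // IsConj t y} = Nat.card {y : G // IsConj u y} :=
      Nat.card_congr (Equiv.subtypeEquivRight fun y => ⟨fun h => hc.symm.trans h, fun h => hc.trans h⟩)
    haveI : Nonempty {y : G // IsConj u y} := ⟨⟨u, IsConj.refl u⟩⟩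
    rw [hCt, e] at h1
    exact Nat.eq_of_mul_eq_mul_right Nat.card_pos (h2.trans h1.symm)
  have hC5 : ∀ z : G, orderOf z = 5 → Nat.card (centralizer ({z} : Set G)) = 5 := fun z hz => by
    obtain ⟨P', hP'⟩ := (IsPGroup.of_card (n := 1) (by rw [Nat.card_zpowers, hz, pow_one]) :
      IsPGroup 5 (zpowers z)).exists_le_sylow
    have e : zpowers z = (P' : Subgroup G) :=
      eq_of_le_of_card_ge hP' (by rw [Nat.card_zpowers, hz, hP5])
    rw [← (hdata P').1, ← e, zpowers_eq_closure, centralizer_closure]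
  refine ⟨hCall, ?_, ?_⟩
  · intro y hy Q hyQ
    haveI : IsMulCommutative (Q : Subgroup G) :=
      IsPGroup.isMulCommutative_of_card_eq_prime_sq (p := 3) (by rw [hQ9]; norm_num)
    have hle : (Q : Subgroup G) ≤ centralizer ({y} : Set G) := fun z hz =>
      mem_centralizer_singleton_iff.2
        (congrArg Subtype.val (mul_comm' (⟨z, hz⟩ : (Q : Subgroup G)) ⟨y, hyQ⟩))
    have hnot : ∀ r : ℕ, [Fact r.Prime] → ∀ c, (∀ u : G, orderOf u = r →
        Nat.card (centralizer ({u} : Set G)) = c) → ¬ 3 ∣ c →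
        ¬ r ∣ Nat.card (centralizer ({y} : Set G)) := fun r _ c hr hc hd => by
      obtain ⟨⟨u, hu⟩, huo⟩ := exists_prime_orderOf_dvd_card' (G := centralizer ({y} : Set G)) r hd
      rw [orderOf_mk] at huo
      have hm : y ∈ centralizer ({u} : Set G) :=
        mem_centralizer_singleton_iff.2 (mem_centralizer_singleton_iff.1 hu).symm
      have hd' := _root_.orderOf_dvd_natCard (⟨y, hm⟩ : centralizer ({u} : Set G))
      rw [orderOf_mk, hy, hr u huo] at hd'
      exact hc hd'
    have key : ∀ c ∈ Nat.divisors 360, ¬ 2 ∣ c → ¬ 5 ∣ c → c ≤ 9 := by decide +kernel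
    exact (eq_of_le_of_card_ge hle (by
      rw [hQ9]
      exact key _ (Nat.mem_divisors.2 ⟨h ▸ card_subgroup_dvd_card _, by norm_num⟩)
        (hnot 2 8 hCall (by norm_num)) (hnot 5 5 hC5 (by norm_num)))).symm
  · intro g hg
    have ho : orderOf (g ^ (orderOf g / 5)) = 5 := orderOf_pow_orderOf_div (orderOf_pos g).ne' hg
    have hm : g ∈ centralizer ({g ^ (orderOf g / 5)} : Set G) :=
      mem_centralizer_singleton_iff.2 ((Commute.refl g).pow_right _).eq
    have hd := _root_.orderOf_dvd_natCard (⟨g, hm⟩ : centralizer ({g ^ (orderOf g / 5)} : Set G))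
    rw [orderOf_mk, hC5 _ ho] at hd
    exact ((Nat.dvd_prime (by norm_num)).1 hd).resolve_left fun e => by rw [e] at hg; norm_num at hg

/-- Every simple group of order 360 is isomorphic to the model. -/
theorem mulEquiv_model (h : Nat.card G = 360) : Nonempty (G ≃* model) := by
  classical
  haveI := Fintype.ofFinite G
  haveI : Fact (Nat.Prime 5) := ⟨by norm_num⟩
  haveI : Fact (Nat.Prime 3) := ⟨by norm_num⟩
  haveI : Fact (Nat.Prime 2) := ⟨by norm_num⟩
  have hG : ¬ IsMulCommutative G := Basic.not_comm_of_not_prime (by rw [h]; norm_num)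
  obtain ⟨hCinv, hCy, h5ord⟩ := centralizers h
  have hQ9 : ∀ Q : Sylow 3 G, Nat.card (Q : Subgroup G) = 9 := fun Q =>
    Basic.card_sylow_eq_pow (a := 2) (m := 40) (by rw [h]; norm_num) (by norm_num) Q
  have hcomm : ∀ Q : Sylow 3 G, ∀ a ∈ (Q : Subgroup G), ∀ b ∈ (Q : Subgroup G), a * b = b * a := by
    intro Q a ha b hb
    haveI : IsMulCommutative (Q : Subgroup G) :=
      IsPGroup.isMulCommutative_of_card_eq_prime_sq (p := 3) (by rw [hQ9]; norm_num)
    exact congrArg Subtype.val (mul_comm' (⟨a, ha⟩ : (Q : Subgroup G)) ⟨b, hb⟩)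
  have hpow3 : ∀ Q : Sylow 3 G, ∀ g ∈ (Q : Subgroup G), g ≠ 1 →
      3 ∣ orderOf g ∧ orderOf g ∣ 9 := by
    intro Q g hgQ hg
    have hd : orderOf g ∣ 9 := by
      have hd := _root_.orderOf_dvd_natCard (⟨g, hgQ⟩ : (Q : Subgroup G))
      rwa [orderOf_mk, hQ9] at hd
    refine ⟨?_, hd⟩
    have key : ∀ o ∈ Nat.divisors 9, o ≠ 1 → 3 ∣ o := by decide +kernel
    exact key _ (Nat.mem_divisors.2 ⟨hd, by norm_num⟩) fun e => hg (orderOf_eq_one_iff.1 e)
  have hcentQ : ∀ Q : Sylow 3 G, ∀ g ∈ (Q : Subgroup G), g ≠ 1 →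
      centralizer ({g} : Set G) = (Q : Subgroup G) := by
    intro Q g hgQ hg
    have ho : orderOf (g ^ (orderOf g / 3)) = 3 :=
      orderOf_pow_orderOf_div (orderOf_pos g).ne' (hpow3 Q g hgQ hg).1
    refine le_antisymm ?_ fun z hz => mem_centralizer_singleton_iff.2 (hcomm Q z hz g hgQ)
    rw [← hCy _ ho Q (pow_mem hgQ _)]
    intro z hz
    exact mem_centralizer_singleton_iff.2
      ((Commute.pow_right (show Commute z g from mem_centralizer_singleton_iff.1 hz) _).eq)
  have hTI : ∀ Q Q' : Sylow 3 G, ∀ g : G, g ≠ 1 → g ∈ (Q : Subgroup G) → g ∈ (Q' : Subgroup G) →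
      Q = Q' := fun Q Q' g hg hgQ hgQ' =>
    Sylow.ext ((hcentQ Q g hgQ hg).symm.trans (hcentQ Q' g hgQ' hg))
  obtain ⟨P⟩ : Nonempty (Sylow 3 G) := inferInstance
  have hn : Nat.card (Sylow 3 G) = 10 := by
    have h9 := EvenPSL.card_dvd_card_sylow_sub_one P (hTI P)
    rw [hQ9] at h9
    obtain ⟨hd, -, h1, -⟩ := Basic.sylow_count (p := 3) hG (by rw [h]; norm_num) (a := 2) (m := 40)
      (by rw [h]; norm_num) (by norm_num)
    have key : ∀ n ∈ Nat.divisors 40, 9 ∣ n - 1 → 1 < n → n = 10 := by decide +kernel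
    exact key _ (Nat.mem_divisors.2 ⟨hd, by norm_num⟩) h9 h1
  haveI := FixedPoints.faithful (p := 3) hG (by rw [h]; norm_num)
  haveI : Nontrivial (Sylow 3 G) := Finite.one_lt_card_iff_nontrivial.1 (by omega)
  obtain ⟨P0, hP0⟩ := exists_ne P
  have hPfix : ∀ q ∈ (P : Subgroup G), q • P = P := fun q hq =>
    Sylow.smul_eq_iff_mem_normalizer.2 (le_normalizer hq)
  -- `P` is regular on the other points
  have hfree : ∀ q ∈ (P : Subgroup G), q • P0 = P0 → q = 1 := by
    intro q hq hqf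
    by_contra hq1
    have hle : zpowers q ≤ normalizer ((P0 : Subgroup G) : Set G) :=
      zpowers_le.2 (Sylow.smul_eq_iff_mem_normalizer.1 hqf)
    have h2 : zpowers q ⊔ (P0 : Subgroup G) = (P0 : Subgroup G) :=
      P0.3 (IsPGroup.to_sup_of_normal_right' (P.2.to_le (zpowers_le.2 hq)) P0.2 hle) le_sup_right
    exact hP0 (hTI P P0 q hq1 hq (h2 ▸ mem_sup_left (mem_zpowers q))).symm
  have hreg : ∀ Q : Sylow 3 G, Q ≠ P → ∃ q ∈ (P : Subgroup G), q • P0 = Q := by
    let F : ↥(P : Subgroup G) → {Q : Sylow 3 G // Q ≠ P} := fun q => ⟨(q : G) • P0, fun e =>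
      hP0 (smul_left_cancel (q : G) (e.trans (hPfix _ q.2).symm))⟩
    have hFi : Function.Injective F := by
      intro a b hab
      have hab' : (a : G) • P0 = (b : G) • P0 := congrArg Subtype.val hab
      refine Subtype.ext (inv_mul_eq_one.1 (hfree _ (mul_mem (inv_mem a.2) b.2) ?_))
      rw [mul_smul, ← hab', inv_smul_smul]
    have hFs := (hFi.bijective_of_nat_card_le (by
      haveI := Fintype.ofFinite (Sylow 3 G)
      rw [hQ9, Nat.card_eq_fintype_card, Fintype.card_subtype_compl, Fintype.card_subtype_eq,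
        ← Nat.card_eq_fintype_card, hn])).2
    intro Q hQ
    obtain ⟨q, hq⟩ := hFs ⟨Q, hQ⟩
    exact ⟨q, q.2, congrArg Subtype.val hq⟩
  -- the two point stabiliser
  set N := normalizer ((P : Subgroup G) : Set G) with hNdef
  set D : Subgroup G := N ⊓ normalizer ((P0 : Subgroup G) : Set G) with hDdef
  have hDP : ∀ d, d ∈ D ↔ d • P = P ∧ d • P0 = P0 := fun d => by
    rw [Sylow.smul_eq_iff_mem_normalizer, Sylow.smul_eq_iff_mem_normalizer]
    rfl
  have hsplit : ∀ n ∈ N, ∃ q ∈ (P : Subgroup G), q⁻¹ * n ∈ D := by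
    intro n hn'
    have hnP : n • P = P := Sylow.smul_eq_iff_mem_normalizer.2 hn'
    obtain ⟨q, hq, hqn⟩ := hreg (n • P0) fun e => hP0 (smul_left_cancel n (e.trans hnP.symm))
    refine ⟨q, hq, (hDP _).2 ⟨?_, ?_⟩⟩
    · rw [mul_smul, hnP, inv_smul_eq_iff, hPfix q hq]
    · rw [mul_smul, ← hqn, inv_smul_smul]
  have hDcard : Nat.card D = 4 := by
    have hN : Nat.card N = 36 := by
      have := Basic.card_normalizer_mul P
      rw [h, hn, ← hNdef] at this
      omega
    let F : ↥(P : Subgroup G) × ↥D → N := fun s =>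
      ⟨(s.1 : G) * s.2, mul_mem (le_normalizer s.1.2) (inf_le_left (a := N) s.2.2)⟩
    have hF : Function.Bijective F := by
      constructor
      · rintro ⟨q, d⟩ ⟨q', d'⟩ he
        have h1 : (q : G) * d = q' * d' := congrArg Subtype.val he
        have h2 : ((q' : G)⁻¹ * q) = d' * (d : G)⁻¹ := by
          rw [eq_mul_inv_iff_mul_eq, mul_assoc, h1, inv_mul_cancel_left]
        have h3 : ((q' : G)⁻¹ * q) = 1 := hfree _ (mul_mem (inv_mem q'.2) q.2)
          ((hDP _).1 (h2 ▸ D.mul_mem d'.2 (D.inv_mem d.2))).2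
        obtain rfl : q = q' := Subtype.ext (inv_mul_eq_one.1 h3).symm
        exact Prod.ext rfl (Subtype.ext (mul_left_cancel h1))
      · rintro ⟨n, hn'⟩
        obtain ⟨q, hq, hd⟩ := hsplit n hn'
        exact ⟨(⟨q, hq⟩, ⟨_, hd⟩), Subtype.ext (mul_inv_cancel_left q n)⟩
    have := Nat.card_congr (Equiv.ofBijective F hF)
    rw [Nat.card_prod, hQ9, hN] at this
    omega
  have hfpf : ∀ d ∈ D, d ≠ 1 → ∀ q ∈ (P : Subgroup G), d * q * d⁻¹ = q → q = 1 := by
    intro d hd hd1 q hq hfix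
    by_contra hq1
    have hdC : d ∈ centralizer ({q} : Set G) :=
      mem_centralizer_singleton_iff.2 (mul_inv_eq_iff_eq_mul.1 hfix)
    rw [hcentQ P q hq hq1] at hdC
    exact hd1 (hfree d hdC ((hDP d).1 hd).2)
  have hinvert : ∀ t ∈ D, orderOf t = 2 → ∀ q ∈ (P : Subgroup G), t * q * t⁻¹ = q⁻¹ := by
    intro t htD ht q hq
    have ht1 : t ≠ 1 := fun e => by rw [e, orderOf_one] at ht; norm_num at ht
    have htt : t * t = 1 := by rw [← sq, ← ht, pow_orderOf_eq_one]
    have hq' : t * q * t⁻¹ ∈ (P : Subgroup G) := (mem_normalizer_iff.1 htD.1 q).1 hq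
    refine mul_eq_one_iff_eq_inv.1 (hfpf t htD ht1 _ (mul_mem hq' hq) ?_)
    calc t * (t * q * t⁻¹ * q) * t⁻¹ = t * t * q * (t * t)⁻¹ * (t * q * t⁻¹) := by group
      _ = q * (t * q * t⁻¹) := by rw [htt]; simp
      _ = t * q * t⁻¹ * q := hcomm P q hq _ hq'
  obtain ⟨q0, hq0, hq01⟩ : ∃ q, q ∈ (P : Subgroup G) ∧ q ≠ 1 := by
    haveI : Nontrivial (P : Subgroup G) := Finite.one_lt_card_iff_nontrivial.1 (by rw [hQ9]; norm_num)
    obtain ⟨q, hq⟩ := exists_ne (1 : (P : Subgroup G))
    exact ⟨q, q.2, fun e => hq (Subtype.ext e)⟩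
  obtain ⟨r, hrD, hr4⟩ : ∃ r ∈ D, orderOf r = 4 := by
    by_contra hc
    push Not at hc
    have h2 : ∀ d ∈ D, d ≠ 1 → orderOf d = 2 := by
      intro d hd hd1
      have hd' := _root_.orderOf_dvd_natCard (⟨d, hd⟩ : D)
      rw [orderOf_mk, hDcard] at hd'
      have key : ∀ o ∈ Nat.divisors 4, o ≠ 1 → o ≠ 4 → o = 2 := by decide +kernel
      exact key _ (Nat.mem_divisors.2 ⟨hd', by norm_num⟩) (fun e => hd1 (orderOf_eq_one_iff.1 e))
        (hc d hd)
    haveI := Fintype.ofFinite D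
    obtain ⟨a, ha⟩ := Fintype.exists_ne_of_one_lt_card
      (by rw [← Nat.card_eq_fintype_card, hDcard]; norm_num) (1 : D)
    obtain ⟨b, hb1, hba⟩ : ∃ b : D, b ≠ 1 ∧ b ≠ a := by
      by_contra hcon
      push Not at hcon
      have hsub : (Finset.univ : Finset D) ⊆ {1, a} := fun b _ => by
        by_cases hb : b = 1
        · simp [hb]
        · simp [hcon b hb]
      have := (Finset.card_le_card hsub).trans Finset.card_le_two
      rw [Finset.card_univ, ← Nat.card_eq_fintype_card, hDcard] at this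
      omega
    have ha' : (a : G) ≠ 1 := fun e => ha (Subtype.ext e)
    have hb' : (b : G) ≠ 1 := fun e => hb1 (Subtype.ext e)
    by_cases hab : (a : G) * b = 1
    · refine hba (Subtype.ext ?_)
      rw [← eq_inv_of_mul_eq_one_right hab |>.symm]
      have hh := pow_orderOf_eq_one (a : G)
      rw [h2 _ a.2 ha', sq] at hh
      exact inv_eq_of_mul_eq_one_right hh
    · refine hq01 (hfpf _ (mul_mem a.2 b.2) hab q0 hq0 ?_)
      calc (a : G) * b * q0 * ((a : G) * b)⁻¹ = a * ((b : G) * q0 * (b : G)⁻¹) * (a : G)⁻¹ := by group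
        _ = q0 := by
          rw [hinvert _ b.2 (h2 _ b.2 hb') q0 hq0, hinvert _ a.2 (h2 _ a.2 ha') _ (inv_mem hq0), inv_inv]
  have hrD' : ∀ d ∈ D, orderOf d = 4 → d = r ∨ d = r ^ 3 := by
    intro d hd hd4
    have hDr : zpowers r = D :=
      eq_of_le_of_card_ge (zpowers_le.2 hrD) (by rw [Nat.card_zpowers, hr4, hDcard])
    have hd' : d ∈ zpowers r := hDr.symm ▸ hd
    rw [← mem_powers_iff_mem_zpowers, Submonoid.mem_powers_iff] at hd'
    obtain ⟨k, rfl⟩ := hd'
    rw [← pow_mod_orderOf, hr4] at hd4 ⊢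
    have hlt : k % 4 < 4 := Nat.mod_lt _ (by norm_num)
    generalize k % 4 = j at hd4 hlt ⊢
    interval_cases j
    · rw [pow_zero, orderOf_one] at hd4; norm_num at hd4
    · exact Or.inl (pow_one r)
    · rw [orderOf_pow_of_dvd (by norm_num) (hr4 ▸ by norm_num), hr4] at hd4; norm_num at hd4
    · exact Or.inr rfl
  have hr2D : r ^ 2 ∈ D := pow_mem hrD 2
  have hr2o : orderOf (r ^ 2) = 2 := by
    rw [orderOf_pow_of_dvd (by norm_num) (hr4 ▸ by norm_num), hr4]
  -- coordinates
  have hexpP : ∀ q ∈ (P : Subgroup G), q ≠ 1 → orderOf q = 3 := by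
    intro q hq hq1
    have key : ∀ o ∈ Nat.divisors 9, 3 ∣ o → o = 3 ∨ o = 9 := by decide +kernel
    obtain ⟨h3, h9⟩ := hpow3 P q hq hq1
    rcases key _ (Nat.mem_divisors.2 ⟨h9, by norm_num⟩) h3 with ho | ho
    · exact ho
    exfalso
    have hgen : zpowers q = (P : Subgroup G) :=
      eq_of_le_of_card_ge (zpowers_le.2 hq) (by rw [Nat.card_zpowers, ho, hQ9])
    have hm : r * q * r⁻¹ ∈ zpowers q := hgen.symm ▸ (mem_normalizer_iff.1 hrD.1 q).1 hq
    rw [← mem_powers_iff_mem_zpowers, Submonoid.mem_powers_iff] at hm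
    obtain ⟨k, hk⟩ := hm
    have h2 : q⁻¹ = q ^ (k * k) := by
      rw [← hinvert _ hr2D hr2o q hq, pow_mul]
      calc r ^ 2 * q * (r ^ 2)⁻¹ = r * (r * q * r⁻¹) * r⁻¹ := by rw [sq]; group
        _ = (r * q * r⁻¹) ^ k := by rw [conj_pow, hk]
        _ = (q ^ k) ^ k := by rw [← hk]
    have hz : q ^ (k * k + 1) = 1 := by rw [pow_succ, ← h2, inv_mul_cancel]
    have hdvd := orderOf_dvd_of_pow_eq_one hz
    rw [ho] at hdvd
    have key2 : ∀ j ∈ Finset.range 9, (j * j + 1) % 9 ≠ 0 := by decide +kernel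
    have := key2 (k % 9) (Finset.mem_range.2 (Nat.mod_lt _ (by norm_num)))
    have : (k * k + 1) % 9 = ((k % 9) * (k % 9) + 1) % 9 := by
      rw [Nat.add_mod, Nat.mul_mod]; simp [Nat.add_mod, Nat.mul_mod]
    omega
  set y := q0 with hydef
  set y' := r * y * r⁻¹ with hy'def
  have hy'P : y' ∈ (P : Subgroup G) := (mem_normalizer_iff.1 hrD.1 y).1 hq0
  have hyo : orderOf y = 3 := hexpP y hq0 hq01
  have hy'o : orderOf y' = 3 := by
    rw [← hyo]
    exact orderOf_injective (MulAut.conj r).toMonoidHom (MulAut.conj r).injective y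
  have hy'n : y' ∉ zpowers y := by
    intro hm
    rw [← mem_powers_iff_mem_zpowers, Submonoid.mem_powers_iff] at hm
    obtain ⟨k, hk⟩ := hm
    have h2 : y⁻¹ = y ^ (k * k) := by
      rw [← hinvert _ hr2D hr2o y hq0, pow_mul]
      calc r ^ 2 * y * (r ^ 2)⁻¹ = r * (r * y * r⁻¹) * r⁻¹ := by rw [sq]; group
        _ = (r * y * r⁻¹) ^ k := by rw [conj_pow, hk, hy'def]
        _ = (y ^ k) ^ k := by rw [← hy'def, ← hk]
    have hz : y ^ (k * k + 1) = 1 := by rw [pow_succ, ← h2, inv_mul_cancel]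
    have hdvd := orderOf_dvd_of_pow_eq_one hz
    rw [hyo] at hdvd
    have key2 : ∀ j ∈ Finset.range 3, (j * j + 1) % 3 ≠ 0 := by decide +kernel
    have := key2 (k % 3) (Finset.mem_range.2 (Nat.mod_lt _ (by norm_num)))
    have : (k * k + 1) % 3 = ((k % 3) * (k % 3) + 1) % 3 := by
      rw [Nat.add_mod, Nat.mul_mod]; simp [Nat.add_mod, Nat.mul_mod]
    omega
  let X : V → G := fun v => y ^ v.1.val * y' ^ v.2.val
  have hadd3 : ∀ z : G, orderOf z = 3 → ∀ a b : ZMod 3, z ^ (a + b).val = z ^ a.val * z ^ b.val := by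
    intro z hz a b
    rw [← pow_add, pow_eq_pow_iff_modEq, hz, ZMod.val_add]
    exact Nat.mod_modEq _ _
  have hXP : ∀ v, X v ∈ (P : Subgroup G) := fun v => mul_mem (pow_mem hq0 _) (pow_mem hy'P _)
  have hXadd : ∀ v w, X (v + w) = X v * X w := by
    intro v w
    simp only [X, Prod.fst_add, Prod.snd_add, hadd3 y hyo, hadd3 y' hy'o]
    have hc : Commute (y ^ w.1.val) (y' ^ v.2.val) :=
      hcomm P _ (pow_mem hq0 _) _ (pow_mem hy'P _)
    rw [mul_assoc, ← mul_assoc (y ^ w.1.val), hc.eq]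
    simp only [mul_assoc]
  have hX0 : X 0 = 1 := by simp [X]
  have hX10 : X (1, 0) = y := by simp [X, ZMod.val_one]
  have hX01 : X (0, 1) = y' := by simp [X, ZMod.val_one]
  have hXneg : ∀ v, X (-v) = (X v)⁻¹ := fun v =>
    eq_inv_of_mul_eq_one_right (by rw [← hXadd, add_neg_cancel, hX0])
  have hXinj : ∀ v, X v = 1 → v = 0 := by
    rintro ⟨a, b⟩ hv
    have hb : y' ^ b.val ∈ zpowers y := by
      rw [eq_inv_of_mul_eq_one_right hv]
      exact inv_mem (pow_mem (mem_zpowers y) _)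
    have hb0 : b = 0 := by
      by_contra hb0
      refine hy'n ?_
      have he : (y' ^ b.val) ^ b.val = y' := by
        rw [← pow_mul, ← pow_mod_orderOf, hy'o, val_sq b hb0, pow_one]
      exact he ▸ pow_mem hb _
    subst hb0
    have ha : y ^ a.val = 1 := by simpa [X] using hv
    have hd := orderOf_dvd_of_pow_eq_one ha
    rw [hyo] at hd
    have ha0 : a = 0 := (ZMod.val_eq_zero a).1 (Nat.eq_zero_of_dvd_of_lt hd (ZMod.val_lt a))
    rw [ha0]; rfl
  have hXrot : ∀ v, r * X v * r⁻¹ = X (rot v) := by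
    intro v
    have e1 : r * y' * r⁻¹ = y⁻¹ := by
      rw [hy'def, ← hinvert _ hr2D hr2o y hq0, sq]; group
    have e2 : r * X v * r⁻¹ = (r * y * r⁻¹) ^ v.1.val * (r * y' * r⁻¹) ^ v.2.val := by
      rw [conj_pow, conj_pow]
      simp only [X]
      group
    have e3 : y ^ (-v.2).val = (y ^ v.2.val)⁻¹ := by
      refine eq_inv_of_mul_eq_one_right ?_
      rw [← hadd3 y hyo, add_neg_cancel, ZMod.val_zero, pow_zero]
    rw [e2, ← hy'def, e1]
    show y' ^ v.1.val * y⁻¹ ^ v.2.val = y ^ (-v.2).val * y' ^ v.1.val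
    rw [e3, inv_pow]
    exact hcomm P _ (pow_mem hy'P _) _ (inv_mem (pow_mem hq0 _))
  -- the points
  let f : Option V → Sylow 3 G := fun z => z.elim P (fun v => X v • P0)
  have hfinj : Function.Injective f := by
    rintro (_ | v) (_ | w) hvw
    · rfl
    · exact absurd (smul_left_cancel _ (hvw.symm.trans (hPfix _ (hXP w)).symm)) hP0
    · exact absurd (smul_left_cancel _ (hvw.trans (hPfix _ (hXP v)).symm)) hP0
    · change X v • P0 = X w • P0 at hvw
      have h0 : X (-w + v) • P0 = P0 := by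
        rw [hXadd, mul_smul, hvw, ← mul_smul, ← hXadd, neg_add_cancel, hX0, one_smul]
      have := hXinj _ (hfree _ (hXP _) h0)
      rw [neg_add_eq_sub, sub_eq_zero] at this
      rw [this]
  let ι : Option V ≃ Sylow 3 G := Equiv.ofBijective f (hfinj.bijective_of_nat_card_le (by
    rw [hn, Finite.card_option, Nat.card_prod, Nat.card_zmod]))
  let φ : G →* Equiv.Perm (Option V) :=
    ι.symm.permCongrHom.toMonoidHom.comp (toPermHom G (Sylow 3 G))
  have hφ : ∀ (g : G) (z : Option V), f (φ g z) = g • f z := fun g z => by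
    change ι (ι.symm (g • ι z)) = g • ι z
    rw [ι.apply_symm_apply]
  have hφinj : Function.Injective φ :=
    ι.symm.permCongrHom.injective.comp (fun a b hab => eq_of_smul_eq_smul fun Q => Equiv.congr_fun hab Q)
  have hφX : ∀ k, (φ (X k) : Option V → Option V) = shift k := fun k => by
    funext z
    apply hfinj
    rw [hφ]
    cases z with
    | none => exact hPfix _ (hXP k)
    | some v =>
      show X k • X v • P0 = X (k + v) • P0
      rw [← mul_smul, hXadd]
  have hφr : (φ r : Option V → Option V) = rotO := by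
    funext z
    apply hfinj
    rw [hφ]
    cases z with
    | none => exact ((hDP r).1 hrD).1
    | some v =>
      show r • X v • P0 = X (rot v) • P0
      rw [← mul_smul, ← hXrot, mul_smul (r * X v), inv_smul_eq_iff.2 ((hDP r).1 hrD).2.symm, mul_smul]
  have hφrn : ∀ n, (φ (r ^ n) : Option V → Option V) = rotO^[n] := fun n => by
    rw [map_pow, Equiv.Perm.coe_pow, hφr]
  have hrotO : ∀ n v, rotO^[n] (some v) = some (rot^[n] v) := by
    intro n
    induction n with
    | zero => intro v; rfl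
    | succ n ih => intro v; rw [Function.iterate_succ_apply', ih, Function.iterate_succ_apply']; rfl
  -- an element exchanging the two points
  obtain ⟨g, hgP, hgP0⟩ : ∃ g : G, g • P = P0 ∧ g • P0 = P := by
    obtain ⟨g0, hg0⟩ := MulAction.exists_smul_eq G P P0
    obtain ⟨q, hq, hq'⟩ := hreg (g0⁻¹ • P) fun e =>
      hP0 (hg0.symm.trans (inv_smul_eq_iff.1 e).symm)
    exact ⟨g0 * q, by rw [mul_smul, hPfix q hq, hg0], by rw [mul_smul, hq', smul_inv_smul]⟩
  have hgr : g * r * g⁻¹ = r ∨ g * r * g⁻¹ = r ^ 3 := by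
    refine hrD' _ ((hDP _).2 ⟨?_, ?_⟩) ?_
    · rw [mul_smul, mul_smul, inv_smul_eq_iff.2 hgP0.symm, ((hDP r).1 hrD).2, hgP0]
    · rw [mul_smul, mul_smul, inv_smul_eq_iff.2 hgP.symm, ((hDP r).1 hrD).1, hgP]
    · rw [← hr4]
      exact orderOf_injective (MulAut.conj g).toMonoidHom (MulAut.conj g).injective r
  obtain ⟨s, hs, hgs⟩ : ∃ s ∈ [1, 3], g * r * g⁻¹ = r ^ s := by
    rcases hgr with e | e
    · exact ⟨1, by simp, e.trans (pow_one r).symm⟩
    · exact ⟨3, by simp, e⟩
  have hgnone : φ g none = some 0 := hfinj (by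
    rw [hφ]
    show g • P = X 0 • P0
    rw [hgP, hX0, one_smul])
  have hgzero : φ g (some 0) = none := hfinj (by
    rw [hφ]
    show g • X 0 • P0 = P
    rw [hX0, one_smul, hgP0])
  have hne : ∀ v : V, v ≠ 0 → ∃ w : V, w ≠ 0 ∧ φ g (some v) = some w := by
    intro v hv
    obtain ⟨w, hw⟩ := Option.ne_none_iff_exists'.1 (show φ g (some v) ≠ none from fun e =>
      hv (Option.some.inj ((φ g).injective (e.trans hgzero.symm))))
    exact ⟨w, fun e => Option.some_ne_none v ((φ g).injective (hw.trans (e ▸ hgnone.symm))), hw⟩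
  obtain ⟨a, ha0, ha⟩ := hne (1, 0) one_zero_ne
  obtain ⟨b, hb0, hb⟩ := hne (1, 1) one_one_ne
  have hφg : (φ g : Option V → Option V) = swap a b s := by
    funext z
    cases z with
    | none => exact hgnone
    | some v =>
      by_cases hv : v = 0
      · subst hv; rw [hgzero]; rfl
      obtain ⟨hspec, hlt⟩ := pos_spec v hv
      generalize hk : (pos v).2 = k at hspec hlt
      have hconj : g * r ^ k = r ^ (s * k % 4) * g := by
        have h1 : (g * r * g⁻¹) ^ k = r ^ (s * k % 4) := by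
          rw [hgs, ← pow_mul, ← pow_mod_orderOf, hr4]
        rw [← h1, conj_pow, inv_mul_cancel_right]
      have h1 := congrArg (fun σ : Equiv.Perm (Option V) => σ (some (base (pos v).1))) (congrArg φ hconj)
      simp only [map_mul, Equiv.Perm.mul_apply] at h1
      rw [hφrn, hrotO, hspec] at h1
      rw [h1, hφrn]
      simp only [swap, if_neg hv, hk]
      cases (pos v).1 <;> simp [base, ha, hb, hrotO]
  -- orders of elements
  have hord : ∀ x : G, ∃ k ∈ [1, 2, 3, 4, 5], x ^ k = 1 := by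
    intro x
    by_cases hx1 : x = 1
    · exact ⟨1, by simp, by simp [hx1]⟩
    suffices ho : orderOf x ∈ [2, 3, 4, 5] by
      refine ⟨orderOf x, ?_, pow_orderOf_eq_one x⟩
      simp only [List.mem_cons, List.not_mem_nil, or_false] at ho ⊢
      tauto
    have hxd : orderOf x ∣ 360 := h ▸ _root_.orderOf_dvd_natCard x
    by_cases h5 : 5 ∣ orderOf x
    · simp [h5ord x h5]
    by_cases h3 : 3 ∣ orderOf x
    · have ho : orderOf (x ^ (orderOf x / 3)) = 3 := orderOf_pow_orderOf_div (orderOf_pos x).ne' h3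
      obtain ⟨Q, hQ⟩ := (IsPGroup.of_card (n := 1) (by rw [Nat.card_zpowers, ho, pow_one]) :
        IsPGroup 3 (zpowers (x ^ (orderOf x / 3)))).exists_le_sylow
      have hxQ : x ∈ (Q : Subgroup G) := by
        rw [← hCy _ ho Q (hQ (mem_zpowers _))]
        exact mem_centralizer_singleton_iff.2 ((Commute.refl x).pow_right _).eq
      obtain ⟨c, hc⟩ := MulAction.exists_smul_eq G Q P
      have hcx : c * x * c⁻¹ ∈ (P : Subgroup G) := by
        rw [← hc, Sylow.coe_subgroup_smul]
        exact ⟨x, hxQ, rfl⟩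
      have := hexpP _ hcx fun e => hx1 (conj_eq_one_iff.1 e)
      have h' := orderOf_injective (MulAut.conj c).toMonoidHom (MulAut.conj c).injective x
      simp only [MulEquiv.coe_toMonoidHom, MulAut.conj_apply] at h'
      rw [h'] at this
      simp [this]
    have key : ∀ o ∈ Nat.divisors 360, ¬ 5 ∣ o → ¬ 3 ∣ o → o = 1 ∨ o ∈ [2, 4] ∨ o = 8 := by
      decide +kernel
    rcases key _ (Nat.mem_divisors.2 ⟨hxd, by norm_num⟩) h5 h3 with h1 | h1 | h1
    · exact absurd (orderOf_eq_one_iff.1 h1) hx1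
    · simp only [List.mem_cons, List.not_mem_nil, or_false] at h1 ⊢
      tauto
    · exfalso
      obtain ⟨T, hT⟩ := (IsPGroup.of_card (n := 3) (by rw [Nat.card_zpowers, h1]; norm_num) :
        IsPGroup 2 (zpowers x)).exists_le_sylow
      have hTc : Nat.card (T : Subgroup G) = 8 :=
        Basic.card_sylow_eq_pow (a := 3) (m := 45) (by rw [h]; norm_num) (by norm_num) T
      have hTx : zpowers x = (T : Subgroup G) :=
        eq_of_le_of_card_ge hT (by rw [Nat.card_zpowers, h1, hTc])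
      haveI : IsCyclic (T : Subgroup G) := hTx ▸ (inferInstance : IsCyclic (zpowers x))
      have hmf : (Nat.card G).minFac = 2 := by rw [h]; exact (Nat.minFac_eq_two_iff 360).2 (by norm_num)
      exact Basic.not_normalizer_le_centralizer hG (by rw [h]; norm_num) T
        (IsCyclic.normalizer_le_centralizer (P := T) hmf inferInstance)
  have hsmall : ∀ x : G, SmallOrder (φ x) := fun x => by
    obtain ⟨k, hk, hk'⟩ := hord x
    refine ⟨k, hk, fun z => ?_⟩
    rw [← Equiv.Perm.coe_pow, ← map_pow, hk', map_one]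
    rfl
  obtain ⟨k, -, hk⟩ := key a b ha0 hb0 s hs (fun v _ => by
    have := hsmall (g * X v)
    rwa [map_mul, Equiv.Perm.coe_mul, hφg, hφX] at this)
  set w := g * r ^ k with hwdef
  have hφw : (φ w : Option V → Option V) = inversion := by
    funext z
    rw [hwdef, map_mul, Equiv.Perm.mul_apply, hφrn, hφg, hk]
  -- generation
  set K := closure ({X (1, 0), X (0, 1), r, w} : Set G) with hKdef
  have hK : K = ⊤ := by
    have hy1 : y ∈ K := hX10 ▸ subset_closure (by simp)
    have hy2 : y' ∈ K := hX01 ▸ subset_closure (by simp)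
    have hrK : r ∈ K := subset_closure (by simp)
    have hXK : ∀ v, X v ∈ K := fun v => mul_mem (pow_mem hy1 _) (pow_mem hy2 _)
    have hgK : g ∈ K := by
      have : w ∈ K := subset_closure (by simp)
      rw [hwdef] at this
      have := mul_mem this (inv_mem (pow_mem hrK k))
      rwa [mul_inv_cancel_right] at this
    have hPK : ∀ q ∈ (P : Subgroup G), q ∈ K := by
      have : Function.Bijective fun v : V => (⟨X v, hXP v⟩ : (P : Subgroup G)) := by
        refine (show Function.Injective _ from fun v w hvw => ?_).bijective_of_nat_card_le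
          (by rw [hQ9, Nat.card_prod, Nat.card_zmod])
        have hvw' : X v = X w := congrArg Subtype.val hvw
        have := hXinj (-w + v) (by rw [hXadd, hvw', ← hXadd, neg_add_cancel, hX0])
        rwa [neg_add_eq_sub, sub_eq_zero] at this
      intro q hq
      obtain ⟨v, hv⟩ := this.2 ⟨q, hq⟩
      have e : X v = q := congrArg Subtype.val hv
      rw [← e]
      exact hXK v
    have hNK : ∀ n ∈ N, n ∈ K := by
      intro n hn'
      obtain ⟨q, hq, hd⟩ := hsplit n hn'
      have hDr : zpowers r = D :=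
        eq_of_le_of_card_ge (zpowers_le.2 hrD) (by rw [Nat.card_zpowers, hr4, hDcard])
      have := mul_mem (hPK q hq) ((zpowers_le.2 hrK) (hDr.symm ▸ hd))
      rwa [mul_inv_cancel_left] at this
    refine eq_top_iff.2 fun x _ => ?_
    obtain ⟨k', hk', hkP⟩ : ∃ k' ∈ K, k' • P = x • P := by
      by_cases hx : x • P = P
      · exact ⟨1, one_mem _, by rw [one_smul, hx]⟩
      · obtain ⟨q, hq, hqx⟩ := hreg _ hx
        exact ⟨q * g, mul_mem (hPK q hq) hgK, by rw [mul_smul, hgP, hqx]⟩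
    have hmem : k'⁻¹ * x ∈ N := Sylow.smul_eq_iff_mem_normalizer.1 (by
      rw [mul_smul, ← hkP, inv_smul_smul])
    have := mul_mem hk' (hNK _ hmem)
    rwa [mul_inv_cancel_left] at this
  have hrange : φ.range = model := by
    rw [MonoidHom.range_eq_map, ← hK, hKdef, MonoidHom.map_closure, model]
    congr 1
    ext σ
    simp only [Set.image_insert_eq, Set.image_singleton, Set.mem_insert_iff, Set.mem_singleton_iff,
      Set.mem_ofPred_eq, ← hφX, ← hφr, ← hφw, DFunLike.coe_fn_eq]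
  exact ⟨(MonoidHom.ofInjective hφinj).trans (MulEquiv.subgroupCongr hrange)⟩

end Cfsg.Agent.SmallSimple.Order360
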