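import Cfsg.Agent.Lib.SmallSimple.Orders
import Cfsg.Agent.Lib.CharTheory.DihedralEight

/-!
# Degrees and values at an involution for one orbit of exceptional characters

For a self-centralizing subgroup `P` of order `q = e + 1` in its normaliser, the characters of the
principal block satisfy `1 + ∑ b x = 0` and, at an involution `t` inverting `P` with `q` inverting
conjugates, `1 + ∑ b v = 0` and `q c² / |G| = 1 + ∑ b v² / x` with `c = |C(t)|`.
-/

set_option linter.style.haveILetI false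
set_option linter.unusedSectionVars false

namespace Cfsg.Agent.SmallSimple.OneOrbit

open scoped BigOperators
open Cfsg.Agent.Characters Cfsg.Agent.OddChar
open Cfsg.Agent.SmallSimple.Exceptional

universe u

variable {G : Type u} [Group G] [Fintype G]

/-- The count of the pairs of conjugates of `t` with a given product in `P`. -/
theorem card_pairs {P : Subgroup G} (hodd : Odd (Nat.card P)) {t y : G} (ht : orderOf t = 2)
    (hy : y ∈ P) :
    Nat.card {u : G // IsConj t u ∧ IsConj t (u * y)} =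
      Nat.card {u : G // IsConj t u ∧ u * y * u⁻¹ = y⁻¹} := by
  have hinvol : ∀ w : G, IsConj t w → w * w = 1 := fun w hw => by
    obtain ⟨g, rfl⟩ := isConj_iff.1 hw
    have : t * t = 1 := by rw [← sq]; exact ht ▸ pow_orderOf_eq_one t
    calc g * t * g⁻¹ * (g * t * g⁻¹) = g * (t * t) * g⁻¹ := by group
      _ = 1 := by rw [this]; group
  refine Nat.card_congr (Equiv.subtypeEquivRight fun u => ⟨fun ⟨hu, huy⟩ => ⟨hu, ?_⟩, fun ⟨hu, huy⟩ => ⟨hu, ?_⟩⟩)
  · have h1 := hinvol _ hu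
    have hui : u⁻¹ = u := inv_eq_of_mul_eq_one_right h1
    rw [eq_inv_iff_mul_eq_one, hui, mul_assoc]
    exact hinvol _ huy
  · obtain ⟨k, hk⟩ := hodd
    set s := y ^ (k + 1) with hs
    have hs2 : s * s = y := by
      have hp : y ^ Nat.card P = 1 := congrArg Subtype.val (pow_card_eq_one' (x := (⟨y, hy⟩ : P)))
      rw [hs, ← pow_add, show k + 1 + (k + 1) = Nat.card P + 1 by omega, pow_succ, hp, one_mul]
    have h1 : u * s * u⁻¹ = s⁻¹ := by
      rw [hs, ← conj_pow, huy, inv_pow]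
    refine hu.trans (isConj_iff.2 ⟨s⁻¹, ?_⟩)
    have h2 : s⁻¹ * u = u * s := by rw [← h1]; group
    calc s⁻¹ * u * s⁻¹⁻¹ = u * s * s := by rw [h2, inv_inv]
      _ = u * y := by rw [mul_assoc, hs2]

/-- Degrees and values for one orbit. -/
theorem data [IsSimpleGroup G] (hG : ¬ IsMulCommutative G) {P : Subgroup G} (hP : SelfCent P) {e : ℕ}
    (he : P.relIndex (Subgroup.normalizer (P : Set G)) = e) (het : e + 1 = Nat.card P)
    (hodd : Odd (Nat.card P)) {t : G} (ht : orderOf t = 2)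
    (hinv : ∀ y ∈ P, y ≠ 1 → Nat.card {u : G // IsConj t u ∧ u * y * u⁻¹ = y⁻¹} = Nat.card P) :
    ∃ s : Multiset (ℤ × ℕ × ℤ),
      (s.map fun w => w.1 ^ 2).sum = (e : ℤ) ∧
      1 + (s.map fun w => w.1 * (w.2.1 : ℤ)).sum = 0 ∧
      1 + (s.map fun w => w.2.1 ^ 2).sum ≤ Nat.card G ∧
      1 + (s.map fun w => w.1 * w.2.2).sum = 0 ∧
      (Nat.card P : ℚ) * (Nat.card (Subgroup.centralizer ({t} : Set G)) : ℚ) ^ 2 / (Nat.card G : ℚ) =
        1 + (s.map fun w => (w.1 : ℚ) * (w.2.2 : ℚ) ^ 2 / (w.2.1 : ℚ)).sum ∧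
      ∀ w ∈ s, w.1 ≠ 0 ∧ 1 < w.2.1 ∧ w.2.1 ∣ Nat.card G ∧
        (Nat.card P : ℤ) ∣ (w.2.1 : ℤ) - w.1 ∧ |w.2.2| ≤ (w.2.1 : ℤ) := by
  classical
  haveI := Fintype.ofFinite (Cfsg.IrrCharacter G)
  haveI : Finite (P →* ℂˣ) := Nat.finite_of_card_ne_zero (by rw [card_dual hP]; exact Nat.card_pos.ne')
  haveI := Fintype.ofFinite (P →* ℂˣ)
  obtain ⟨r, hr1, hrinj, hsum⟩ := exists_reps hP (t := 1) he (by omega)
  choose deg hdeg0 hdeg using fun χ : Cfsg.IrrCharacter G => irr_one_pos χ.2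
  choose val hval using fun χ : Cfsg.IrrCharacter G =>
    CharTheory.DihedralEight.exists_int_value (irr_isCharacter χ) ht
  set φ₀ := r 0
  let f : Cfsg.IrrCharacter G → ℤ := a P φ₀
  have hgen := A_isGen (G := G) φ₀
  have hsq : ∑ χ, f χ ^ 2 = (e : ℤ) + 1 := by
    refine Lattice.sum_sq_of_norm hgen ?_
    rw [inner_A_eq hP (hr1 0) (hr1 0), if_pos ((sameOrbit_equivalence P).refl φ₀), he]
    push_cast; rfl
  have hdz : ∑ χ, f χ * (deg χ : ℤ) = 0 := by
    have := Lattice.apply_eq_sum hgen 1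
    rw [A_one] at this
    simp only [hdeg] at this
    exact_mod_cast this.symm
  have htriv : f (trivIrr G) = 1 := Lattice.coeff_eq_of_inner (by simpa using inner_A_one (hr1 0))
  have hdtriv : deg (trivIrr G) = 1 := by
    have h := hdeg (trivIrr G)
    simp only [trivIrr_coe] at h
    exact_mod_cast h.symm
  have hvtriv : val (trivIrr G) = 1 := by
    have h := hval (trivIrr G)
    simp only [trivIrr_coe] at h
    exact_mod_cast h.symm
  have hAt : A P φ₀ t = 0 := by
    refine Induce.indFun_eq_zero P _ t fun g => CharTheory.IndBasic.extendByZero_of_notMem P _ fun hg => ?_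
    have ho : orderOf (g⁻¹ * t * g) = 2 := by
      rw [← ht]
      have := orderOf_injective (MulAut.conj g⁻¹).toMonoidHom (MulAut.conj g⁻¹).injective t
      simpa using this
    have hd2 := orderOf_dvd_natCard (⟨_, hg⟩ : P)
    rw [Subgroup.orderOf_mk, ho] at hd2
    exact (Nat.not_even_iff_odd.2 hodd) (even_iff_two_dvd.2 hd2)
  have hvz : ∑ χ, f χ * val χ = 0 := by
    have := Lattice.apply_eq_sum hgen t
    rw [hAt] at this
    simp only [hval] at this
    exact_mod_cast this.symm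
  -- the class sum
  set K : Finset G := Finset.univ.filter (IsConj t) with hK
  have hKmem : ∀ u, u ∈ K ↔ IsConj t u := fun u => by simp [hK]
  have hs : ∀ χ : Cfsg.IrrCharacter G, ∑ u ∈ K, ∑ v ∈ K, (χ : G → ℂ) (u * v) =
      ((K.card : ℂ) * (χ : G → ℂ) t) ^ 2 / (deg χ : ℂ) := by
    intro χ
    rw [eq_div_iff (by exact_mod_cast (hdeg0 χ).ne'), mul_comm, ← hdeg χ]
    refine CharTheory.DihedralEight.sum_mul_involutions χ.2 K t (fun u hu g => ?_) fun u hu => ?_
    · exact (hKmem _).2 (((hKmem u).1 hu).trans (isConj_iff.2 ⟨g, rfl⟩))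
    · obtain ⟨g, rfl⟩ := isConj_iff.1 ((hKmem u).1 hu)
      exact irr_isClassFunction χ t g
  have hrhs : ∑ u ∈ K, ∑ v ∈ K, A P φ₀ (u * v) =
      (K.card : ℂ) ^ 2 * ∑ χ, (f χ : ℂ) * (val χ : ℂ) ^ 2 / (deg χ : ℂ) := by
    calc ∑ u ∈ K, ∑ v ∈ K, A P φ₀ (u * v)
        = ∑ χ, (f χ : ℂ) * ∑ u ∈ K, ∑ v ∈ K, (χ : G → ℂ) (u * v) := by
          simp only [Lattice.apply_eq_sum hgen, Finset.mul_sum]
          rw [Finset.sum_comm (s := (Finset.univ : Finset (Cfsg.IrrCharacter G)))]
          exact Finset.sum_congr rfl fun u _ => Finset.sum_comm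
      _ = _ := by
          rw [Finset.mul_sum]
          refine Finset.sum_congr rfl fun χ _ => ?_
          rw [hs, hval]; ring
  have hinvol : ∀ w ∈ K, w * w = 1 := fun w hw => by
    obtain ⟨g, rfl⟩ := isConj_iff.1 ((hKmem w).1 hw)
    have : t * t = 1 := by rw [← sq]; exact ht ▸ pow_orderOf_eq_one t
    calc g * t * g⁻¹ * (g * t * g⁻¹) = g * (t * t) * g⁻¹ := by group
      _ = 1 := by rw [this]; group
  have hlhs : ∑ u ∈ K, ∑ v ∈ K, A P φ₀ (u * v) = (Nat.card P : ℂ) * (Nat.card G : ℂ) := by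
    have h1 : ∀ u ∈ K, ∑ v ∈ K, A P φ₀ (u * v) = ∑ g : G, if u * g ∈ K then A P φ₀ g else 0 := by
      intro u hu
      have hu2 := hinvol u hu
      rw [← Finset.sum_filter]
      refine Finset.sum_nbij' (fun v => u * v) (fun w => u * w) ?_ ?_ ?_ ?_ ?_
      · intro v hv; simp [← mul_assoc, hu2, Finset.mem_coe.1 hv]
      · intro w hw; simpa using hw
      · intro v _; simp [← mul_assoc, hu2]
      · intro v _; simp [← mul_assoc, hu2]
      · intro v _; rfl
    rw [Finset.sum_congr rfl h1, Finset.sum_comm]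
    have hgsum : ∑ g : G, A P φ₀ g = (Nat.card G : ℂ) := by
      have h := inner_A_one (G := G) (hr1 0)
      rw [classInner_def] at h
      have hG0 : (Nat.card G : ℂ) ≠ 0 := by exact_mod_cast Nat.card_pos.ne'
      simp only [map_one, mul_one, Nat.card_eq_fintype_card] at h hG0 ⊢
      field_simp at h
      linear_combination h
    rw [← hgsum, Finset.mul_sum]
    refine Finset.sum_congr rfl fun g _ => ?_
    rw [← Finset.sum_filter, Finset.sum_const, nsmul_eq_mul]
    by_cases hA : A P φ₀ g = 0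
    · rw [hA]; simp
    congr 1
    obtain ⟨z, hz⟩ : ∃ z, z⁻¹ * g * z ∈ P := by
      by_contra h
      push Not at h
      exact hA (Induce.indFun_eq_zero P _ g fun x => CharTheory.IndBasic.extendByZero_of_notMem P _ (h x))
    have hy1 : z⁻¹ * g * z ≠ 1 := by
      intro h
      apply hA
      have : g = 1 := by
        have h2 := congrArg (fun w => z * w * z⁻¹) h
        simpa [mul_assoc] using h2
      rw [this, A_one]
    set y := z⁻¹ * g * z with hy
    rw [← Nat.card_eq_finsetCard, ← hinv y hz hy1, ← card_pairs hodd ht hz]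
    congr 1
    refine Nat.card_congr ((MulAut.conj z⁻¹).toEquiv.subtypeEquiv fun u => ?_)
    simp only [Finset.mem_filter, MulEquiv.toEquiv_eq_coe, EquivLike.coe_coe, MulAut.conj_apply, inv_inv]
    have hc : ∀ w, IsConj t (z⁻¹ * w * z) ↔ IsConj t w := fun w =>
      ⟨fun h => h.trans (isConj_iff.2 ⟨z, by group⟩), fun h => h.trans (isConj_iff.2 ⟨z⁻¹, by group⟩)⟩
    rw [hKmem, hKmem, hc, show z⁻¹ * u * z * y = z⁻¹ * (u * g) * z by rw [hy]; group, hc]
  have hKc : Nat.card (Subgroup.centralizer ({t} : Set G)) * K.card = Nat.card G := by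
    rw [← Basic.card_centralizer_mul_card_class t, Nat.card_eq_fintype_card (α := {y : G // IsConj t y}),
      Fintype.card_subtype, hK]
  have hEq : (Nat.card P : ℚ) * (Nat.card (Subgroup.centralizer ({t} : Set G)) : ℚ) ^ 2 / (Nat.card G : ℚ) =
      ∑ χ, (f χ : ℚ) * (val χ : ℚ) ^ 2 / (deg χ : ℚ) := by
    have h := hlhs.symm.trans hrhs
    have hq : (Nat.card P : ℚ) * (Nat.card G : ℚ) =
        (K.card : ℚ) ^ 2 * ∑ χ, (f χ : ℚ) * (val χ : ℚ) ^ 2 / (deg χ : ℚ) := by
      apply Rat.cast_injective (α := ℂ)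
      push_cast
      exact h
    have hN0 : (Nat.card G : ℚ) ≠ 0 := by exact_mod_cast Nat.card_pos.ne'
    have hC : (Nat.card (Subgroup.centralizer ({t} : Set G)) : ℚ) * (K.card : ℚ) = (Nat.card G : ℚ) := by
      exact_mod_cast hKc
    rw [div_eq_iff hN0]
    have hK0 : (K.card : ℚ) ≠ 0 := by
      exact_mod_cast (Finset.card_pos.2 ⟨t, (hKmem t).2 (IsConj.refl t)⟩).ne'
    refine mul_left_cancel₀ (pow_ne_zero 2 hK0) ?_
    calc (K.card : ℚ) ^ 2 * ((Nat.card P : ℚ) *
          (Nat.card (Subgroup.centralizer ({t} : Set G)) : ℚ) ^ 2)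
        = (Nat.card P : ℚ) * ((Nat.card (Subgroup.centralizer ({t} : Set G)) : ℚ) * (K.card : ℚ)) ^ 2 := by
          ring
      _ = (Nat.card P : ℚ) * (Nat.card G : ℚ) * (Nat.card G : ℚ) := by rw [hC]; ring
      _ = _ := by rw [hq]; ring
  set R := (Finset.univ.erase (trivIrr G)).filter (fun χ => f χ ≠ 0) with hR
  have hmem : ∀ χ ∈ R, χ ≠ trivIrr G ∧ f χ ≠ 0 := fun χ hχ => by
    simp only [hR, Finset.mem_filter, Finset.mem_erase] at hχ; exact ⟨hχ.1.1, hχ.2⟩
  refine ⟨R.val.map fun χ => (f χ, deg χ, val χ), ?_, ?_, ?_, ?_, ?_, ?_⟩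
  · rw [Multiset.map_map]
    show ∑ χ ∈ R, f χ ^ 2 = _
    rw [hR, Finset.sum_filter_of_ne (by intro χ _ h e; simp [e] at h)]
    have := Finset.add_sum_erase Finset.univ (fun χ => f χ ^ 2) (Finset.mem_univ (trivIrr G))
    simp only [htriv, hsq] at this
    linarith
  · rw [Multiset.map_map]
    show 1 + ∑ χ ∈ R, f χ * (deg χ : ℤ) = 0
    rw [hR, Finset.sum_filter_of_ne (by intro χ _ h e; simp [e] at h)]
    have := Finset.add_sum_erase Finset.univ (fun χ => f χ * (deg χ : ℤ)) (Finset.mem_univ (trivIrr G))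
    simp only [htriv, hdtriv, hdz] at this
    push_cast at this
    linarith
  · rw [Multiset.map_map]
    show 1 + ∑ χ ∈ R, deg χ ^ 2 ≤ _
    have h := sum_degree_sq (G := G)
    simp only [hdeg] at h
    have h' : ∑ χ : Cfsg.IrrCharacter G, deg χ ^ 2 = Nat.card G := by exact_mod_cast h
    rw [← h', ← Finset.add_sum_erase Finset.univ (fun χ => deg χ ^ 2) (Finset.mem_univ (trivIrr G)), hdtriv]
    simp only [one_pow]
    exact Nat.add_le_add_left (Finset.sum_le_sum_of_subset (Finset.filter_subset _ _)) _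
  · rw [Multiset.map_map]
    show 1 + ∑ χ ∈ R, f χ * val χ = 0
    rw [hR, Finset.sum_filter_of_ne (by intro χ _ h e; simp [e] at h)]
    have := Finset.add_sum_erase Finset.univ (fun χ => f χ * val χ) (Finset.mem_univ (trivIrr G))
    simp only [htriv, hvtriv, hvz] at this
    linarith
  · rw [Multiset.map_map, hEq]
    show _ = 1 + ∑ χ ∈ R, (f χ : ℚ) * (val χ : ℚ) ^ 2 / (deg χ : ℚ)
    rw [hR, Finset.sum_filter_of_ne (by intro χ _ h e; simp [e] at h)]
    rw [← Finset.add_sum_erase Finset.univ (fun χ => (f χ : ℚ) * (val χ : ℚ) ^ 2 / (deg χ : ℚ))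
      (Finset.mem_univ (trivIrr G)), htriv, hvtriv, hdtriv]
    norm_num
  · intro w hw
    obtain ⟨χ, hχ, rfl⟩ := Multiset.mem_map.1 hw
    obtain ⟨hne, hf⟩ := hmem χ hχ
    refine ⟨hf, degree_ne_one hG hne (hdeg χ), ?_, ?_, ?_⟩
    · obtain ⟨d, hd1, -, hd2⟩ := irr_degree_dvd_card χ.2
      have : deg χ = d := by exact_mod_cast (hdeg χ).symm.trans hd1
      exact this ▸ hd2
    · have h := degree_congr hP χ (hdeg χ)
      rw [hsum χ] at h
      simp only [Fin.sum_univ_one] at h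
      have hh : (Nat.card P : ℤ) = (e : ℤ) + 1 := by exact_mod_cast het.symm
      obtain ⟨k, hk⟩ := h
      exact ⟨k - f χ, by rw [hh] at hk ⊢; linarith⟩
    · have hle := char_norm_le (irr_isCharacter χ) t
      rw [hval χ, hdeg χ, Complex.norm_intCast, Complex.norm_natCast] at hle
      exact_mod_cast hle

end Cfsg.Agent.SmallSimple.OneOrbit
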