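import Mathlib
import Cfsg.Agent.Lib.SmallSimple.Basic
import Cfsg.Agent.Lib.SmallSimple.FixedPoints

/-!
# An involution whose centralizer has Sylow `2`-subgroups of order `4`

In a simple group of order `16 m` with `m` odd, an involution `t` with `|C(t)| = 4 c`, `c` odd,
cannot have `c ≡ m (mod 4)`: the parities of the permutations induced by `t` on the cosets of a
Sylow `2`-subgroup and of its maximal subgroups put four conjugates of `t` into the intersection of
two maximal subgroups, a group of order at most `4`.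
-/

set_option linter.style.haveILetI false

namespace Cfsg.Agent.SmallSimple.SixteenFour

open Subgroup MulAction

variable {G : Type*} [Group G] [Finite G]

/-- Fixed cosets times class size is index times conjugates in the subgroup. -/
theorem fixed_mul (H : Subgroup G) (x : G) :
    Nat.card {a : G ⧸ H // x • a = a} * Nat.card {g : G // IsConj x g} =
      H.index * Nat.card {g : G // IsConj x g ∧ g ∈ H} := by
  classical
  have hC := Basic.card_centralizer_mul_card_class x
  have hQ := Basic.card_conjugating x (fun y => y ∈ H)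
  have hfix : Nat.card {g : G // g * x * g⁻¹ ∈ H} =
      Nat.card {a : G ⧸ H // x • a = a} * Nat.card H := by
    have e : {g : G // g * x * g⁻¹ ∈ H} ≃ {c : G ⧸ H // x • c = c} × H :=
      ((Equiv.inv G).subtypeEquiv (q := fun g : G => x • (g : G ⧸ H) = (g : G ⧸ H)) fun g => by
        simp only [Equiv.inv_apply]
        rw [MulAction.Quotient.smul_coe, eq_comm (a := ((x • g⁻¹ : G) : G ⧸ H)), QuotientGroup.eq,
          inv_inv, smul_eq_mul, mul_assoc]).trans
      ((QuotientGroup.preimageMkEquivSubgroupProdSet H {c : G ⧸ H | x • c = c}).trans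
        (Equiv.prodComm _ _))
    rw [Nat.card_congr e, Nat.card_prod]
  rw [hfix] at hQ
  have hG := Subgroup.card_mul_index H
  refine Nat.eq_of_mul_eq_mul_left (Nat.card_pos : 0 < Nat.card (centralizer ({x} : Set G))) ?_
  calc _ = Nat.card {a : G ⧸ H // x • a = a} * (Nat.card (centralizer ({x} : Set G)) *
          Nat.card {g : G // IsConj x g}) := by ring
    _ = (Nat.card {a : G ⧸ H // x • a = a} * Nat.card H) * H.index := by rw [hC, ← hG]; ring
    _ = _ := by rw [hQ]; ring

theorem false_of_centralizer [IsSimpleGroup G] (hG : ¬ IsMulCommutative G) {m c : ℕ}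
    (hcard : Nat.card G = 16 * m) (hm : m % 2 = 1) (hcm : c % 4 = m % 4) {t : G} (ht : orderOf t = 2)
    (hC : Nat.card (centralizer ({t} : Set G)) = 4 * c) : False := by
  classical
  haveI : Fact (Nat.Prime 2) := ⟨Nat.prime_two⟩
  have htt : t * t = 1 := by rw [← sq, ← ht, pow_orderOf_eq_one]
  have ht1 : t ≠ 1 := fun e => by rw [e, orderOf_one] at ht; norm_num at ht
  obtain ⟨T⟩ : Nonempty (Sylow 2 G) := inferInstance
  have hT : Nat.card (T : Subgroup G) = 16 :=
    Basic.card_sylow_eq_pow (a := 4) (m := m) (by rw [hcard]; norm_num) (by omega) T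
  set k := Nat.card {g : G // IsConj t g} with hk
  have hck : c * k = 4 * m := by
    have h := Basic.card_centralizer_mul_card_class t
    rw [hC, hcard, ← hk] at h
    nlinarith [h]
  have hk0 : 0 < k := by
    haveI : Nonempty {g : G // IsConj t g} := ⟨⟨t, IsConj.refl t⟩⟩
    exact Nat.card_pos
  -- the parity condition on the cosets of a subgroup
  have hpar : ∀ (H : Subgroup G) (r : ℕ), H.index = r * m →
      ∃ F : ℕ, 4 * F = r * c * Nat.card {g : G // IsConj t g ∧ g ∈ H} ∧ 4 ∣ r * m - F ∧ F ≤ r * m := by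
    intro H r hr
    refine ⟨Nat.card {a : G ⧸ H // t • a = a}, ?_, ?_, ?_⟩
    · have h := fixed_mul H t
      rw [← hk, hr] at h
      refine Nat.eq_of_mul_eq_mul_right hk0 ?_
      calc 4 * Nat.card {a : G ⧸ H // t • a = a} * k
          = 4 * (r * m * Nat.card {g : G // IsConj t g ∧ g ∈ H}) := by rw [mul_assoc, h]
        _ = r * (c * k) * Nat.card {g : G // IsConj t g ∧ g ∈ H} := by rw [hck]; ring
        _ = r * c * Nat.card {g : G // IsConj t g ∧ g ∈ H} * k := by ring
    · have h := FixedPoints.four_dvd_moved hG (α := G ⧸ H) htt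
      rwa [← index, hr] at h
    · rw [← hr, index]
      exact Nat.card_le_card_of_injective _ Subtype.val_injective
  have hlt : ∀ H : Subgroup G, Nat.card {g : G // IsConj t g ∧ g ∈ H} < Nat.card H := by
    intro H
    let f : {g : G // IsConj t g ∧ g ∈ H} → {g : H // g ≠ 1} := fun g => ⟨⟨g.1, g.2.2⟩, fun e => by
      obtain ⟨x, hx⟩ := isConj_iff.1 g.2.1
      have e' : x * t * x⁻¹ = 1 := hx.trans (congrArg Subtype.val e)
      exact ht1 (by
        calc t = x⁻¹ * (x * t * x⁻¹) * x := by group
          _ = 1 := by rw [e']; group)⟩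
    have hf : Function.Injective f := fun a b e =>
      Subtype.ext (congrArg (fun z : {g : H // g ≠ 1} => (z.1 : G)) e)
    refine (Nat.card_le_card_of_injective f hf).trans_lt ?_
    haveI := Fintype.ofFinite H
    rw [Nat.card_eq_fintype_card, Nat.card_eq_fintype_card, Fintype.card_subtype_compl,
      Fintype.card_subtype_eq]
    exact Nat.sub_lt Fintype.card_pos one_pos
  -- four conjugates in `T`
  have hTi : (T : Subgroup G).index = 1 * m := by
    have h := card_mul_index (T : Subgroup G)
    rw [hT, hcard] at h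
    omega
  have hjT : Nat.card {g : G // IsConj t g ∧ g ∈ (T : Subgroup G)} = 4 := by
    obtain ⟨F, hF, hF4, hFle⟩ := hpar (T : Subgroup G) 1 hTi
    have h15 := hlt (T : Subgroup G)
    rw [hT] at h15
    generalize Nat.card {g : G // IsConj t g ∧ g ∈ (T : Subgroup G)} = j at hF h15 ⊢
    rw [one_mul] at hF hF4 hFle
    have hFm : F % 4 = m % 4 := by omega
    have h := congrArg (· % 16) hF
    rw [Nat.mul_mod c j] at h
    simp only [Nat.mul_mod 4 F] at h
    have hc16 : c % 4 = m % 4 := hcm
    interval_cases j <;> omega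
  have hjM : ∀ M : Subgroup G, M ≤ (T : Subgroup G) → Nat.card M = 8 →
      ∀ g : G, IsConj t g → g ∈ (T : Subgroup G) → g ∈ M := by
    intro M hMT hM g hg hgT
    have hMi : M.index = 2 * m := by
      have h := card_mul_index M
      rw [hM, hcard] at h
      omega
    obtain ⟨F, hF, hF4, hFle⟩ := hpar M 2 hMi
    have hle : Nat.card {g : G // IsConj t g ∧ g ∈ M} ≤ 4 := hjT ▸ Nat.card_le_card_of_injective
      (fun y : {g : G // IsConj t g ∧ g ∈ M} =>
        (⟨y.1, y.2.1, hMT y.2.2⟩ : {g : G // IsConj t g ∧ g ∈ (T : Subgroup G)}))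
      (fun a b e => Subtype.ext (congrArg Subtype.val e :))
    have hj : Nat.card {g : G // IsConj t g ∧ g ∈ M} = 4 := by
      generalize Nat.card {g : G // IsConj t g ∧ g ∈ M} = j at hF hle ⊢
      interval_cases j <;> omega
    have hinj : Function.Injective (fun y : {g : G // IsConj t g ∧ g ∈ M} =>
        (⟨y.1, y.2.1, hMT y.2.2⟩ : {g : G // IsConj t g ∧ g ∈ (T : Subgroup G)})) :=
      fun a b e => Subtype.ext (congrArg Subtype.val e :)
    obtain ⟨y, hy⟩ := ((Nat.bijective_iff_injective_and_card _).2 ⟨hinj, hj.trans hjT.symm⟩).2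
      ⟨g, hg, hgT⟩
    have e : (y : G) = g := congrArg Subtype.val hy
    rw [← e]
    exact y.2.2
  -- two maximal subgroups
  have hext : ∀ x ∈ (T : Subgroup G), orderOf x < 16 →
      ∃ M : Subgroup G, M ≤ (T : Subgroup G) ∧ Nat.card M = 8 ∧ x ∈ M := by
    intro x hx hlt
    have hd := orderOf_dvd_natCard (⟨x, hx⟩ : (T : Subgroup G))
    rw [orderOf_mk, hT] at hd
    obtain ⟨i, hi, hi'⟩ := (Nat.dvd_prime_pow Nat.prime_two (m := 4)).1 (by simpa using hd)
    have hi3 : i ≤ 3 := by
      by_contra hc
      obtain rfl : i = 4 := by omega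
      rw [hi'] at hlt; norm_num at hlt
    obtain ⟨K, hK, hxK⟩ := Sylow.exists_subgroup_card_pow_prime_le 2 (n := i) (m := 3)
      (G := (T : Subgroup G)) (by rw [hT]; norm_num) (zpowers ⟨x, hx⟩)
      (by rw [Nat.card_zpowers, orderOf_mk, hi']) hi3
    refine ⟨K.map (T : Subgroup G).subtype, map_subtype_le K, ?_, ?_⟩
    · rw [← Nat.card_congr (equivMapOfInjective K _ (Subgroup.subtype_injective _)).toEquiv, hK]
      norm_num
    · exact mem_map.2 ⟨⟨x, hx⟩, hxK (mem_zpowers _), rfl⟩
  obtain ⟨M, hMT, hM, -⟩ := hext 1 (one_mem _) (by rw [orderOf_one]; norm_num)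
  obtain ⟨x, hxT, hxM⟩ : ∃ x, x ∈ (T : Subgroup G) ∧ x ∉ M := by
    by_contra hc
    push Not at hc
    have := card_dvd_of_le (show (T : Subgroup G) ≤ M from hc)
    rw [hM, hT] at this
    norm_num at this
  obtain ⟨y⟩ : Nonempty {g : G // IsConj t g ∧ g ∈ (T : Subgroup G)} :=
    (Nat.card_pos_iff.1 (by rw [hjT]; norm_num)).1
  have hx16 : orderOf x < 16 := by
    by_contra hge
    have hTx : zpowers x = (T : Subgroup G) :=
      eq_of_le_of_card_ge (zpowers_le.2 hxT) (by rw [Nat.card_zpowers, hT]; omega)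
    haveI : IsCyclic (zpowers x) := inferInstance
    have hone : Nat.card {g : G // IsConj t g ∧ g ∈ (T : Subgroup G)} ≤ 1 := by
      haveI : Subsingleton {g : G // IsConj t g ∧ g ∈ (T : Subgroup G)} := by
        refine ⟨fun a b => ?_⟩
        have ho : ∀ a : {g : G // IsConj t g ∧ g ∈ (T : Subgroup G)},
            orderOf (⟨a.1, hTx.symm ▸ a.2.2⟩ : zpowers x) = 2 := fun a => by
          rw [orderOf_mk]
          obtain ⟨r, hr⟩ := isConj_iff.1 a.2.1
          rw [← hr, ← ht]
          exact orderOf_injective (MulAut.conj r).toMonoidHom (MulAut.conj r).injective t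
        haveI := Fintype.ofFinite (zpowers x)
        have hd : 2 ∣ Fintype.card (zpowers x) := by
          rw [← Nat.card_eq_fintype_card]; exact (ho a) ▸ orderOf_dvd_natCard _
        have h1 := IsCyclic.card_orderOf_eq_totient (α := zpowers x) hd
        rw [Nat.totient_two] at h1
        have := Finset.card_le_one.1 h1.le _ (Finset.mem_filter.2 ⟨Finset.mem_univ _, ho a⟩) _
          (Finset.mem_filter.2 ⟨Finset.mem_univ _, ho b⟩)
        exact Subtype.ext (congrArg Subtype.val this :)
      exact Finite.card_le_one_iff_subsingleton.2 inferInstance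
    omega
  obtain ⟨M', hM'T, hM', hxM'⟩ := hext x hxT hx16
  set D := M ⊓ M' with hD
  have hD4 : Nat.card D ≤ 4 := by
    have hd : Nat.card D ∣ 2 ^ 3 := by
      have := card_dvd_of_le (inf_le_left : D ≤ M)
      rwa [hM] at this
    obtain ⟨i, hi, hi'⟩ := (Nat.dvd_prime_pow Nat.prime_two).1 hd
    rw [hi']
    have : i ≠ 3 := by
      rintro rfl
      have hDM : D = M := eq_of_le_of_card_ge inf_le_left (by rw [hM, hi']; norm_num)
      have hDM' : D = M' := eq_of_le_of_card_ge inf_le_right (by rw [hM', hi']; norm_num)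
      exact hxM (hDM ▸ hDM'.symm ▸ hxM')
    calc 2 ^ i ≤ 2 ^ 2 := Nat.pow_le_pow_right (by norm_num) (by omega)
      _ = 4 := by norm_num
  have h4 : Nat.card {g : G // IsConj t g ∧ g ∈ (T : Subgroup G)} ≤
      Nat.card {g : G // IsConj t g ∧ g ∈ D} :=
    Nat.card_le_card_of_injective
      (fun y => ⟨y.1, y.2.1, hjM M hMT hM _ y.2.1 y.2.2, hjM M' hM'T hM' _ y.2.1 y.2.2⟩)
      (fun a b e => Subtype.ext (congrArg Subtype.val e :))
  have := hlt D
  omega

end Cfsg.Agent.SmallSimple.SixteenFour
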