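import Cfsg.Agent.Lib.SmallSimple.Filter
import Cfsg.Agent.Lib.SmallSimple.SixteenFour
import Cfsg.Agent.Lib.SmallSimple.OneOrbit
import Cfsg.Agent.Lib.SmallSimple.EvenPSL

/-!
# No simple groups of order 612, 720, 756, 1008, 1040 or 1080
-/

set_option linter.style.haveILetI false

namespace Cfsg.Agent.SmallSimple.Orders1092

open Subgroup

variable {G : Type*} [Group G] [Finite G]

/-- The data of a Sylow subgroup of prime order. -/
theorem prime_data [IsSimpleGroup G] (hG : ¬ IsMulCommutative G) {p m : ℕ} [Fact p.Prime]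
    (h : Nat.card G = p * m) (hm : ¬ p ∣ m) :
    ∃ (P : Sylow p G) (c e : ℕ), Nat.card (P : Subgroup G) = p ∧
      Nat.card (centralizer ((P : Subgroup G) : Set G)) = c ∧
      Nat.card (normalizer ((P : Subgroup G) : Set G)) = c * e ∧
      c * e * Nat.card (Sylow p G) = p * m ∧ p ∣ c ∧ e ∣ p - 1 ∧ 1 < e ∧
      Nat.card (Sylow p G) ∣ m ∧ Nat.card (Sylow p G) % p = 1 ∧ 1 < Nat.card (Sylow p G) := by
  obtain ⟨P⟩ : Nonempty (Sylow p G) := inferInstance
  have hP : Nat.card (P : Subgroup G) = p := by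
    simpa using Basic.card_sylow_eq_pow (a := 1) (m := m) (by rw [h, pow_one]) hm P
  obtain ⟨e, he, he1, hN, hC⟩ := Centralize.centralizer_data hG P hP
  obtain ⟨hd, hmod, h1, -⟩ := Basic.sylow_count (p := p) hG ⟨m, h⟩ (a := 1) (m := m)
    (by rw [h, pow_one]) hm
  have hmul := Basic.card_normalizer_mul P
  rw [hN, h] at hmul
  exact ⟨P, _, e, hP, rfl, hN, hmul, hC, he, he1, hd, hmod, h1⟩

/-- In `C(P)` of order `p r` the elements of order `r` generate the same subgroup. -/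
theorem order_unique {p r : ℕ} [Fact p.Prime] [Fact r.Prime] (P : Sylow p G)
    (hP : Nat.card (P : Subgroup G) = p) (hpr : p ≠ r)
    (hC : Nat.card (centralizer ((P : Subgroup G) : Set G)) = p * r) {y w : G}
    (hy : y ∈ centralizer ((P : Subgroup G) : Set G)) (hyo : orderOf y = r)
    (hw : w ∈ centralizer ((P : Subgroup G) : Set G)) (hwo : orderOf w = r) : w ∈ zpowers y := by
  set C := centralizer ((P : Subgroup G) : Set G)
  have hsup : (P : Subgroup G) ⊔ zpowers y = C := by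
    haveI : IsCyclic (P : Subgroup G) := isCyclic_of_prime_card hP
    refine eq_of_le_of_card_ge (sup_le (le_centralizer _) (zpowers_le.2 hy)) ?_
    rw [hC]
    refine Nat.le_of_dvd Nat.card_pos ?_
    exact ((Nat.coprime_primes Fact.out Fact.out).2 hpr).mul_dvd_of_dvd_of_dvd
      (hP.symm.dvd.trans (card_dvd_of_le (le_sup_left : (P : Subgroup G) ≤ (P : Subgroup G) ⊔ zpowers y)))
      (((Nat.card_zpowers y).trans hyo).symm.dvd.trans
        (card_dvd_of_le (le_sup_right : zpowers y ≤ (P : Subgroup G) ⊔ zpowers y)))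
  have hCy : C ≤ centralizer ({y} : Set G) := by
    rw [← hsup]
    exact sup_le (fun z hz => mem_centralizer_singleton_iff.2 (mem_centralizer_iff.1 hy z hz))
      (zpowers_le.2 (mem_centralizer_singleton_iff.2 rfl))
  have hwy : zpowers w ≤ normalizer ((zpowers y : Subgroup G) : Set G) := by
    refine zpowers_le.2 (centralizer_le_normalizer _ ?_)
    rw [zpowers_eq_closure, centralizer_closure]
    exact hCy hw
  have hpg := IsPGroup.to_sup_of_normal_right' (p := r)
    (IsPGroup.of_card (n := 1) (by rw [Nat.card_zpowers, hwo, pow_one]))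
    (IsPGroup.of_card (n := 1) (by rw [Nat.card_zpowers, hyo, pow_one])) hwy
  obtain ⟨k, hk⟩ := IsPGroup.iff_card.1 hpg
  have hd := card_dvd_of_le (sup_le (zpowers_le.2 hw) (zpowers_le.2 hy) : zpowers w ⊔ zpowers y ≤ C)
  rw [hk, hC] at hd
  have hd' : r ^ k ∣ r :=
    (((Nat.coprime_primes Fact.out Fact.out).2 hpr.symm).pow_left k).dvd_of_dvd_mul_left hd
  have hle : zpowers w ⊔ zpowers y = zpowers y :=
    (eq_of_le_of_card_ge le_sup_right (by
      rw [hk, Nat.card_zpowers, hyo]; exact Nat.le_of_dvd (Fact.out : r.Prime).pos hd')).symm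
  exact hle ▸ mem_sup_left (mem_zpowers w)

/-- The central involution of a `C(P)` of order `2p` is centralized by `N(P)`. -/
theorem normalizer_le_centralizer_involution {p : ℕ} [Fact p.Prime] (hp : p ≠ 2) (P : Sylow p G)
    (hP : Nat.card (P : Subgroup G) = p)
    (hC : Nat.card (centralizer ((P : Subgroup G) : Set G)) = p * 2) :
    ∃ t : G, orderOf t = 2 ∧
      normalizer ((P : Subgroup G) : Set G) ≤ centralizer ({t} : Set G) := by
  haveI : Fact (Nat.Prime 2) := ⟨Nat.prime_two⟩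
  obtain ⟨⟨t, htC⟩, hto⟩ := exists_prime_orderOf_dvd_card'
    (G := centralizer ((P : Subgroup G) : Set G)) 2 (hC.symm ▸ dvd_mul_left 2 p)
  rw [orderOf_mk] at hto
  refine ⟨t, hto, fun n hn => mem_centralizer_singleton_iff.2 ?_⟩
  have hmem : n * t * n⁻¹ ∈ centralizer ((P : Subgroup G) : Set G) := by
    refine mem_centralizer_iff.2 fun z hz => ?_
    have hz' : n⁻¹ * z * n ∈ (P : Subgroup G) := by
      simpa using (mem_normalizer_iff.1 (inv_mem hn) z).1 hz
    have h1 := mem_centralizer_iff.1 htC _ hz'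
    calc z * (n * t * n⁻¹) = n * (n⁻¹ * z * n * t) * n⁻¹ := by group
      _ = n * (t * (n⁻¹ * z * n)) * n⁻¹ := by rw [h1]
      _ = n * t * n⁻¹ * z := by group
  have ho : orderOf (n * t * n⁻¹) = 2 := by
    rw [← hto]
    exact orderOf_injective (MulAut.conj n).toMonoidHom (MulAut.conj n).injective t
  obtain ⟨k, hk⟩ := mem_zpowers_iff.1 (order_unique P hP hp hC htC hto hmem ho)
  have hk' : t ^ k = t := by
    rw [← zpow_mod_orderOf, hto]
    rcases Int.emod_two_eq k with h | h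
    · exfalso
      rw [← zpow_mod_orderOf, hto] at hk
      simp only [Nat.cast_ofNat, h, zpow_zero] at hk
      rw [← hk, orderOf_one] at ho
      norm_num at ho
    · simp only [Nat.cast_ofNat, h, zpow_one]
  exact mul_inv_eq_iff_eq_mul.1 (hk.symm.trans hk')

omit [Finite G] in
theorem centralizer_ne_top [IsSimpleGroup G] (hG : ¬ IsMulCommutative G) {y : G} (hy : y ≠ 1) :
    centralizer ({y} : Set G) ≠ ⊤ := by
  intro e
  have : y ∈ Subgroup.center G := Subgroup.mem_center_iff.2 fun g =>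
    mem_centralizer_singleton_iff.1 (show g ∈ centralizer ({y} : Set G) from e ▸ mem_top g)
  rw [Basic.center_eq_bot hG] at this
  exact hy (Subgroup.mem_bot.1 this)

theorem ne_612 [IsSimpleGroup G] : Nat.card G ≠ 612 := by
  intro h
  haveI := Fintype.ofFinite G
  haveI : Fact (Nat.Prime 17) := ⟨by norm_num⟩
  have hG : ¬ IsMulCommutative G := Basic.not_comm_of_not_prime (by rw [h]; norm_num)
  obtain ⟨P, c, e, hP, hC, hN, hmul, hpc, he, he1, hd, hmod, h1⟩ :=
    prime_data (p := 17) (m := 36) hG (by rw [h]) (by norm_num)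
  have key : ∀ n ∈ Nat.divisors 36, n % 17 = 1 → 1 < n → n = 18 := by decide +kernel
  have hn := key _ (Nat.mem_divisors.2 ⟨hd, by norm_num⟩) hmod h1
  have hc : c = 17 := by rw [← hC]; exact Centralize.card_centralizer_of_le hG (by norm_num) P hP (by omega)
  subst hc
  rw [hn] at hmul
  have he2 : e = 2 := by omega
  subst he2
  have hidx : (P : Subgroup G).relIndex (normalizer ((P : Subgroup G) : Set G)) = 2 := by
    have h1 := relIndex_mul_relIndex ⊥ (P : Subgroup G) (normalizer ((P : Subgroup G) : Set G)) bot_le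
      le_normalizer
    rw [relIndex_bot_left, relIndex_bot_left, hP, hN] at h1
    omega
  obtain ⟨t, a, x, -, -, hx1, hax, hxd, hxd1, heq⟩ := IndexTwo.equation hG (q := 17) (by norm_num)
    (EvenPSL.selfCent_of_card P hP hC) hP hidx
  have hax2 := abs_le.1 hax
  obtain ⟨d, hd'⟩ : ∃ d : ℕ, (a - x) ^ 2 = (d : ℤ) ^ 2 ∧ d ≤ 2 * x :=
    ⟨(a - x).natAbs, (Int.natAbs_sq _).symm, by omega⟩
  rw [hd'.1, h] at heq
  have hc612 : Nat.card (centralizer ({t} : Set G)) ∣ 612 := h ▸ card_subgroup_dvd_card _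
  generalize Nat.card (centralizer ({t} : Set G)) = c at hc612 heq
  have heq' : 612 * d ^ 2 = 17 * c ^ 2 * (x * (x + 1)) := by exact_mod_cast heq
  have key1 : ∀ y ∈ Nat.divisors 612, (y + 1) ∣ 612 → y ≤ 17 := by decide +kernel
  have hx := key1 x (Nat.mem_divisors.2 ⟨h ▸ hxd, by norm_num⟩) (h ▸ hxd1)
  have key2 : ∀ y ∈ Finset.range 18, (1 < y ∧ y ∣ 612 ∧ (y + 1) ∣ 612) → ∀ c ∈ Nat.divisors 612,
      ∀ d ∈ Finset.range 35, 612 * d ^ 2 ≠ 17 * c ^ 2 * (y * (y + 1)) := by decide +kernel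
  exact key2 x (Finset.mem_range.2 (by omega)) ⟨hx1, h ▸ hxd, h ▸ hxd1⟩ c
    (Nat.mem_divisors.2 ⟨hc612, by norm_num⟩) d (Finset.mem_range.2 (by omega)) heq'

theorem ne_1040 [IsSimpleGroup G] : Nat.card G ≠ 1040 := by
  intro h
  haveI := Fintype.ofFinite G
  haveI : Fact (Nat.Prime 13) := ⟨by norm_num⟩
  haveI : Fact (Nat.Prime 5) := ⟨by norm_num⟩
  haveI : Fact (Nat.Prime 2) := ⟨by norm_num⟩
  have hG : ¬ IsMulCommutative G := Basic.not_comm_of_not_prime (by rw [h]; norm_num)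
  obtain ⟨P, c, e, hP, hC, hN, hmul, hpc, he, he1, hd, hmod, h1⟩ :=
    prime_data (p := 13) (m := 80) hG (by rw [h]) (by norm_num)
  have key : ∀ n ∈ Nat.divisors 80, n % 13 = 1 → 1 < n → n = 40 := by decide +kernel
  have hn := key _ (Nat.mem_divisors.2 ⟨hd, by norm_num⟩) hmod h1
  rw [hn] at hmul
  have key0 : ∀ c ∈ Nat.divisors 26, ∀ e ∈ Nat.divisors 12, 13 ∣ c → 1 < e → c * e = 26 →
      c = 13 ∧ e = 2 := by decide +kernel
  obtain ⟨rfl, rfl⟩ := key0 c (Nat.mem_divisors.2 ⟨⟨e, by omega⟩, by norm_num⟩) e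
    (Nat.mem_divisors.2 ⟨he, by norm_num⟩) hpc he1 (by omega)
  have hidx : (P : Subgroup G).relIndex (normalizer ((P : Subgroup G) : Set G)) = 2 := by
    have h1 := relIndex_mul_relIndex ⊥ (P : Subgroup G) (normalizer ((P : Subgroup G) : Set G)) bot_le
      le_normalizer
    rw [relIndex_bot_left, relIndex_bot_left, hP, hN] at h1
    omega
  obtain ⟨t, a, x, ht, hcl, hx1, hax, hxd, hxd1, heq⟩ := IndexTwo.equation hG (q := 13) (by norm_num)
    (EvenPSL.selfCent_of_card P hP hC) hP hidx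
  obtain ⟨T⟩ : Nonempty (Sylow 2 G) := inferInstance
  have h16 := EvenPSL.card_sylow_dvd_centralizer T (by rw [h]; norm_num) hcl
  rw [Basic.card_sylow_eq_pow (a := 4) (m := 65) (by rw [h]; norm_num) (by norm_num) T] at h16
  have hax2 := abs_le.1 hax
  obtain ⟨d, hd'⟩ : ∃ d : ℕ, (a - x) ^ 2 = (d : ℤ) ^ 2 ∧ d ≤ 2 * x :=
    ⟨(a - x).natAbs, (Int.natAbs_sq _).symm, by omega⟩
  rw [hd'.1, h] at heq
  have hCd : Nat.card (centralizer ({t} : Set G)) ∣ 1040 := h ▸ card_subgroup_dvd_card _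
  have hc16 : Nat.card (centralizer ({t} : Set G)) = 16 := by
    generalize Nat.card (centralizer ({t} : Set G)) = c at h16 hCd heq ⊢
    have heq' : 1040 * d ^ 2 = 13 * c ^ 2 * (x * (x + 1)) := by exact_mod_cast heq
    have key1 : ∀ y ∈ Nat.divisors 1040, (y + 1) ∣ 1040 → y ≤ 4 := by decide +kernel
    have hx := key1 x (Nat.mem_divisors.2 ⟨h ▸ hxd, by norm_num⟩) (h ▸ hxd1)
    have key2 : ∀ y ∈ Finset.range 5, 1 < y → ∀ c ∈ Nat.divisors 1040, 16 ∣ c →
        ∀ d ∈ Finset.range 9, 1040 * d ^ 2 = 13 * c ^ 2 * (y * (y + 1)) → c = 16 := by decide +kernel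
    exact key2 x (Finset.mem_range.2 (by omega)) hx1 c (Nat.mem_divisors.2 ⟨hCd, by norm_num⟩)
      (by simpa using h16) d (Finset.mem_range.2 (by omega)) heq'
  obtain ⟨Q, c5, e5, hQ, hC5, -, hmul5, hpc5, he5, he51, hd5, hmod5, h15⟩ :=
    prime_data (p := 5) (m := 208) hG (by rw [h]) (by norm_num)
  have key5 : ∀ n ∈ Nat.divisors 208, n % 5 = 1 → 1 < n → n = 16 ∨ n = 26 := by decide +kernel
  have key6 : ∀ n ∈ ({16, 26} : Finset ℕ), ∀ c ∈ Nat.divisors 1040, ∀ e ∈ Nat.divisors 4,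
      1 < e → c * e * n = 1040 → 2 ∣ c := by decide +kernel
  have h2c : 2 ∣ c5 := key6 _ (by simpa using key5 _ (Nat.mem_divisors.2 ⟨hd5, by norm_num⟩) hmod5 h15) c5
    (Nat.mem_divisors.2 ⟨by rw [← h, ← hC5]; exact card_subgroup_dvd_card _, by norm_num⟩) e5
    (Nat.mem_divisors.2 ⟨he5, by norm_num⟩) he51 hmul5
  obtain ⟨⟨u, hu⟩, huo⟩ := exists_prime_orderOf_dvd_card'
    (G := centralizer ((Q : Subgroup G) : Set G)) 2 (hC5.symm ▸ h2c)
  rw [orderOf_mk] at huo
  obtain ⟨g, hg⟩ := isConj_iff.1 (hcl u huo)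
  have hQu : (Q : Subgroup G) ≤ centralizer ({u} : Set G) := fun z hz =>
    mem_centralizer_singleton_iff.2 (mem_centralizer_iff.1 hu z hz)
  have h5 := card_dvd_of_le hQu
  have e1 := Basic.card_centralizer_mul_card_class (G := G) t
  have e2 := Basic.card_centralizer_mul_card_class (G := G) u
  have hcc : Nat.card {y : G // IsConj t y} = Nat.card {y : G // IsConj u y} :=
    Nat.card_congr (Equiv.subtypeEquivRight fun y =>
      ⟨fun h => (hcl u huo).symm.trans h, fun h => (hcl u huo).trans h⟩)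
  haveI : Nonempty {y : G // IsConj u y} := ⟨⟨u, IsConj.refl u⟩⟩
  rw [hc16, hcc] at e1
  rw [Nat.eq_of_mul_eq_mul_right Nat.card_pos (e2.trans e1.symm), hQ] at h5
  norm_num at h5

theorem ne_1080 [IsSimpleGroup G] : Nat.card G ≠ 1080 := by
  intro h
  classical
  haveI := Fintype.ofFinite G
  haveI : Fact (Nat.Prime 5) := ⟨by norm_num⟩
  haveI : Fact (Nat.Prime 3) := ⟨by norm_num⟩
  haveI : Fact (Nat.Prime 2) := ⟨by norm_num⟩
  have hG : ¬ IsMulCommutative G := Basic.not_comm_of_not_prime (by rw [h]; norm_num)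
  obtain ⟨P, c, e, hP, hC, hN, hmul, hpc, he, he1, hd, hmod, h1⟩ :=
    prime_data (p := 5) (m := 216) hG (by rw [h]) (by norm_num)
  have hn : Nat.card (Sylow 5 G) = 36 ∧ c = 15 ∧ e = 2 := by
    have key : ∀ n ∈ Nat.divisors 216, n % 5 = 1 → 1 < n → ∀ c ∈ Nat.divisors 1080, 5 ∣ c →
        ∀ e ∈ Nat.divisors 4, 1 < e → c * e * n = 1080 → (n ≤ 7 → c = 5) →
        n = 36 ∧ c = 15 ∧ e = 2 := by decide +kernel
    exact key _ (Nat.mem_divisors.2 ⟨hd, by norm_num⟩) hmod h1 c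
      (Nat.mem_divisors.2 ⟨by rw [← h, ← hC]; exact card_subgroup_dvd_card _, by norm_num⟩) hpc e
      (Nat.mem_divisors.2 ⟨he, by norm_num⟩) he1 hmul
      (fun hle => hC ▸ Centralize.card_centralizer_of_le hG (by norm_num) P hP (by omega))
  obtain ⟨-, rfl, rfl⟩ := hn
  obtain ⟨⟨y, hy⟩, hyo⟩ := exists_prime_orderOf_dvd_card'
    (G := centralizer ((P : Subgroup G) : Set G)) 3 (hC.symm ▸ by norm_num)
  rw [orderOf_mk] at hyo
  have hy1 : y ≠ 1 := fun e => by rw [e, orderOf_one] at hyo; norm_num at hyo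
  set H := centralizer ({y} : Set G) with hHdef
  have hPH : (P : Subgroup G) ≤ H := fun z hz =>
    mem_centralizer_singleton_iff.2 (mem_centralizer_iff.1 hy z hz)
  have h5 : 5 ∣ Nat.card H := hP ▸ card_dvd_of_le hPH
  have h9 : 9 ∣ Nat.card H := by
    obtain ⟨Q, hQy⟩ := (IsPGroup.of_card (n := 1) (by rw [Nat.card_zpowers, hyo, pow_one]) :
      IsPGroup 3 (zpowers y)).exists_le_sylow
    have hQc : Nat.card (Q : Subgroup G) = 27 :=
      Basic.card_sylow_eq_pow (a := 3) (m := 40) (by rw [h]; norm_num) (by norm_num) Q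
    have hyQ : y ∈ (Q : Subgroup G) := hQy (mem_zpowers y)
    haveI : Nontrivial (Q : Subgroup G) := Finite.one_lt_card_iff_nontrivial.1 (by omega)
    haveI : Nontrivial (center (Q : Subgroup G)) := Q.2.center_nontrivial
    -- a subgroup of `C(y)` strictly above `⟨y⟩`
    obtain ⟨w, hwQ, hwy, hwc⟩ : ∃ w, w ∈ (Q : Subgroup G) ∧ w ∉ zpowers y ∧ w * y = y * w := by
      by_cases hyc : (⟨y, hyQ⟩ : (Q : Subgroup G)) ∈ center (Q : Subgroup G)
      · obtain ⟨w, hw⟩ : ∃ w, w ∈ (Q : Subgroup G) ∧ w ∉ zpowers y := by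
          by_contra hc
          push Not at hc
          have := card_dvd_of_le (show (Q : Subgroup G) ≤ zpowers y from hc)
          rw [hQc, Nat.card_zpowers, hyo] at this
          norm_num at this
        exact ⟨w, hw.1, hw.2, congrArg Subtype.val (mem_center_iff.1 hyc ⟨w, hw.1⟩)⟩
      · obtain ⟨z, hz⟩ := exists_ne (1 : center (Q : Subgroup G))
        refine ⟨((z : (Q : Subgroup G)) : G), (z : (Q : Subgroup G)).2, fun hmem => ?_, ?_⟩
        · apply hyc
          obtain ⟨k, hk⟩ := mem_zpowers_iff.1 hmem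
          have hk' : (⟨y, hyQ⟩ : (Q : Subgroup G)) ^ k = (z : (Q : Subgroup G)) := Subtype.ext (by simpa using hk)
          have hz1 : (z : (Q : Subgroup G)) ≠ 1 := fun e => hz (Subtype.ext e)
          have h3 : zpowers ((z : (Q : Subgroup G)) : G) = zpowers y := by
            refine eq_of_le_of_card_ge (zpowers_le.2 hmem) ?_
            rw [Nat.card_zpowers, Nat.card_zpowers, hyo]
            have hd3 := orderOf_dvd_natCard (⟨_, hmem⟩ : zpowers y)
            rw [orderOf_mk, Nat.card_zpowers, hyo] at hd3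
            rcases (Nat.dvd_prime (by norm_num : Nat.Prime 3)).1 hd3 with h' | h'
            · exact absurd (Subtype.ext (orderOf_eq_one_iff.1 h')) hz1
            · exact h'.ge
          obtain ⟨j, hj⟩ := mem_zpowers_iff.1 (h3 ▸ mem_zpowers y)
          have : (⟨y, hyQ⟩ : (Q : Subgroup G)) = (z : (Q : Subgroup G)) ^ j :=
            Subtype.ext (by simpa using hj.symm)
          rw [this]
          exact zpow_mem z.2 j
        · exact (congrArg Subtype.val (mem_center_iff.1 z.2 ⟨y, hyQ⟩)).symm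
    have hlt : zpowers y < (Q : Subgroup G) ⊓ H := by
      refine lt_of_le_of_ne (le_inf hQy (zpowers_le.2 (mem_centralizer_singleton_iff.2 rfl))) fun e => hwy ?_
      rw [e]
      exact ⟨hwQ, mem_centralizer_singleton_iff.2 hwc⟩
    have hd27 := card_dvd_of_le (inf_le_left : (Q : Subgroup G) ⊓ H ≤ (Q : Subgroup G))
    rw [hQc] at hd27
    obtain ⟨k, hk, hk'⟩ := (Nat.dvd_prime_pow (by norm_num : Nat.Prime 3) (m := 3)).1
      ((show (3 : ℕ) ^ 3 = 27 by norm_num).symm ▸ hd27)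
    have hgt : 3 < Nat.card ((Q : Subgroup G) ⊓ H : Subgroup G) := by
      by_contra hle
      exact hlt.ne (eq_of_le_of_card_ge hlt.le (by rw [Nat.card_zpowers, hyo]; omega))
    refine dvd_trans ?_ (card_dvd_of_le (inf_le_right : (Q : Subgroup G) ⊓ H ≤ H))
    rw [hk']
    have : 2 ≤ k := by
      by_contra hc
      have := Nat.pow_le_pow_right (show 0 < 3 by norm_num) (show k ≤ 1 by omega)
      omega
    exact (show 9 = 3 ^ 2 by norm_num) ▸ pow_dvd_pow 3 this
  have hH := centralizer_ne_top hG hy1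
  have hfine := Filter.fine_index hG H hH
  have hHi := card_mul_index H
  rw [h] at hfine hHi
  have hrmod := FixedPoints.relIndex_normalizer_mod P hPH
  set I := normalizer ((P : Subgroup G) : Set G) ⊓ H with hI
  have hIc : Nat.card I * (normalizer ((P : Subgroup G) : Set G)).relIndex H = Nat.card H := by
    have := relIndex_mul_relIndex ⊥ I H bot_le inf_le_right
    rwa [relIndex_bot_left, relIndex_bot_left, hI, inf_relIndex_right] at this
  have hI15 : 15 ∣ Nat.card I := by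
    have h1' : (5 : ℕ) ∣ Nat.card I := hP ▸ card_dvd_of_le (le_inf le_normalizer hPH)
    have h3' : (3 : ℕ) ∣ Nat.card I := by
      have := card_dvd_of_le (zpowers_le.2 (⟨centralizer_le_normalizer _ hy,
        mem_centralizer_singleton_iff.2 rfl⟩ : y ∈ I) : zpowers y ≤ I)
      rwa [Nat.card_zpowers, hyo] at this
    exact (show Nat.Coprime 5 3 by norm_num).mul_dvd_of_dvd_of_dvd h1' h3'
  have hI30 : Nat.card I ∣ 30 := by
    have := card_dvd_of_le (inf_le_left : I ≤ normalizer ((P : Subgroup G) : Set G))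
    rwa [hN] at this
  have h90 : Nat.card H = 90 := by
    have key : ∀ m ∈ Nat.divisors 1080, 5 ∣ m → 9 ∣ m → 6 < 1080 / m → ∀ i ∈ Nat.divisors 30,
        15 ∣ i → ∀ r ∈ Finset.range 12, r % 5 = 1 → i * r = m → m = 90 := by decide +kernel
    have hi1 : 1 < H.index := Nat.lt_of_le_of_ne (Nat.one_le_iff_ne_zero.2 H.index_ne_zero_of_finite)
      (fun e => hH (index_eq_one.1 e.symm))
    have hi6 : 6 < H.index := by
      by_contra hle
      have hf := hfine (by omega)
      have key : ∀ i ∈ Finset.range 7, ¬ 2 * 1080 ∣ i.factorial := by decide +kernel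
      exact key _ (Finset.mem_range.2 (by omega)) hf
    have h154 : Nat.card H ≤ 154 := by nlinarith
    refine key _ (Nat.mem_divisors.2 ⟨⟨_, hHi.symm⟩, by norm_num⟩) h5 h9 ?_ _
      (Nat.mem_divisors.2 ⟨hI30, by norm_num⟩) hI15 _ (Finset.mem_range.2 ?_) hrmod hIc
    · rw [← hHi, Nat.mul_div_cancel_left _ Nat.card_pos]; exact hi6
    · have : 15 ≤ Nat.card I := Nat.le_of_dvd Nat.card_pos hI15
      nlinarith
  -- a normal subgroup of index two
  obtain ⟨T⟩ : Nonempty (Sylow 2 H) := inferInstance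
  have hT : Nat.card (T : Subgroup H) = 2 := by
    simpa using Basic.card_sylow_eq_pow (a := 1) (m := 45) (by rw [h90]; norm_num) (by norm_num) T
  haveI : IsCyclic (T : Subgroup H) := isCyclic_of_prime_card hT
  have hmf : (Nat.card H).minFac = 2 := by rw [h90]; exact (Nat.minFac_eq_two_iff 90).2 (by norm_num)
  have hNC := IsCyclic.normalizer_le_centralizer (P := T) hmf inferInstance
  set f := MonoidHom.transferSylow T hNC
  have hK : Nat.card f.ker = 45 := by
    have h1' := card_mul_index f.ker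
    have h2' := (MonoidHom.ker_transferSylow_isComplement' T hNC).index_eq_card
    have h3' := card_mul_index (T : Subgroup H)
    rw [h90] at h1' h3'
    rw [hT] at h3'
    rw [show MonoidHom.transferSylow T hNC = f from rfl] at h2'
    omega
  set K := f.ker.map H.subtype with hKdef
  have hK45 : Nat.card K = 45 := by
    rw [hKdef, ← Nat.card_congr (equivMapOfInjective _ _ (Subgroup.subtype_injective _)).toEquiv, hK]
  have hPK : (P : Subgroup G) ≤ K := by
    intro z hz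
    refine mem_map.2 ⟨⟨z, hPH hz⟩, ?_, rfl⟩
    have hz5 : (⟨z, hPH hz⟩ : H) ^ 5 = 1 := Subtype.ext (by
      have h' : (⟨z, hz⟩ : (P : Subgroup G)) ^ 5 = 1 :=
        orderOf_dvd_iff_pow_eq_one.1 ((_root_.orderOf_dvd_natCard _).trans hP.dvd)
      exact congrArg Subtype.val h' :)
    have h2' : f ⟨z, hPH hz⟩ ^ 2 = 1 :=
      orderOf_dvd_iff_pow_eq_one.1 ((_root_.orderOf_dvd_natCard _).trans hT.dvd)
    have h5' : f ⟨z, hPH hz⟩ ^ 5 = 1 := by rw [← map_pow, hz5, map_one]
    exact MonoidHom.mem_ker.2 (orderOf_eq_one_iff.1 (Nat.eq_one_of_dvd_coprimes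
      (by norm_num : Nat.Coprime 2 5) (orderOf_dvd_of_pow_eq_one h2') (orderOf_dvd_of_pow_eq_one h5')))
  have hr := FixedPoints.relIndex_normalizer_mod P hPK
  have hrd : (normalizer ((P : Subgroup G) : Set G)).relIndex K ∣ 45 := hK45 ▸ index_dvd_card _
  have key45 : ∀ r ∈ Nat.divisors 45, r % 5 = 1 → r = 1 := by decide +kernel
  have := card_dvd_of_le (relIndex_eq_one.1 (key45 _ (Nat.mem_divisors.2 ⟨hrd, by norm_num⟩) hr))
  rw [hK45, hN] at this
  norm_num at this

theorem ne_1008 [IsSimpleGroup G] : Nat.card G ≠ 1008 := by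
  intro h
  haveI : Fact (Nat.Prime 7) := ⟨by norm_num⟩
  have hG : ¬ IsMulCommutative G := Basic.not_comm_of_not_prime (by rw [h]; norm_num)
  obtain ⟨P, c, e, hP, hC, hN, hmul, hpc, he, he1, hd, hmod, h1⟩ :=
    prime_data (p := 7) (m := 144) hG (by rw [h]) (by norm_num)
  have hn : Nat.card (Sylow 7 G) = 36 ∧ c = 14 ∧ e = 2 := by
    have key : ∀ n ∈ Nat.divisors 144, n % 7 = 1 → 1 < n → ∀ c ∈ Nat.divisors 1008, 7 ∣ c →
        ∀ e ∈ Nat.divisors 6, 1 < e → c * e * n = 1008 → (n ≤ 9 → c = 7) →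
        n = 36 ∧ c = 14 ∧ e = 2 := by decide +kernel
    exact key _ (Nat.mem_divisors.2 ⟨hd, by norm_num⟩) hmod h1 c
      (Nat.mem_divisors.2 ⟨by rw [← h, ← hC]; exact card_subgroup_dvd_card _, by norm_num⟩) hpc e
      (Nat.mem_divisors.2 ⟨he, by norm_num⟩) he1 hmul
      (fun hle => hC ▸ Centralize.card_centralizer_of_le hG (by norm_num) P hP hle)
  obtain ⟨-, rfl, rfl⟩ := hn
  obtain ⟨t, ht, hNt⟩ := normalizer_le_centralizer_involution (by norm_num) P hP (by rw [hC])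
  have hH := centralizer_ne_top hG (fun e : t = 1 => by rw [e, orderOf_one] at ht; norm_num at ht)
  have hr := FixedPoints.relIndex_normalizer_mod P (le_normalizer.trans hNt)
  have h1' := relIndex_mul_relIndex ⊥ (normalizer ((P : Subgroup G) : Set G))
    (centralizer ({t} : Set G)) bot_le hNt
  rw [relIndex_bot_left, relIndex_bot_left, hN] at h1'
  have hi := card_mul_index (centralizer ({t} : Set G))
  rw [h] at hi
  have hi1 : (centralizer ({t} : Set G)).index ≠ 1 := fun e => hH (index_eq_one.1 e)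
  generalize (normalizer ((P : Subgroup G) : Set G)).relIndex (centralizer ({t} : Set G)) = r at hr h1'
  have key : ∀ r ∈ Finset.range 37, r % 7 = 1 → r ∣ 36 → r = 1 ∨ r = 36 := by decide +kernel
  have hrd : r ∣ 36 := ⟨(centralizer ({t} : Set G)).index, by rw [← h1'] at hi; nlinarith⟩
  rcases key r (Finset.mem_range.2 (Nat.lt_succ_of_le (Nat.le_of_dvd (by norm_num) hrd))) hr hrd with
    rfl | rfl
  · exact SixteenFour.false_of_centralizer hG (m := 63) (c := 7) (by rw [h]) (by norm_num)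
      (by norm_num) ht (by omega)
  · exact hi1 (by rw [← h1'] at hi; omega)

theorem ne_756 [IsSimpleGroup G] : Nat.card G ≠ 756 := by
  intro h
  haveI := Fintype.ofFinite G
  haveI : Fact (Nat.Prime 7) := ⟨by norm_num⟩
  have hG : ¬ IsMulCommutative G := Basic.not_comm_of_not_prime (by rw [h]; norm_num)
  obtain ⟨hd, hmod, h1, -⟩ := Basic.sylow_count (p := 7) hG (by rw [h]; norm_num) (a := 1) (m := 108)
    (by rw [h]; norm_num) (by norm_num)
  have key : ∀ x ∈ Nat.divisors 108, x % 7 = 1 → 1 < x → x = 36 := by decide +kernel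
  have hn := key _ (Nat.mem_divisors.2 ⟨hd, by norm_num⟩) hmod h1
  obtain ⟨P, hP, he, hPc⟩ := Orders.exists_selfCent (p := 7) (m := 108) (e := 3) hG
    (by rw [h]) (by norm_num) (by norm_num) (by norm_num) hn
  obtain ⟨ε, c, X, s, hε, hX1, hXd, -, hsq, hdeg, hsum, hs⟩ :=
    Exceptional.degree_data hG hP he (t := 2) (by rw [hPc]) (by norm_num)
  have hnn : ∀ (s' : Multiset (ℤ × ℕ)), 0 ≤ (s'.map fun v => v.1 ^ 2).sum := fun s' =>
    Multiset.sum_nonneg fun a ha => by
      obtain ⟨w, -, rfl⟩ := Multiset.mem_map.1 ha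
      exact sq_nonneg _
  have hc : c = 0 ∨ c = -ε := by
    have h' := hnn s
    norm_num at hsq
    rcases hε with rfl | rfl
    · have : c ≤ 0 := by nlinarith
      have : -1 ≤ c := by nlinarith
      omega
    · have : 0 ≤ c := by nlinarith
      have : c ≤ 1 := by nlinarith
      omega
  have hsum2 : (s.map fun v => v.1 ^ 2).sum = 2 := by
    norm_num at hsq
    rcases hε with rfl | rfl <;> rcases hc with rfl | rfl <;> norm_num at hsq ⊢ <;> linarith
  have hval : ∀ v ∈ s, v = ((-1 : ℤ), 6) ∨ v = ((-1 : ℤ), 27) := by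
    intro v hv
    obtain ⟨hv0, hx1, hxd, hxc⟩ := hs v hv
    obtain ⟨s', rfl⟩ := Multiset.exists_cons_of_mem hv
    simp only [Multiset.map_cons, Multiset.sum_cons] at hsum hsum2
    have h' := hnn s'
    rw [h] at hxd hsum
    rw [hPc] at hxc
    have hb1 : v.1 ≤ 1 := by nlinarith
    have hb2 : -1 ≤ v.1 := by nlinarith
    have hx : v.2 ≤ 27 := by
      by_contra hbig
      push Not at hbig
      have h2 := (Nat.pow_le_pow_left (show 28 ≤ v.2 from hbig) 2).trans
        ((Nat.le_add_right _ _).trans ((Nat.le_add_left _ _).trans hsum))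
      norm_num at h2
    have key2 : ∀ x ≤ 27, 1 < x → x ∣ 756 → (x % 7 ≠ 1 ∧ x % 7 ≠ 6) ∨ x = 6 ∨ x = 27 := by
      decide +kernel
    have h2 := key2 v.2 hx hx1 hxd
    obtain ⟨b, x⟩ := v
    simp only [Nat.cast_ofNat] at *
    simp only [Prod.mk.injEq]
    omega
  have hcard := Orders.multiset_card_le s (fun v hv => (hs v hv).1)
  rw [hsum2] at hcard
  rw [h] at hXd
  rcases s.empty_or_exists_mem with rfl | ⟨v, hvs⟩
  · simp at hsum2
  obtain ⟨s', rfl⟩ := Multiset.exists_cons_of_mem hvs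
  rcases s'.empty_or_exists_mem with rfl | ⟨w, hw⟩
  · rcases hval v (Multiset.mem_cons_self _ _) with rfl | rfl <;> simp at hsum2
  obtain ⟨s'', rfl⟩ := Multiset.exists_cons_of_mem hw
  have hs''0 : s'' = 0 := by
    have : Multiset.card s'' = 0 := by
      simp only [Multiset.card_cons] at hcard
      omega
    exact Multiset.card_eq_zero.1 this
  subst hs''0
  have hXv : X = 11 ∨ X = 32 ∨ X = 53 := by
    rcases hval v (Multiset.mem_cons_self _ _) with rfl | rfl <;>
      rcases hval w (Multiset.mem_cons_of_mem (Multiset.mem_cons_self _ _)) with rfl | rfl <;>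
      rcases hε with rfl | rfl <;> rcases hc with rfl | rfl <;> simp at hdeg <;> omega
  rcases hXv with rfl | rfl | rfl <;> norm_num at hXd


/-- Stage one: the possible degrees. -/
theorem degrees720 : ∀ a ∈ [((1 : ℤ), 6), (1, 16), (-1, 4), (-1, 9), (-1, 24)],
    ∀ b ∈ [((1 : ℤ), 6), (1, 16), (-1, 4), (-1, 9), (-1, 24)],
    ∀ c ∈ [((1 : ℤ), 6), (1, 16), (-1, 4), (-1, 9), (-1, 24)],
    ∀ d ∈ [((1 : ℤ), 6), (1, 16), (-1, 4), (-1, 9), (-1, 24)],
    1 + a.1 * ((a.2 : ℕ) : ℤ) + b.1 * ((b.2 : ℕ) : ℤ) + c.1 * ((c.2 : ℕ) : ℤ) + d.1 * ((d.2 : ℕ) : ℤ) = 0 →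
    a.2 ^ 2 + b.2 ^ 2 + c.2 ^ 2 + d.2 ^ 2 ≤ 719 →
      (({a, b, c, d} : Multiset (ℤ × ℕ)) = {((1 : ℤ), 6), (1, 6), (-1, 4), (-1, 9)} ∨
        ({a, b, c, d} : Multiset (ℤ × ℕ)) = {((1 : ℤ), 16), (-1, 4), (-1, 4), (-1, 9)}) := by
  decide +kernel

/-- Stage two: the values at an involution do not fit `{6, 6, 4, 9}`. -/
theorem values720_a : ∀ a ∈ Finset.Icc (-6 : ℤ) 6, ∀ b ∈ Finset.Icc (-6 : ℤ) 6,
    ∀ v ∈ Finset.Icc (-4 : ℤ) 4, |1 + a + b - v| ≤ 9 →
    256 ≠ 144 + 24 * a ^ 2 + 24 * b ^ 2 - 36 * v ^ 2 - 16 * (1 + a + b - v) ^ 2 := by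
  decide +kernel

/-- Stage two: the values at an involution do not fit `{16, 4, 4, 9}`. -/
theorem values720_b : ∀ a ∈ Finset.Icc (-16 : ℤ) 16, ∀ b ∈ Finset.Icc (-4 : ℤ) 4,
    ∀ v ∈ Finset.Icc (-4 : ℤ) 4, |1 + a - b - v| ≤ 9 →
    256 ≠ 144 + 9 * a ^ 2 - 36 * b ^ 2 - 36 * v ^ 2 - 16 * (1 + a - b - v) ^ 2 ∧
      2304 ≠ 144 + 9 * a ^ 2 - 36 * b ^ 2 - 36 * v ^ 2 - 16 * (1 + a - b - v) ^ 2 := by
  decide +kernel

set_option maxHeartbeats 1000000 in
theorem ne_720 [IsSimpleGroup G] : Nat.card G ≠ 720 := by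
  intro h
  classical
  haveI := Fintype.ofFinite G
  haveI : Fact (Nat.Prime 5) := ⟨by norm_num⟩
  haveI : Fact (Nat.Prime 2) := ⟨by norm_num⟩
  have hG : ¬ IsMulCommutative G := Basic.not_comm_of_not_prime (by rw [h]; norm_num)
  obtain ⟨P, c, e, hP, hC, hN, hmul, hpc, he, he1, hd, hmod, h1⟩ :=
    prime_data (p := 5) (m := 144) hG (by rw [h]) (by norm_num)
  have hn : Nat.card (Sylow 5 G) = 36 ∧ ((c = 10 ∧ e = 2) ∨ (c = 5 ∧ e = 4)) := by
    have key : ∀ n ∈ Nat.divisors 144, n % 5 = 1 → 1 < n → ∀ c ∈ Nat.divisors 720, 5 ∣ c →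
        ∀ e ∈ Nat.divisors 4, 1 < e → c * e * n = 720 → (n ≤ 7 → c = 5) →
        n = 36 ∧ ((c = 10 ∧ e = 2) ∨ (c = 5 ∧ e = 4)) := by decide +kernel
    exact key _ (Nat.mem_divisors.2 ⟨hd, by norm_num⟩) hmod h1 c
      (Nat.mem_divisors.2 ⟨by rw [← h, ← hC]; exact card_subgroup_dvd_card _, by norm_num⟩) hpc e
      (Nat.mem_divisors.2 ⟨he, by norm_num⟩) he1 hmul
      (fun hle => hC ▸ Centralize.card_centralizer_of_le hG (by norm_num) P hP hle)
  obtain ⟨hn36, ⟨rfl, rfl⟩ | ⟨rfl, rfl⟩⟩ := hn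
  · obtain ⟨t, ht, hNt⟩ := normalizer_le_centralizer_involution (by norm_num) P hP (by rw [hC])
    have hH := centralizer_ne_top hG (fun e : t = 1 => by rw [e, orderOf_one] at ht; norm_num at ht)
    have hr := FixedPoints.relIndex_normalizer_mod P (le_normalizer.trans hNt)
    have h1' := relIndex_mul_relIndex ⊥ (normalizer ((P : Subgroup G) : Set G))
      (centralizer ({t} : Set G)) bot_le hNt
    rw [relIndex_bot_left, relIndex_bot_left, hN] at h1'
    have hi := card_mul_index (centralizer ({t} : Set G))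
    have hfine := Filter.fine_index hG _ hH
    rw [h] at hi hfine
    have hi1 : (centralizer ({t} : Set G)).index ≠ 1 := fun e => hH (index_eq_one.1 e)
    generalize (normalizer ((P : Subgroup G) : Set G)).relIndex (centralizer ({t} : Set G)) = r at hr h1'
    have key : ∀ r ∈ Finset.range 37, r % 5 = 1 → r ∣ 36 → r = 1 ∨ r = 6 ∨ r = 36 := by decide +kernel
    have hrd : r ∣ 36 := ⟨(centralizer ({t} : Set G)).index, by rw [← h1'] at hi; nlinarith⟩
    rcases key r (Finset.mem_range.2 (Nat.lt_succ_of_le (Nat.le_of_dvd (by norm_num) hrd))) hr hrd with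
      rfl | rfl | rfl
    · exact SixteenFour.false_of_centralizer hG (m := 45) (c := 5) (by rw [h]) (by norm_num)
        (by norm_num) ht (by omega)
    · have h6 : (centralizer ({t} : Set G)).index = 6 := by rw [← h1'] at hi; omega
      rw [h6] at hfine
      have hf := hfine (by norm_num)
      norm_num [Nat.factorial] at hf
    · exact hi1 (by rw [← h1'] at hi; omega)
  -- `N(P)` is a Frobenius group of order 20
  set N := normalizer ((P : Subgroup G) : Set G) with hNdef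
  have hSC := EvenPSL.selfCent_of_card P hP hC
  have hidx : (P : Subgroup G).relIndex N = 4 := by
    have h1 := relIndex_mul_relIndex ⊥ (P : Subgroup G) N bot_le le_normalizer
    rw [relIndex_bot_left, relIndex_bot_left, hP, hN] at h1
    omega
  have hnot : ∀ v : G, orderOf v = 2 → v ∉ (P : Subgroup G) := fun v hv hm => by
    have := orderOf_dvd_natCard (⟨v, hm⟩ : (P : Subgroup G))
    rw [orderOf_mk, hv, hP] at this
    norm_num at this
  have hinvert : ∀ v ∈ N, orderOf v = 2 → ∀ y ∈ (P : Subgroup G), v * y * v⁻¹ = y⁻¹ := by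
    intro v hv hvo y hy
    have hy' : v * y * v⁻¹ ∈ (P : Subgroup G) := (mem_normalizer_iff.1 hv y).1 hy
    have hcomm : v * y * v⁻¹ * y = y * (v * y * v⁻¹) :=
      congrArg Subtype.val (hSC.comm ⟨_, hy'⟩ ⟨y, hy⟩)
    have hvi : v⁻¹ = v := inv_eq_of_mul_eq_one_right (by rw [← sq, ← hvo, pow_orderOf_eq_one])
    by_contra hne
    have hw : v * y * v⁻¹ * y ≠ 1 := fun h => hne (mul_eq_one_iff_eq_inv.1 h)
    refine hnot v hvo (hSC.centralizer_eq _ (mul_mem hy' hy) hw ▸ mem_centralizer_singleton_iff.2 ?_)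
    calc v * (v * y * v⁻¹ * y) = v * v * (y * v⁻¹ * y) := by group
      _ = y * v * y := by rw [← sq, ← hvo, pow_orderOf_eq_one, one_mul, hvi]
      _ = y * (v * y * v⁻¹) * v := by group
      _ = v * y * v⁻¹ * y * v := by rw [hcomm]
  obtain ⟨⟨u, huN⟩, huo⟩ := exists_prime_orderOf_dvd_card' (G := N) 2 (hN.symm ▸ by norm_num)
  rw [orderOf_mk] at huo
  have huu : u * u = 1 := by rw [← sq, ← huo, pow_orderOf_eq_one]
  have hui : u⁻¹ = u := inv_eq_of_mul_eq_one_right huu
  -- the inverting conjugates of `u` form the coset `u P`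
  have hcoset : ∀ y ∈ (P : Subgroup G), y ≠ 1 → ∀ v : G,
      (IsConj u v ∧ v * y * v⁻¹ = y⁻¹) ↔ u * v ∈ (P : Subgroup G) := by
    intro y hy hy1 v
    constructor
    · rintro ⟨-, hv⟩
      rw [← hSC.centralizer_eq y hy hy1, mem_centralizer_singleton_iff]
      have h1 := hinvert u huN huo y⁻¹ (inv_mem hy)
      rw [inv_inv] at h1
      have h2 : u * v * y * (u * v)⁻¹ = y := by
        calc u * v * y * (u * v)⁻¹ = u * (v * y * v⁻¹) * u⁻¹ := by group
          _ = y := by rw [hv, h1]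
      exact mul_inv_eq_iff_eq_mul.1 h2
    · intro hz
      have hv : v = u * (u * v) := by rw [← mul_assoc, huu, one_mul]
      refine ⟨?_, ?_⟩
      · set z := u * v with hzdef
        have h5 : z ^ 5 = 1 := congrArg Subtype.val
          (orderOf_dvd_iff_pow_eq_one.1 ((_root_.orderOf_dvd_natCard (⟨z, hz⟩ : (P : Subgroup G))).trans hP.dvd))
        set s := z ^ 3 with hs
        have hs2 : s * s = z := by rw [hs, ← pow_add, show 3 + 3 = 5 + 1 by norm_num, pow_succ, h5, one_mul]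
        have h1 : u * s * u⁻¹ = s⁻¹ := hinvert u huN huo s (pow_mem hz 3)
        refine isConj_iff.2 ⟨s⁻¹, ?_⟩
        have h2 : s⁻¹ * u = u * s := by rw [← h1]; group
        calc s⁻¹ * u * s⁻¹⁻¹ = u * s * s := by rw [h2, inv_inv]
          _ = v := by rw [mul_assoc, hs2, ← hv]
      · rw [hv]
        have hzy : (u * v) * y = y * (u * v) := congrArg Subtype.val (hSC.comm ⟨_, hz⟩ ⟨y, hy⟩)
        calc u * (u * v) * y * (u * (u * v))⁻¹ = u * ((u * v) * y * (u * v)⁻¹) * u⁻¹ := by group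
          _ = y⁻¹ := by rw [hzy, mul_inv_cancel_right]; exact hinvert u huN huo y hy
  have hcardcoset : ∀ y ∈ (P : Subgroup G), y ≠ 1 →
      Nat.card {v : G // IsConj u v ∧ v * y * v⁻¹ = y⁻¹} = Nat.card (P : Subgroup G) := fun y hy hy1 =>
    Nat.card_congr ((Equiv.mulLeft u).subtypeEquiv fun v => hcoset y hy hy1 v)
  -- the centralizer order is divisible by 16
  obtain ⟨⟨y0, hy0⟩, hy0o⟩ := exists_prime_orderOf_dvd_card' (G := (P : Subgroup G)) 5 hP.symm.dvd
  rw [orderOf_mk] at hy0o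
  have hy01 : y0 ≠ 1 := fun e => by rw [e, orderOf_one] at hy0o; norm_num at hy0o
  have hJ : Nat.card {v : G // IsConj u v ∧ v ∈ N} = 5 := by
    rw [← hP, ← hcardcoset y0 hy0 hy01]
    refine Nat.card_congr (Equiv.subtypeEquivRight fun v => ⟨fun ⟨hv, hvN⟩ => ⟨hv, ?_⟩, fun hv => ⟨hv.1, ?_⟩⟩)
    · refine hinvert v hvN ?_ y0 hy0
      obtain ⟨g, rfl⟩ := isConj_iff.1 hv
      rw [← huo]
      exact orderOf_injective (MulAut.conj g).toMonoidHom (MulAut.conj g).injective u
    · have := (hcoset y0 hy0 hy01 v).1 hv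
      have hm : u * (u * v) ∈ N := mul_mem huN (le_normalizer this)
      rwa [← mul_assoc, huu, one_mul] at hm
  have h16 : 16 ∣ Nat.card (centralizer ({u} : Set G)) := by
    have hfix := FixedPoints.card_fixed_mul P u
    rw [← hNdef, hN, hJ] at hfix
    have hfour := FixedPoints.four_dvd_moved hG (α := Sylow 5 G) huu
    rw [hn36] at hfour
    have hle : Nat.card {Q : Sylow 5 G // u • Q = Q} ≤ 36 :=
      hn36 ▸ Nat.card_le_card_of_injective _ Subtype.val_injective
    omega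
  obtain ⟨s, hs2, hsx, hsq, hsv, heq, hs⟩ := OneOrbit.data hG hSC hidx (by rw [hP])
    (by rw [hP]; decide) huo hcardcoset
  have hnn : ∀ (s' : Multiset (ℤ × ℕ × ℤ)), 0 ≤ (s'.map fun w => w.1 ^ 2).sum := fun s' =>
    Multiset.sum_nonneg fun a ha => by
      obtain ⟨w, -, rfl⟩ := Multiset.mem_map.1 ha
      exact sq_nonneg _
  -- every coefficient is `1` or `-1`
  have hb : ∀ w ∈ s, w.1 = 1 ∨ w.1 = -1 := by
    intro w hw
    obtain ⟨hw0, hx1, -, -, -⟩ := hs w hw
    obtain ⟨s', hs'⟩ := Multiset.exists_cons_of_mem hw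
    rw [hs', Multiset.map_cons, Multiset.sum_cons] at hs2
    have h' := hnn s'
    norm_num at hs2
    have hb1 : w.1 ≤ 2 := by nlinarith
    have hb2 : -2 ≤ w.1 := by nlinarith
    by_contra hne
    push Not at hne
    have hw2 : w.1 ^ 2 = 4 := by
      rcases (show w.1 = 2 ∨ w.1 = -2 by omega) with h2 | h2 <;> rw [h2] <;> norm_num
    have hs'0 : s' = 0 := by
      by_contra hne'
      obtain ⟨w', hw'⟩ := Multiset.exists_mem_of_ne_zero hne'
      obtain ⟨s'', rfl⟩ := Multiset.exists_cons_of_mem hw'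
      rw [Multiset.map_cons, Multiset.sum_cons] at hs2
      have := hnn s''
      have hpos : 1 ≤ w'.1 ^ 2 := Int.add_one_le_iff.2 (sq_pos_of_ne_zero
        (hs w' (hs' ▸ Multiset.mem_cons_of_mem (Multiset.mem_cons_self _ _))).1)
      omega
    rw [hs', hs'0] at hsx
    simp only [Multiset.map_cons, Multiset.map_zero, Multiset.sum_cons, Multiset.sum_zero, add_zero] at hsx
    rcases (show w.1 = 2 ∨ w.1 = -2 by omega) with h2 | h2 <;> rw [h2] at hsx <;> omega
  have hcard : Multiset.card s = 4 := by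
    have : (s.map fun w => w.1 ^ 2) = s.map fun _ => (1 : ℤ) :=
      Multiset.map_congr rfl fun w hw => by rcases hb w hw with h | h <;> simp [h]
    rw [this] at hs2
    simp at hs2
    omega
  obtain ⟨w₁, hw₁⟩ := Multiset.card_pos_iff_exists_mem.1 (by omega : 0 < Multiset.card s)
  obtain ⟨s₁, rfl⟩ := Multiset.exists_cons_of_mem hw₁
  rw [Multiset.card_cons] at hcard
  obtain ⟨w₂, hw₂⟩ := Multiset.card_pos_iff_exists_mem.1 (by omega : 0 < Multiset.card s₁)
  obtain ⟨s₂, rfl⟩ := Multiset.exists_cons_of_mem hw₂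
  rw [Multiset.card_cons] at hcard
  obtain ⟨w₃, hw₃⟩ := Multiset.card_pos_iff_exists_mem.1 (by omega : 0 < Multiset.card s₂)
  obtain ⟨s₃, rfl⟩ := Multiset.exists_cons_of_mem hw₃
  rw [Multiset.card_cons] at hcard
  obtain ⟨w₄, rfl⟩ := Multiset.card_eq_one.1 (by omega : Multiset.card s₃ = 1)
  simp only [Multiset.map_cons, Multiset.map_singleton, Multiset.sum_cons, Multiset.sum_singleton] at hsx hsq
  rw [h] at hsq
  have hL : ∀ w ∈ w₁ ::ₘ w₂ ::ₘ w₃ ::ₘ ({w₄} : Multiset _), w.2.1 ^ 2 ≤ 719 →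
      (w.1, w.2.1) ∈ [((1 : ℤ), 6), (1, 16), (-1, 4), (-1, 9), (-1, 24)] := by
    intro w hw hle
    obtain ⟨-, hx1, hxd, hxc, -⟩ := hs w hw
    rw [h] at hxd
    rw [hP] at hxc
    have hx : w.2.1 ≤ 26 := by nlinarith
    have key : ∀ x ∈ Finset.range 27, 1 < x → x ∣ 720 →
        ((x % 5 = 1 → x = 6 ∨ x = 16) ∧ (x % 5 = 4 → x = 4 ∨ x = 9 ∨ x = 24)) := by decide +kernel
    obtain ⟨k1, k2⟩ := key _ (Finset.mem_range.2 (by omega)) hx1 hxd
    rcases hb w hw with hb' | hb' <;> rw [hb'] at hxc ⊢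
    · rcases k1 (by omega) with h' | h' <;> simp [h']
    · rcases k2 (by omega) with h' | h' | h' <;> simp [h']
  have hset := degrees720 (w₁.1, w₁.2.1) (hL w₁ (by simp) (by omega)) (w₂.1, w₂.2.1)
    (hL w₂ (by simp) (by omega)) (w₃.1, w₃.2.1) (hL w₃ (by simp) (by omega)) (w₄.1, w₄.2.1)
    (hL w₄ (by simp) (by omega)) (by linarith) (by linarith)
  set s := w₁ ::ₘ w₂ ::ₘ w₃ ::ₘ ({w₄} : Multiset (ℤ × ℕ × ℤ)) with hsdef
  have hmap : ({(w₁.1, w₁.2.1), (w₂.1, w₂.2.1), (w₃.1, w₃.2.1), (w₄.1, w₄.2.1)} : Multiset (ℤ × ℕ)) =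
      s.map fun w => (w.1, w.2.1) := by
    simp [hsdef]
  rw [hmap] at hset
  have hcd : Nat.card (centralizer ({u} : Set G)) ∣ 720 := h ▸ card_subgroup_dvd_card _
  -- extract the values
  have extract : ∀ b1 b2 b3 b4 : ℤ × ℕ, (s.map fun w => (w.1, w.2.1)) = {b1, b2, b3, b4} →
      ∃ v1 v2 v3 v4 : ℤ, |v1| ≤ b1.2 ∧ |v2| ≤ b2.2 ∧ |v3| ≤ b3.2 ∧ |v4| ≤ b4.2 ∧
        1 + b1.1 * v1 + b2.1 * v2 + b3.1 * v3 + b4.1 * v4 = 0 ∧
        (5 : ℚ) * (Nat.card (centralizer ({u} : Set G)) : ℚ) ^ 2 / 720 =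
          1 + (b1.1 : ℚ) * (v1 : ℚ) ^ 2 / (b1.2 : ℚ) + (b2.1 : ℚ) * (v2 : ℚ) ^ 2 / (b2.2 : ℚ) +
            (b3.1 : ℚ) * (v3 : ℚ) ^ 2 / (b3.2 : ℚ) + (b4.1 : ℚ) * (v4 : ℚ) ^ 2 / (b4.2 : ℚ) := by
    intro b1 b2 b3 b4 hm
    obtain ⟨z1, hz1, e1, hr1⟩ := Multiset.map_eq_cons _ _ _ _ |>.2 hm
    obtain ⟨z2, hz2, e2, hr2⟩ := Multiset.map_eq_cons _ _ _ _ |>.2 hr1
    obtain ⟨z3, hz3, e3, hr3⟩ := Multiset.map_eq_cons _ _ _ _ |>.2 hr2
    obtain ⟨z4, hr4, e4⟩ := Multiset.map_eq_singleton.1 hr3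
    have hs4 : s = z1 ::ₘ z2 ::ₘ z3 ::ₘ ({z4} : Multiset _) := by
      rw [← hr4, Multiset.cons_erase hz3, Multiset.cons_erase hz2, Multiset.cons_erase hz1]
    rw [hs4] at hsv heq hs
    simp only [Multiset.map_cons, Multiset.map_singleton, Multiset.sum_cons, Multiset.sum_singleton] at hsv heq
    subst e1 e2 e3 e4
    refine ⟨z1.2.2, z2.2.2, z3.2.2, z4.2.2, (hs z1 (by simp)).2.2.2.2, (hs z2 (by simp)).2.2.2.2,
      (hs z3 (by simp)).2.2.2.2, (hs z4 (by simp)).2.2.2.2, by linarith, ?_⟩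
    rw [hP, h] at heq
    push_cast at heq ⊢
    linarith
  generalize Nat.card (centralizer ({u} : Set G)) = c at h16 hcd extract
  rcases hset with hset | hset
  · obtain ⟨a, b, v, z, ha, hb', hv, hz, hlin, hE⟩ := extract _ _ _ _ hset
    push_cast at ha hb' hv hz hlin hE
    have hz' : z = 1 + a + b - v := by linarith
    subst hz'
    have hEZ : (c : ℤ) ^ 2 = 144 + 24 * a ^ 2 + 24 * b ^ 2 - 36 * v ^ 2 - 16 * (1 + a + b - v) ^ 2 := by
      have : ((c : ℤ) ^ 2 : ℚ) =
          ((144 + 24 * a ^ 2 + 24 * b ^ 2 - 36 * v ^ 2 - 16 * (1 + a + b - v) ^ 2 : ℤ) : ℚ) := by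
        push_cast at hE ⊢; linarith
      exact_mod_cast this
    obtain ⟨ha1, ha2⟩ := abs_le.1 ha
    obtain ⟨hb1, hb2⟩ := abs_le.1 hb'
    have hc16 : c = 16 := by
      have hbound : c < 48 := by
        have h36 : a ^ 2 ≤ 36 := by nlinarith
        have h36' : b ^ 2 ≤ 36 := by nlinarith
        have : (c : ℤ) ^ 2 ≤ 1872 := by linarith [sq_nonneg v, sq_nonneg (1 + a + b - v)]
        nlinarith
      have key : ∀ c ∈ Finset.range 48, 16 ∣ c → c ∣ 720 → c = 16 := by decide +kernel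
      exact key c (Finset.mem_range.2 hbound) h16 hcd
    rw [hc16] at hEZ
    norm_num at hEZ
    exact values720_a a (Finset.mem_Icc.2 ⟨ha1, ha2⟩) b (Finset.mem_Icc.2 ⟨hb1, hb2⟩) v
      (Finset.mem_Icc.2 (abs_le.1 hv)) hz hEZ
  · obtain ⟨a, b, v, z, ha, hb', hv, hz, hlin, hE⟩ := extract _ _ _ _ hset
    push_cast at ha hb' hv hz hlin hE
    have hz' : z = 1 + a - b - v := by linarith
    subst hz'
    have hEZ : (c : ℤ) ^ 2 = 144 + 9 * a ^ 2 - 36 * b ^ 2 - 36 * v ^ 2 - 16 * (1 + a - b - v) ^ 2 := by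
      have : ((c : ℤ) ^ 2 : ℚ) =
          ((144 + 9 * a ^ 2 - 36 * b ^ 2 - 36 * v ^ 2 - 16 * (1 + a - b - v) ^ 2 : ℤ) : ℚ) := by
        push_cast at hE ⊢; linarith
      exact_mod_cast this
    obtain ⟨ha1, ha2⟩ := abs_le.1 ha
    have hbound : c < 50 := by
      have h256 : a ^ 2 ≤ 256 := by nlinarith
      have : (c : ℤ) ^ 2 ≤ 2448 := by
        linarith [sq_nonneg b, sq_nonneg v, sq_nonneg (1 + a - b - v)]
      nlinarith
    have key : ∀ c ∈ Finset.range 50, 16 ∣ c → c ∣ 720 → c = 16 ∨ c = 48 := by decide +kernel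
    have hv' := values720_b a (Finset.mem_Icc.2 ⟨ha1, ha2⟩) b (Finset.mem_Icc.2 (abs_le.1 hb')) v
      (Finset.mem_Icc.2 (abs_le.1 hv)) hz
    rcases key c (Finset.mem_range.2 hbound) h16 hcd with hc | hc <;> rw [hc] at hEZ <;> norm_num at hEZ
    · exact hv'.1 hEZ
    · exact hv'.2 hEZ

end Cfsg.Agent.SmallSimple.Orders1092
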