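import Cfsg.Agent.Lib.SmallSimple.Filter

/-!
# The orders up to 1092 surviving the Sylow filter
-/

namespace Cfsg.Agent.SmallSimple.Sieve1092

/-- The primes up to 1092, largest first. -/
def plist : List ℕ :=
  [1091, 1087, 1069, 1063, 1061, 1051, 1049, 1039, 1033, 1031, 1021, 1019, 1013, 1009, 997, 991,
  983, 977, 971, 967, 953, 947, 941, 937, 929, 919, 911, 907, 887, 883, 881, 877, 863, 859, 857,
  853, 839, 829, 827, 823, 821, 811, 809, 797, 787, 773, 769, 761, 757, 751, 743, 739, 733, 727,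
  719, 709, 701, 691, 683, 677, 673, 661, 659, 653, 647, 643, 641, 631, 619, 617, 613, 607, 601,
  599, 593, 587, 577, 571, 569, 563, 557, 547, 541, 523, 521, 509, 503, 499, 491, 487, 479, 467,
  463, 461, 457, 449, 443, 439, 433, 431, 421, 419, 409, 401, 397, 389, 383, 379, 373, 367, 359,
  353, 349, 347, 337, 331, 317, 313, 311, 307, 293, 283, 281, 277, 271, 269, 263, 257, 251, 241,
  239, 233, 229, 227, 223, 211, 199, 197, 193, 191, 181, 179, 173, 167, 163, 157, 151, 149, 139,
  137, 131, 127, 113, 109, 107, 103, 101, 97, 89, 83, 79, 73, 71, 67, 61, 59, 53, 47, 43, 41,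
  37, 31, 29, 23, 19, 17, 13, 11, 7, 5, 3, 2]

set_option maxRecDepth 20000 in
theorem plist_prime : ∀ p ∈ plist, Nat.Prime p := by decide +kernel

set_option synthInstance.maxSize 1024 in
set_option maxHeartbeats 2000000 in
theorem sieve : ∀ N ∈ Finset.range 1093, 1 < N → (∀ p ∈ plist, p ∣ N → Filter.Ok N p) →
    N ∈ [60, 168, 288, 360, 504, 576, 612, 660, 720, 756, 1008, 1040, 1080, 1092] := by
  decide +kernel

end Cfsg.Agent.SmallSimple.Sieve1092
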