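import Cfsg.Agent.Lib.SmallSimple.AltEight
import Cfsg.Agent.Lib.Hall.MinimalNormal
import Cfsg.Agent.Lib.Cores.Subnormal
import Cfsg.Agent.Lib.Characters.Burnside
import Cfsg.Agent.Lib.PrimeCycles.Generation
import Cfsg.Agent.S0494
import Cfsg.Agent.S0497
import Cfsg.Agent.S2119

/-!
# The subgroups of the alternating group of degree eight without normal 2- or odd subgroups
-/

set_option autoImplicit false
set_option linter.style.haveILetI false

namespace Cfsg.Agent.SmallSimple.AltEightSubgroups

open Subgroup Equiv Equiv.Perm Cfsg.Agent.SmallSimple.AltEight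

universe u

variable {H : Type u} [Group H] [Finite H]

theorem square_dvd : ∀ m ∈ Finset.range 142, m * m ∣ 20160 → m ∣ 24 := by
  decide +kernel

theorem solvable_of_dvd_24 {M : Type*} [Group M] [Finite M] (h : Nat.card M ∣ 24) :
    Group.IsSolvable M := by
  obtain ⟨a, b, hab⟩ : ∃ a b : ℕ, Nat.card M = 2 ^ a * 3 ^ b := by
    have h2 : Nat.card M ∈ Nat.divisors (2 ^ 3 * 3) := Nat.mem_divisors.2 ⟨h, by norm_num⟩
    rw [Nat.divisors_mul, Finset.mem_mul] at h2
    obtain ⟨x, hx, y, hy, hxy⟩ := h2
    obtain ⟨a, -, rfl⟩ := (Nat.mem_divisors_prime_pow Nat.prime_two 3).1 hx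
    rw [Nat.prime_three.divisors, Finset.mem_insert, Finset.mem_singleton] at hy
    rcases hy with rfl | rfl
    exacts [⟨a, 0, hxy.symm⟩, ⟨a, 1, by rw [← hxy]; norm_num⟩]
  exact Characters.burnside_pa_qb Nat.prime_two Nat.prime_three hab

section Cores

variable (hO : Cfsg.pPrimeCore 2 H = ⊥) (hO2 : Cfsg.pCore 2 H = ⊥)
include hO hO2

/-- No subnormal subgroup is a nontrivial `p`-group. -/
theorem no_pgroup {A : Subgroup H} (hA : A.IsSubnormal) {p : ℕ} (hp : p.Prime) (h : IsPGroup p A) :
    A = ⊥ := by
  haveI := Fact.mk hp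
  haveI : Fact (Nat.Prime 2) := ⟨Nat.prime_two⟩
  rcases eq_or_ne p 2 with rfl | hne
  · exact le_bot_iff.1 (hO2 ▸ Cores.le_pCore_of_isSubnormal hA h)
  · obtain ⟨k, hk⟩ := IsPGroup.iff_card.1 h
    refine le_bot_iff.1 (hO ▸ Cores.le_pPrimeCore_of_isSubnormal hA ?_)
    rw [hk]
    exact Nat.Coprime.pow_left k ((Nat.coprime_primes hp Nat.prime_two).2 hne)

theorem not_solvable {A : Subgroup H} [A.Normal] (hne : A ≠ ⊥) : ¬ Group.IsSolvable A := by
  intro hs
  obtain ⟨M, hMn, hMA, hM0, hmin⟩ := Hall.exists_minimal_normal A hne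
  haveI := hMn
  haveI : Group.IsSolvable M := solvable_of_solvable_injective (inclusion_injective hMA)
  obtain ⟨p, hp, -, hpg, -⟩ := Hall.minimal_normal_isElementaryAbelian hM0 hmin
  exact hM0 (no_pgroup hO hO2 hMn.isSubnormal hp hpg)

theorem isSimpleGroup_of_minimal {N : Subgroup H} [hN : N.Normal] (hN0 : N ≠ ⊥)
    (hmin : ∀ K : Subgroup H, K.Normal → K ≤ N → K = ⊥ ∨ K = N) (hd : Nat.card N ∣ 20160) :
    IsSimpleGroup N ∧ ¬ IsMulCommutative N := by
  haveI : Nontrivial N := N.nontrivial_iff_ne_bot.2 hN0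
  have hna : ¬ IsMulCommutative N := fun h => by
    haveI := h
    letI : CommGroup N := { (inferInstance : Group N) with mul_comm := mul_comm' }
    exact not_solvable hO hO2 hN0 inferInstance
  refine ⟨⟨fun K hK => ?_⟩, hna⟩
  by_contra hcon
  push Not at hcon
  obtain ⟨M, hMn, hMK, hM0, hMmin⟩ := Hall.exists_minimal_normal K hcon.1
  haveI := hMn
  set A : Subgroup H := M.map N.subtype with hA
  have hAN : A ≤ N := map_subtype_le M
  have hA0 : A ≠ ⊥ := fun e => hM0 ((map_eq_bot_iff_of_injective _ N.subtype_injective).1 e)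
  have hMs : ¬ Group.IsSolvable M := fun hs => by
    obtain ⟨p, hp, -, hpg, -⟩ := Hall.minimal_normal_isElementaryAbelian hM0 hMmin
    refine hA0 (no_pgroup hO hO2 ?_ hp (hpg.map _))
    exact (Subgroup.IsSubnormal.trans' hMn.isSubnormal hN.isSubnormal)
  have hAne : A ≠ N := fun e => hcon.2 (top_le_iff.1 (le_trans (le_of_eq (by
    rw [← map_injective N.subtype_injective |>.eq_iff, ← hA, e, ← MonoidHom.range_eq_map, range_subtype]))
    hMK))
  obtain ⟨h, hh⟩ : ∃ h : H, A.map (MulAut.conj h).toMonoidHom ≠ A := by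
    by_contra hall
    push Not at hall
    have : A.Normal := ⟨fun a ha g => by
      rw [← hall g]
      exact mem_map_of_mem _ ha⟩
    exact (hmin A this hAN).elim hA0 hAne
  set B : Subgroup H := A.map (MulAut.conj h).toMonoidHom with hB
  have hBN : B ≤ N := by
    rintro _ ⟨a, ha, rfl⟩
    exact hN.conj_mem a (hAN ha) h
  haveI hBn : (B.subgroupOf N).Normal := by
    constructor
    rintro ⟨x, hxN⟩ hx ⟨n, hn⟩
    obtain ⟨a, ha, rfl⟩ := mem_subgroupOf.1 hx
    obtain ⟨m, hm, rfl⟩ := ha
    refine mem_subgroupOf.2 ⟨h⁻¹ * n * h * (m : H) * (h⁻¹ * n * h)⁻¹, ?_, ?_⟩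
    · have hn' : h⁻¹ * n * h ∈ N := by simpa using hN.conj_mem n hn h⁻¹
      exact ⟨⟨_, hn'⟩ * m * ⟨_, hn'⟩⁻¹, hMn.conj_mem m hm _, rfl⟩
    · simp [mul_assoc]
  have hinf : M ⊓ B.subgroupOf N = ⊥ := by
    refine Hall.minimal_normal_inf_eq_bot hMmin fun hle => hh ?_
    refine (eq_of_le_of_card_ge ?_ (le_of_eq ?_)).symm
    · rintro _ ⟨m, hm, rfl⟩
      exact mem_subgroupOf.1 (hle hm)
    · exact card_map_of_injective (MulAut.conj h).injective
  have hcard : Nat.card ↥(M ⊔ B.subgroupOf N) = Nat.card M * Nat.card M := by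
    have h1 := relIndex_mul_relIndex ⊥ (B.subgroupOf N) (M ⊔ B.subgroupOf N) bot_le le_sup_right
    rw [relIndex_bot_left, relIndex_bot_left, relIndex_sup_right, ← inf_relIndex_right, inf_comm, hinf,
      relIndex_bot_left, Nat.card_congr (subgroupOfEquivOfLe hBN).toEquiv] at h1
    rw [← h1, hB, card_map_of_injective (K := A) (MulAut.conj h).injective, hA,
      card_map_of_injective N.subtype_injective]
  have hdd : Nat.card M * Nat.card M ∣ 20160 := hcard ▸ (card_subgroup_dvd_card _).trans hd
  refine hMs (solvable_of_dvd_24 (square_dvd _ (Finset.mem_range.2 ?_) hdd))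
  have := Nat.le_of_dvd (by norm_num) hdd
  nlinarith

end Cores

/-- A normal subgroup of index prime to `p` has all Sylow `p`-subgroups. -/
theorem card_sylow_of_normal (N : Subgroup H) [N.Normal] {p : ℕ} [Fact p.Prime] (h : ¬ p ∣ N.index) :
    Nat.card (Sylow p H) = Nat.card (Sylow p N) := by
  have hle : ∀ P : Sylow p H, (P : Subgroup H) ≤ N := by
    intro P x hx
    obtain ⟨k, hk⟩ := IsPGroup.iff_orderOf.1 P.2 ⟨x, hx⟩
    rw [orderOf_mk] at hk
    have h1 : orderOf (x : H ⧸ N) ∣ p ^ k := hk ▸ orderOf_map_dvd (QuotientGroup.mk' N) x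
    have h2 : orderOf (x : H ⧸ N) ∣ N.index := orderOf_dvd_natCard _
    have h3 := Nat.eq_one_of_dvd_coprimes
      (Nat.Coprime.pow_left k ((Fact.out : p.Prime).coprime_iff_not_dvd.2 h)) h1 h2
    exact (QuotientGroup.eq_one_iff x).1 (orderOf_eq_one_iff.1 h3)
  refine Nat.card_congr (Equiv.ofBijective (fun P => P.subtype (hle P)) ⟨?_, ?_⟩)
  · intro P Q hPQ
    exact Sylow.subtype_injective hPQ
  · intro Q
    obtain ⟨P, hP⟩ := (Q.2.map N.subtype).exists_le_sylow
    refine ⟨P, Sylow.ext (Q.3 (P.subtype (hle P)).2 fun x hx => ?_)⟩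
    rw [Sylow.coe_subtype]
    exact mem_subgroupOf.2 (hP ⟨x, hx, rfl⟩)

theorem card_dvd_sylow (N : Subgroup H) [N.Normal] {p b n : ℕ} [Fact p.Prime]
    (hd : Nat.card H ∣ 20160) (hpp : ¬ p * p ∣ 20160) (hN : p ∣ Nat.card N)
    (hn : Nat.card (Sylow p N) = n)
    (hb : ∀ P : Subgroup H, Nat.card P = p → Nat.card (normalizer (P : Set H)) ∣ b) :
    Nat.card H ∣ n * b := by
  have hidx : ¬ p ∣ N.index := fun h =>
    hpp ((Nat.mul_dvd_mul hN h).trans (by rw [card_mul_index]; exact hd))
  have P : Sylow p H := default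
  obtain ⟨m, hm⟩ := hN.trans (card_subgroup_dvd_card N)
  have hnd : ¬ p ∣ m := fun h => hpp ((hm ▸ mul_dvd_mul_left p h).trans hd)
  have hP : Nat.card (P : Subgroup H) = p := by
    simpa using Basic.card_sylow_eq_pow (a := 1) (m := m) (by rw [pow_one]; exact hm) hnd P
  have hmul := Basic.card_normalizer_mul P
  rw [card_sylow_of_normal N hidx, hn] at hmul
  rw [← hmul, mul_comm n]
  exact Nat.mul_dvd_mul (hb _ hP) dvd_rfl

/-- A subgroup of index eight of `A₈` is isomorphic to `A₇`. -/
theorem index_eight {K : Subgroup (alternatingGroup (Fin 8))} (hK : K.index = 8) :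
    Nonempty (K ≃* alternatingGroup (Fin 7)) := by
  classical
  set base : alternatingGroup (Fin 8) ⧸ K :=
    ((1 : alternatingGroup (Fin 8)) : alternatingGroup (Fin 8) ⧸ K) with hbase
  have hSK : MulAction.stabilizer (alternatingGroup (Fin 8)) base = K := MulAction.stabilizer_quotient K
  have hKne : K ≠ ⊤ := fun e => by rw [e, index_top] at hK; norm_num at hK
  have hc : Nat.card (alternatingGroup (Fin 8)) = 20160 := by
    rw [nat_card_alternatingGroup, Nat.card_fin]; norm_num [Nat.factorial]
  haveI : IsSimpleGroup (alternatingGroup (Fin 8)) := alternatingGroup.isSimpleGroup (by simp)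
  have hinj := Basic.toPermHom_injective K hKne
  obtain ⟨ψ, hψ⟩ := PrimeCycles.Generation.exists_hom_others base fun g hg => hinj (by
    rw [map_one]
    exact Equiv.ext hg)
  have hD : Nat.card {u : alternatingGroup (Fin 8) ⧸ K // u ≠ base} = 7 := by
    haveI := Fintype.ofFinite (alternatingGroup (Fin 8) ⧸ K)
    rw [Nat.card_eq_fintype_card, Fintype.card_subtype_compl, Fintype.card_subtype_eq,
      ← Nat.card_eq_fintype_card]
    change K.index - 1 = 7
    rw [hK]
  haveI := Fintype.ofFinite {u : alternatingGroup (Fin 8) ⧸ K // u ≠ base}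
  have hcK := card_mul_index K
  rw [hK, hc] at hcK
  have hindex : ψ.range.index = 2 := by
    have h1 := ψ.range.card_mul_index
    rw [← Nat.card_congr (MonoidHom.ofInjective hψ).toEquiv,
      Nat.card_congr (MulEquiv.subgroupCongr hSK).toEquiv, Nat.card_perm, hD] at h1
    norm_num [Nat.factorial] at h1
    rw [Nat.card_eq_fintype_card] at hcK
    have hKc : Fintype.card K = 2520 := by omega
    rw [hKc] at h1
    omega
  have e : {u : alternatingGroup (Fin 8) ⧸ K // u ≠ base} ≃ Fin 7 :=
    Fintype.equivFinOfCardEq (by rw [← Nat.card_eq_fintype_card, hD])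
  exact ⟨(MulEquiv.subgroupCongr hSK.symm).trans <| (MonoidHom.ofInjective hψ).trans <|
    (MulEquiv.subgroupCongr (Equiv.Perm.eq_alternatingGroup_of_index_eq_two hindex)).trans
      e.altCongrHom⟩

/-- A group of order 720 inside `A₈` with a normal simple subgroup of order 360. -/
theorem order_720 {f : H →* alternatingGroup (Fin 8)} (hf : Function.Injective f)
    (N : Subgroup H) [hN : N.Normal] [IsSimpleGroup N] (hN360 : Nat.card N = 360)
    (hH : Nat.card H = 720) : Nonempty (H ≃* Perm (Fin 6)) := by
  classical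
  set F : H →* Perm (Fin 8) := (alternatingGroup (Fin 8)).subtype.comp f with hF
  have hFi : Function.Injective F := (alternatingGroup (Fin 8)).subtype_injective.comp hf
  have hna : ¬ IsMulCommutative N := Basic.not_comm_of_not_prime (by rw [hN360]; norm_num)
  letI act : MulAction N (Fin 8) := MulAction.compHom (Fin 8) (F.comp N.subtype)
  have hsmul : ∀ (n : N) (a : Fin 8), n • a = F (n : H) a := fun n a => rfl
  set S : Finset (Fin 8) := Finset.univ.filter fun a => ∃ n : N, n • a ≠ a with hS
  have horb : ∀ a ∈ S, Nat.card (MulAction.orbit N a) = 6 ∧ ∀ b ∈ MulAction.orbit N a, b ∈ S := by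
    intro a ha
    obtain ⟨n, hn⟩ := (Finset.mem_filter.1 ha).2
    have hne : MulAction.stabilizer N a ≠ ⊤ := fun e => hn (by
      have : n ∈ MulAction.stabilizer N a := e ▸ mem_top n
      exact this)
    refine ⟨?_, fun b hb => ?_⟩
    · rw [Nat.card_coe_set_eq, ← MulAction.index_stabilizer]
      have hle : (MulAction.stabilizer N a).index ≤ 8 := by
        rw [MulAction.index_stabilizer]
        exact (Set.ncard_le_ncard (Set.subset_univ _)).trans (by simp [Set.ncard_univ])
      have h2 := Basic.two_mul_card_dvd_factorial hna _ hne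
      have hd := index_dvd_card (MulAction.stabilizer N a)
      have h45 := card_mul_index (MulAction.stabilizer N a)
      rw [hN360] at h2 hd h45
      have h8 : (MulAction.stabilizer N a).index ≠ 8 := by
        intro h8
        rw [h8] at h45
        set K := MulAction.stabilizer N a
        haveI : Fact (Nat.Prime 5) := ⟨by norm_num⟩
        have hK : Nat.card K = 45 := by omega
        have Q : Sylow 5 K := default
        have hQ : Nat.card (Q : Subgroup K) = 5 := by
          simpa using Basic.card_sylow_eq_pow (a := 1) (m := 9) (by rw [hK]; norm_num) (by norm_num) Q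
        have hQn : (Q : Subgroup K).Normal := by
          have hdv := Q.card_dvd_index
          have hmod := card_sylow_modEq_one 5 K
          have hidx : (Q : Subgroup K).index = 9 := by
            have := card_mul_index (Q : Subgroup K)
            rw [hQ, hK] at this; omega
          rw [hidx] at hdv
          have h1 : Nat.card (Sylow 5 K) = 1 := by
            have hle9 := Nat.le_of_dvd (by norm_num) hdv
            rw [Nat.ModEq] at hmod
            generalize Nat.card (Sylow 5 K) = m at hdv hmod hle9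
            interval_cases m <;> revert hdv hmod <;> decide
          haveI : Subsingleton (Sylow 5 K) := (Nat.card_eq_one_iff_unique.1 h1).1
          exact Sylow.normal_of_subsingleton Q
        have h5 := (card_normalizer_dvd (f := f.comp N.subtype) (hf.comp N.subtype_injective)
          (P := (Q : Subgroup K).map K.subtype)).2 (by
            rw [card_map_of_injective K.subtype_injective, hQ])
        have hle' : K ≤ normalizer (((Q : Subgroup K).map K.subtype : Subgroup N) : Set N) := by
          intro k hk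
          rw [mem_normalizer_iff]
          intro x
          constructor
          · rintro ⟨q, hq, rfl⟩
            exact ⟨⟨k, hk⟩ * q * ⟨k, hk⟩⁻¹, hQn.conj_mem q hq _, rfl⟩
          · rintro ⟨q, hq, he⟩
            refine ⟨⟨k, hk⟩⁻¹ * q * ⟨k, hk⟩, by
              have := hQn.conj_mem q hq ⟨k, hk⟩⁻¹
              rwa [inv_inv] at this, ?_⟩
            change k⁻¹ * (q : N) * k = x
            change (q : N) = k * x * k⁻¹ at he
            rw [he]; group
        have := (card_dvd_of_le hle').trans h5
        rw [hK] at this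
        norm_num at this
      generalize (MulAction.stabilizer N a).index = i at hle h2 hd h8 ⊢
      interval_cases i <;> first | rfl | exact absurd rfl h8 | (revert h2 hd; decide)
    · refine Finset.mem_filter.2 ⟨Finset.mem_univ _, ?_⟩
      obtain ⟨m, rfl⟩ := hb
      refine ⟨m * n * m⁻¹, fun e => hn ?_⟩
      simp only [mul_smul, inv_smul_smul, smul_left_cancel_iff] at e
      exact e
  obtain ⟨a, ha⟩ : S.Nonempty := by
    by_contra hempty
    rw [Finset.not_nonempty_iff_eq_empty] at hempty
    obtain ⟨x, hx⟩ := exists_ne (1 : N)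
    refine hx (Subtype.ext (hFi (Perm.ext fun a => ?_)))
    by_contra hne
    have : a ∈ S := Finset.mem_filter.2 ⟨Finset.mem_univ _, x, fun e => hne (by
      rw [hsmul] at e; simpa using e)⟩
    rw [hempty] at this
    simp at this
  have hScard : S.card = 6 := by
    have hsub : ∀ a ∈ S, (MulAction.orbit N a).toFinset ⊆ S ∧
        (MulAction.orbit N a).toFinset.card = 6 := fun a ha =>
      ⟨fun b hb => (horb a ha).2 b (Set.mem_toFinset.1 hb), by
        rw [← Set.ncard_eq_toFinset_card', ← Nat.card_coe_set_eq]; exact (horb a ha).1⟩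
    obtain ⟨h1, h2⟩ := hsub a ha
    refine le_antisymm ?_ (h2 ▸ Finset.card_le_card h1)
    by_contra hgt
    obtain ⟨b, hb, hbn⟩ := Finset.exists_mem_notMem_of_card_lt_card
      (show (MulAction.orbit N a).toFinset.card < S.card by omega)
    obtain ⟨h3, h4⟩ := hsub b hb
    have hdis : Disjoint (MulAction.orbit N a).toFinset (MulAction.orbit N b).toFinset := by
      rw [Finset.disjoint_left]
      intro c hca hcb
      apply hbn
      rw [Set.mem_toFinset] at hca hcb ⊢
      rw [← MulAction.orbit_eq_iff.2 hca, MulAction.orbit_eq_iff.2 hcb]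
      exact MulAction.mem_orbit_self b
    have h5 := Finset.card_le_univ ((MulAction.orbit N a).toFinset ∪ (MulAction.orbit N b).toFinset)
    rw [Finset.card_union_of_disjoint hdis, h2, h4, Fintype.card_fin] at h5
    omega
  have hinv : ∀ (h : H) (a : Fin 8), a ∈ S → F h a ∈ S := by
    intro h a ha
    obtain ⟨n, hn⟩ := (Finset.mem_filter.1 ha).2
    refine Finset.mem_filter.2 ⟨Finset.mem_univ _, ⟨_, hN.conj_mem n n.2 h⟩, fun e => hn ?_⟩
    rw [hsmul] at e ⊢
    simp only [map_mul, map_inv, Perm.mul_apply, Perm.coe_inv, Equiv.symm_apply_apply] at e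
    exact (F h).injective e
  let ψ : H →* Perm S :=
    { toFun := fun h => (F h).subtypePerm fun a => ⟨fun ha => by
          have := hinv h⁻¹ _ ha
          simpa using this, hinv h a⟩
      map_one' := by ext a; simp
      map_mul' := fun g h => by ext a; simp; rfl }
  have hψ : Function.Injective ψ := by
    refine (injective_iff_map_eq_one ψ).2 fun h hh => hFi ?_
    rw [map_one]
    have hsupp : (F h).support ⊆ Sᶜ := fun a ha => by
      rw [Finset.mem_compl]
      intro haS
      exact mem_support.1 ha (congrArg Subtype.val (Perm.ext_iff.1 hh ⟨a, haS⟩))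
    have hle := Finset.card_le_card hsupp
    rw [Finset.card_compl, hScard, Fintype.card_fin] at hle
    have hsign : sign (F h) = 1 := mem_alternatingGroup.1 (f h).2
    rcases Nat.lt_or_ge (F h).support.card 2 with hlt | hge
    · exact card_support_le_one.1 (by omega)
    · obtain ⟨x, y, hxy, he⟩ := card_support_eq_two.1 (by omega : (F h).support.card = 2)
      rw [he, sign_swap hxy] at hsign
      exact absurd hsign (by decide)
  have hbij : Function.Bijective ψ := by
    refine (Nat.bijective_iff_injective_and_card ψ).2 ⟨hψ, ?_⟩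
    rw [hH, Nat.card_perm, Nat.card_eq_fintype_card, Fintype.card_coe, hScard]
    norm_num [Nat.factorial]
  exact ⟨(MulEquiv.ofBijective ψ hbij).trans (S.equivFinOfCardEq hScard).permCongrHom⟩

/-- A group with a normal simple subgroup of order 60, trivial centralizer. -/
theorem order_60_case (N : Subgroup H) [hN : N.Normal] [IsSimpleGroup N] (hN60 : Nat.card N = 60)
    (hC : centralizer (N : Set H) = ⊥) :
    Nat.card H ∣ 120 ∧ (Nat.card H = 120 → Nonempty (H ≃* Perm (Fin 5))) := by
  obtain ⟨e⟩ := S0494.result (G := N) hN60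
  have hbij := S2119.result 5 (by norm_num) (by norm_num)
  set a : H →* MulAut N := MulAut.conjNormal with ha
  have hinj : Function.Injective a := by
    refine (injective_iff_map_eq_one a).2 fun h hh => ?_
    have : h ∈ centralizer (N : Set H) := mem_centralizer_iff.2 fun n hn => by
      have := congrArg (fun φ : MulAut N => ((φ ⟨n, hn⟩ : N) : H)) hh
      rw [ha, MulAut.conjNormal_apply] at this
      calc n * h = (h * n * h⁻¹) * h := by rw [show h * n * h⁻¹ = n from this]
        _ = h * n := by group
    rw [hC] at this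
    exact mem_bot.1 this
  let σ : MulAut N ≃* Perm (Fin 5) := (MulAut.congr e).trans (MulEquiv.ofBijective _ hbij).symm
  let g : H →* Perm (Fin 5) := σ.toMonoidHom.comp a
  have hg : Function.Injective g := σ.injective.comp hinj
  have hc : Nat.card (Perm (Fin 5)) = 120 := by
    rw [Nat.card_perm, Nat.card_fin]; norm_num [Nat.factorial]
  exact ⟨hc ▸ card_dvd_of_injective g hg, fun h =>
    ⟨MulEquiv.ofBijective g ((Nat.bijective_iff_injective_and_card g).2 ⟨hg, by rw [h, hc]⟩)⟩⟩

/-- The classification, with the linear group left as a condition on the order. -/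
theorem main [Nontrivial H] {f : H →* alternatingGroup (Fin 8)} (hf : Function.Injective f)
    (hO : Cfsg.pPrimeCore 2 H = ⊥) (hO2 : Cfsg.pCore 2 H = ⊥) :
    (∃ n : ℕ, 5 ≤ n ∧ n ≤ 8 ∧ Nonempty (H ≃* alternatingGroup (Fin n))) ∨
    Nonempty (H ≃* Perm (Fin 5)) ∨ Nonempty (H ≃* Perm (Fin 6)) ∨
    (IsSimpleGroup H ∧ Nat.card H = 168) := by
  classical
  have hc : Nat.card (alternatingGroup (Fin 8)) = 20160 := by
    rw [nat_card_alternatingGroup, Nat.card_fin]; norm_num [Nat.factorial]
  have hd : Nat.card H ∣ 20160 := hc ▸ card_dvd_of_injective f hf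
  obtain ⟨N, hN, -, hN0, hmin⟩ := Hall.exists_minimal_normal (⊤ : Subgroup H) top_ne_bot
  haveI := hN
  obtain ⟨hs, hna⟩ := isSimpleGroup_of_minimal hO hO2 hN0 hmin ((card_subgroup_dvd_card N).trans hd)
  haveI := hs
  have htop : Nat.card H ≤ Nat.card N → ∃ e : N ≃* H, True := fun h =>
    ⟨(MulEquiv.subgroupCongr (eq_top_of_card_eq N (le_antisymm (card_le_card_group N) h))).trans
      topEquiv, trivial⟩
  have hfN : Function.Injective (f.comp N.subtype) := hf.comp N.subtype_injective
  have hbnd : ∀ p b : ℕ, p.Prime → ¬ p * p ∣ 20160 → p ∣ Nat.card N →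
      (∀ P : Subgroup H, Nat.card P = p → Nat.card (normalizer (P : Set H)) ∣ b) →
      ∃ n, n % p = 1 ∧ 1 < n ∧ n * p ∣ Nat.card N ∧ Nat.card H ∣ n * b := by
    intro p b hp hpp hpN hb
    haveI := Fact.mk hp
    obtain ⟨m, hm⟩ := hpN
    have hnd : ¬ p ∣ m := fun h =>
      hpp ((hm ▸ mul_dvd_mul_left p h).trans ((card_subgroup_dvd_card N).trans hd))
    obtain ⟨hdn, hmod, h1, -⟩ := Basic.sylow_count (p := p) hna ⟨m, hm⟩ (a := 1) (m := m)
      (by rw [pow_one]; exact hm) hnd
    exact ⟨_, hmod, h1, by rw [hm, mul_comm]; exact mul_dvd_mul_left p hdn,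
      card_dvd_sylow N hd hpp ⟨m, hm⟩ rfl hb⟩
  have hHr : Nat.card f.range = Nat.card H := Nat.card_congr (MonoidHom.ofInjective hf).toEquiv.symm
  have hbig : f.range ≠ ⊤ → Nat.card H ≤ 2520 := fun hne => by
    have h8 := index_cases hne
    have := card_mul_index f.range
    rw [hHr, hc] at this
    nlinarith
  rcases simple_order hna hfN with h | h | h | h | h
  · -- order 60
    obtain ⟨n, hmod, h1, hn, hH⟩ := hbnd 5 60 (by norm_num) (by norm_num) (by rw [h]; norm_num)
      fun P hP => (card_normalizer_dvd hf).2 hP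
    rw [h] at hn
    have hn6 : n = 6 := by
      have hle := Nat.le_of_dvd (by norm_num) hn
      have : n ≤ 12 := by omega
      interval_cases n <;> revert hn hmod <;> decide
    subst hn6
    have hC : centralizer (N : Set H) = ⊥ := by
      by_contra hne
      have hdis : centralizer (N : Set H) ⊓ N = ⊥ :=
        ((hmin _ inferInstance inf_le_right).resolve_right fun e => hna ⟨⟨fun x y => Subtype.ext
          (mem_centralizer_iff.1 ((e.ge.trans inf_le_left) y.2) x x.2)⟩⟩)
      obtain ⟨M, hMn, hMC, hM0, -⟩ := Hall.exists_minimal_normal _ hne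
      haveI := hMn
      refine not_solvable hO hO2 hM0 (solvable_of_dvd_24 (Dvd.dvd.trans ?_ (by norm_num : 6 ∣ 24)))
      have hMN : M ⊓ N = ⊥ := le_bot_iff.1 (hdis ▸ inf_le_inf_right N hMC)
      have h1 := relIndex_mul_relIndex ⊥ N (M ⊔ N) bot_le le_sup_right
      rw [relIndex_bot_left, relIndex_bot_left, relIndex_sup_right, ← inf_relIndex_right, inf_comm,
        hMN, relIndex_bot_left, h] at h1
      have h360 : Nat.card ↥(M ⊔ N) ∣ 6 * 60 := (card_subgroup_dvd_card _).trans hH
      rw [← h1, mul_comm 6] at h360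
      exact Nat.dvd_of_mul_dvd_mul_left (by norm_num) h360
    obtain ⟨hdvd, hiso⟩ := order_60_case N h hC
    have hNd : 60 ∣ Nat.card H := h ▸ card_subgroup_dvd_card N
    have hle := Nat.le_of_dvd (by norm_num) hdvd
    have hge := Nat.le_of_dvd Nat.card_pos hNd
    rcases (show Nat.card H = 60 ∨ Nat.card H = 120 by omega) with hc' | hc'
    · obtain ⟨e, -⟩ := htop (by omega)
      obtain ⟨e'⟩ := S0494.result (G := N) h
      exact Or.inl ⟨5, le_rfl, by norm_num, ⟨e.symm.trans e'⟩⟩
    · exact Or.inr (Or.inl (hiso hc'))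
  · -- order 168
    obtain ⟨n, hmod, h1, hn, hH⟩ := hbnd 7 21 (by norm_num) (by norm_num) (by rw [h]; norm_num)
      fun P hP => (card_normalizer_dvd hf).1 hP
    rw [h] at hn
    have hn8 : n = 8 := by
      have hle := Nat.le_of_dvd (by norm_num) hn
      have : n ≤ 24 := by omega
      interval_cases n <;> revert hn hmod <;> decide
    subst hn8
    obtain ⟨e, -⟩ := htop (by rw [h]; exact Nat.le_of_dvd (by norm_num) hH)
    exact Or.inr (Or.inr (Or.inr ⟨e.isSimpleGroup_congr.1 hs, by rw [← Nat.card_congr e.toEquiv, h]⟩))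
  · -- order 360
    obtain ⟨n, hmod, h1, hn, hH⟩ := hbnd 5 60 (by norm_num) (by norm_num) (by rw [h]; norm_num)
      fun P hP => (card_normalizer_dvd hf).2 hP
    rw [h] at hn
    have hn' : n = 6 ∨ n = 36 := by
      have hle : n ≤ 72 := by
        have := Nat.le_of_dvd (by norm_num) hn
        omega
      interval_cases n <;> revert hn hmod <;> decide
    have hdd : Nat.card H ∣ 720 := by
      have h2160 : Nat.card H ∣ 2160 := hH.trans (by rcases hn' with rfl | rfl <;> norm_num)
      have := Nat.dvd_gcd h2160 hd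
      norm_num at this
      exact this
    have hNd : 360 ∣ Nat.card H := h ▸ card_subgroup_dvd_card N
    have hle := Nat.le_of_dvd (by norm_num) hdd
    have hge := Nat.le_of_dvd Nat.card_pos hNd
    rcases (show Nat.card H = 360 ∨ Nat.card H = 720 by omega) with hc' | hc'
    · obtain ⟨e, -⟩ := htop (by omega)
      obtain ⟨e'⟩ := S0497.result (G := N) h
      exact Or.inl ⟨6, by norm_num, by norm_num, ⟨e.symm.trans e'⟩⟩
    · exact Or.inr (Or.inr (Or.inl (order_720 hf N h hc')))
  · -- order 2520
    left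
    rcases eq_or_ne f.range ⊤ with ht | hne
    · refine ⟨8, by norm_num, le_rfl, ⟨(MonoidHom.ofInjective hf).trans
        ((MulEquiv.subgroupCongr ht).trans topEquiv)⟩⟩
    have hle := hbig hne
    have hge : Nat.card N ≤ Nat.card H := card_le_card_group N
    have hcard : Nat.card H = 2520 := by omega
    have hidx : f.range.index = 8 := by
      have := card_mul_index f.range
      rw [hHr, hc, hcard] at this
      omega
    obtain ⟨e⟩ := index_eight hidx
    exact ⟨7, by norm_num, by norm_num, ⟨(MonoidHom.ofInjective hf).trans e⟩⟩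
  · left
    have ht : f.range = ⊤ := eq_top_of_card_eq _ (by
      rw [hHr, hc]
      exact le_antisymm (Nat.le_of_dvd (by norm_num) hd) (h ▸ card_le_card_group N))
    exact ⟨8, by norm_num, le_rfl, ⟨(MonoidHom.ofInjective hf).trans
      ((MulEquiv.subgroupCongr ht).trans topEquiv)⟩⟩

end Cfsg.Agent.SmallSimple.AltEightSubgroups
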