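import Cfsg.Agent.Lib.SmallSimple.Order168Max

/-!
# Simple groups of order 168: the two classes of `S₄`
-/

set_option linter.style.haveILetI false
set_option linter.unusedSectionVars false

namespace Cfsg.Agent.SmallSimple.Order168

open Subgroup Orders

variable {G : Type*} [Group G] [Finite G] [IsSimpleGroup G] (h : Nat.card G = 168)

/-- The conjugate subgroup. -/
abbrev conjSub (g : G) (U : Subgroup G) : Subgroup G := U.map (MulAut.conj g).toMonoidHom

theorem conjSub_mul (a b : G) (U : Subgroup G) :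
    conjSub (a * b) U = conjSub a (conjSub b U) := by
  rw [conjSub, conjSub, conjSub, map_map, map_mul]
  rfl

theorem conjSub_one (U : Subgroup G) : conjSub (1 : G) U = U := by
  rw [conjSub, map_one]
  exact map_id U

theorem mem_normalizer_iff_conjSub {U : Subgroup G} {g : G} :
    g ∈ normalizer (U : Set G) ↔ conjSub g U = U := by
  rw [mem_normalizer_iff]
  constructor
  · intro hg
    ext x
    rw [conjSub, mem_map_equiv, MulAut.conj_symm_apply, hg]
    simp [mul_assoc]
  · intro e x
    conv_rhs => rw [← e, conjSub, mem_map_equiv, MulAut.conj_symm_apply]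
    simp [mul_assoc]

theorem klein_conjSub {U : Subgroup G} (hU : IsKleinFour ↥U) (g : G) :
    IsKleinFour ↥(conjSub g U) := by
  rw [klein_iff] at hU ⊢
  refine ⟨by rw [conjSub, card_map_of_injective (MulAut.conj g).injective, hU.1], ?_⟩
  rintro _ ⟨y, hy, rfl⟩
  rw [← map_mul, hU.2 y hy, map_one]

include h

theorem klein_subset_sylow [Fact (Nat.Prime 2)] {U : Subgroup G} (hU : IsKleinFour ↥U) {s : G}
    (hs : s ∈ U) (hs1 : s ≠ 1) :
    ∃ T : Sylow 2 G, (T : Subgroup G) = centralizer ({s} : Set G) ∧ U ≤ (T : Subgroup G) := by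
  have hsq := (klein_iff.1 hU).2
  have h2 : orderOf s = 2 := orderOf_eq_prime (by rw [pow_two]; exact hsq s hs) hs1
  have hc := (cent_involution h h2).1
  obtain ⟨T, hT⟩ := (IsPGroup.of_card (n := 3) (p := 2) (G := centralizer ({s} : Set G))
    (by rw [hc]; norm_num)).exists_le_sylow
  have hTe : centralizer ({s} : Set G) = T := eq_of_le_of_card_ge hT (by rw [hc, card_sylow2 h])
  refine ⟨T, hTe.symm, fun y hy => ?_⟩
  rw [← hTe, mem_centralizer_singleton_iff]
  exact congrArg Subtype.val (hU.isMulCommutative.is_comm.comm (⟨y, hy⟩ : U) ⟨s, hs⟩)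

theorem card_klein_le : Nat.card {U : Subgroup G // IsKleinFour ↥U} ≤ 14 := by
  classical
  haveI : Fact (Nat.Prime 2) := ⟨Nat.prime_two⟩
  set K := {U : Subgroup G // IsKleinFour ↥U}
  haveI := Fintype.ofFinite K
  haveI := Fintype.ofFinite (Sylow 2 G)
  have hex : ∀ p : Σ U : K, {s : (U.1 : Subgroup G) // s ≠ 1}, ∃ T : Sylow 2 G,
      (T : Subgroup G) = centralizer ({(p.2.1 : G)} : Set G) ∧ p.1.1 ≤ (T : Subgroup G) := fun p =>
    klein_subset_sylow h p.1.2 p.2.1.2 fun e => p.2.2 (Subtype.ext e)
  choose T hT hUT using hex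
  let F : (Σ U : K, {s : (U.1 : Subgroup G) // s ≠ 1}) →
      Σ T : Sylow 2 G, {U : Subgroup G // U ≤ (T : Subgroup G) ∧ IsKleinFour ↥U} :=
    fun p => ⟨T p, p.1.1, hUT p, p.1.2⟩
  have hF : Function.Injective F := by
    intro p q e
    have eT : T p = T q := congrArg Sigma.fst e
    have eU : p.1.1 = q.1.1 := congrArg (fun x : Σ T : Sylow 2 G,
      {U : Subgroup G // U ≤ (T : Subgroup G) ∧ IsKleinFour ↥U} => x.2.1) e
    have hs : (p.2.1 : G) = q.2.1 := by
      refine central_unique h (T p) (hUT p p.2.1.2) (fun e' => p.2.2 (Subtype.ext e'))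
        (eT ▸ hUT q q.2.1.2) (fun e' => q.2.2 (Subtype.ext e'))
        (fun t ht => ?_) (fun t ht => ?_)
      · rw [hT p] at ht; exact mem_centralizer_singleton_iff.1 ht
      · rw [eT, hT q] at ht; exact mem_centralizer_singleton_iff.1 ht
    obtain ⟨⟨U, hU⟩, ⟨⟨s, hs'⟩, hs1⟩⟩ := p
    obtain ⟨⟨U', hU'⟩, ⟨⟨s', hs''⟩, hs1'⟩⟩ := q
    simp only at eU hs
    subst eU hs
    rfl
  have hle := Nat.card_le_card_of_injective F hF
  rw [Nat.card_sigma, Nat.card_sigma] at hle
  have h1 : ∀ U : K, Nat.card {s : (U.1 : Subgroup G) // s ≠ 1} = 3 := fun U => by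
    haveI := Fintype.ofFinite U.1
    rw [Nat.card_eq_fintype_card, Fintype.card_subtype_compl, Fintype.card_subtype_eq,
      ← Nat.card_eq_fintype_card, U.2.card_four]
  have h2 : ∀ T : Sylow 2 G,
      Nat.card {U : Subgroup G // U ≤ (T : Subgroup G) ∧ IsKleinFour ↥U} ≤ 2 := fun T => by
    obtain ⟨A, B, -, -, -, -, -, -, -, hall⟩ := klein_in_sylow h T
    refine le_trans (Nat.card_le_card_of_injective
      (fun U : {U : Subgroup G // U ≤ (T : Subgroup G) ∧ IsKleinFour ↥U} => decide (U.1 = A)) ?_)
      (by simp)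
    intro U V e
    simp only [decide_eq_decide] at e
    refine Subtype.ext ?_
    rcases hall _ U.2.1 U.2.2 with a | a <;> rcases hall _ V.2.1 V.2.2 with b | b
    · rw [a, b]
    · rw [a, e.1 a]
    · rw [b, e.2 b]
    · rw [a, b]
  rw [Finset.sum_congr rfl fun U _ => h1 U, Finset.sum_const, smul_eq_mul, Finset.card_univ,
    ← Nat.card_eq_fintype_card] at hle
  have h3 := hle.trans (Finset.sum_le_sum fun T _ => h2 T)
  rw [Finset.sum_const, smul_eq_mul, Finset.card_univ, ← Nat.card_eq_fintype_card, n2 h] at h3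
  omega

theorem klein_le_normalizer [Fact (Nat.Prime 2)] {U : Subgroup G} (hU : IsKleinFour ↥U) :
    ∃ T : Sylow 2 G, U ≤ (T : Subgroup G) ∧ (T : Subgroup G) ≤ normalizer (U : Set G) := by
  haveI : Nontrivial U := Finite.one_lt_card_iff_nontrivial.1 (by rw [hU.card_four]; norm_num)
  obtain ⟨s, hs⟩ := exists_ne (1 : U)
  obtain ⟨T, -, hUT⟩ := klein_subset_sylow h hU s.2 fun e => hs (Subtype.ext e)
  obtain ⟨A, B, -, -, -, -, -, hiA, hiB, hall⟩ := klein_in_sylow h T
  haveI : (U.subgroupOf (T : Subgroup G)).Normal := normal_of_index_eq_two (by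
    rcases hall U hUT hU with rfl | rfl
    exacts [hiA, hiB])
  exact ⟨T, hUT, (normal_subgroupOf_iff_le_normalizer hUT).1 inferInstance⟩

omit h in
theorem conjSub_out_injective (U : Subgroup G) :
    Function.Injective (fun q : G ⧸ normalizer (U : Set G) => conjSub q.out U) := by
  intro q r e
  dsimp only at e
  have hm : q.out⁻¹ * r.out ∈ normalizer (U : Set G) := by
    rw [mem_normalizer_iff_conjSub, conjSub_mul, ← e, ← conjSub_mul, inv_mul_cancel, conjSub_one]
  have := QuotientGroup.eq.2 hm
  rwa [QuotientGroup.out_eq', QuotientGroup.out_eq'] at this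

theorem card_normalizer_klein {U : Subgroup G} (hU : IsKleinFour ↥U) :
    Nat.card (normalizer (U : Set G)) = 24 := by
  haveI : Fact (Nat.Prime 2) := ⟨Nat.prime_two⟩
  obtain ⟨T, -, hTN⟩ := klein_le_normalizer h hU
  set N := normalizer (U : Set G)
  have h8 : 8 ∣ Nat.card N := card_sylow2 h T ▸ card_dvd_of_le hTN
  have hidx : N.index ≤ 14 := by
    refine le_trans ?_ (card_klein_le h)
    rw [index]
    exact Nat.card_le_card_of_injective
      (fun q => (⟨conjSub q.out U, klein_conjSub hU _⟩ : {V : Subgroup G // IsKleinFour ↥V}))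
      fun q r e => conjSub_out_injective U (congrArg Subtype.val e)
  have hmul := card_mul_index N
  rw [h] at hmul
  have hne : N.index ≠ 1 := fun e => by
    have hn := normalizer_eq_top_iff.1 (index_eq_one.1 e)
    have hc := hU.card_four
    rcases hn.eq_bot_or_eq_top with e' | e' <;> rw [e'] at hc
    · rw [card_bot] at hc; norm_num at hc
    · rw [card_top, h] at hc; norm_num at hc
  obtain ⟨k, hk⟩ := h8
  rw [hk] at hmul ⊢
  have hk7 : k ≠ 7 := by
    rintro rfl
    haveI : Fact (Nat.Prime 7) := ⟨by norm_num⟩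
    obtain ⟨y, hy⟩ := exists_prime_orderOf_dvd_card' (G := N) 7 (by rw [hk]; norm_num)
    have hy' : orderOf (y : G) = 7 := by rw [Subgroup.orderOf_coe, hy]
    letI : MulAction (zpowers (y : G)) U :=
      { smul := fun c v => ⟨(c : G) * v * (c : G)⁻¹,
          (mem_normalizer_iff.1 ((zpowers_le.2 y.2 : zpowers (y : G) ≤ N) c.2) _).1 v.2⟩
        one_smul := fun v => Subtype.ext (by
          show ((1 : zpowers (y : G)) : G) * v * ((1 : zpowers (y : G)) : G)⁻¹ = v; simp)
        mul_smul := fun c d v => Subtype.ext (by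
          show ((c * d : zpowers (y : G)) : G) * v * ((c * d : zpowers (y : G)) : G)⁻¹ =
            (c : G) * ((d : G) * v * (d : G)⁻¹) * (c : G)⁻¹
          rw [coe_mul]; group) }
    have hp : IsPGroup 7 (zpowers (y : G)) :=
      IsPGroup.of_card (n := 1) (by rw [Nat.card_zpowers, hy', pow_one])
    have hmod := hp.card_modEq_card_fixedPoints U
    rw [hU.card_four] at hmod
    have hle : Nat.card (MulAction.fixedPoints (zpowers (y : G)) U) ≤ 4 :=
      hU.card_four ▸ Finite.card_subtype_le _
    have heq : Nat.card (MulAction.fixedPoints (zpowers (y : G)) U) = 4 := by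
      rw [Nat.ModEq] at hmod; omega
    haveI : Nontrivial U := Finite.one_lt_card_iff_nontrivial.1 (by rw [hU.card_four]; norm_num)
    obtain ⟨v, hv⟩ := exists_ne (1 : U)
    have huniv : MulAction.fixedPoints (zpowers (y : G)) U = Set.univ :=
      Set.eq_of_subset_of_ncard_le (Set.subset_univ _) (by
        rw [Set.ncard_univ, ← Nat.card_coe_set_eq, heq, hU.card_four]) (Set.toFinite _)
    have hfix := congrArg Subtype.val
      ((huniv.symm ▸ Set.mem_univ v : v ∈ MulAction.fixedPoints (zpowers (y : G)) U) ⟨y, mem_zpowers _⟩)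
    have hvy : (v : G) ∈ centralizer ({(y : G)} : Set G) :=
      mem_centralizer_singleton_iff.2 (mul_inv_eq_iff_eq_mul.1 hfix).symm
    have hd := Subgroup.orderOf_dvd_natCard _ hvy
    rw [(cent7 h hy').2, orderOf_eq_prime (by rw [pow_two]; exact (klein_iff.1 hU).2 v v.2)
      (fun e => hv (Subtype.ext e))] at hd
    norm_num at hd
  have hkle : k ≤ 21 := by
    have := card_subgroup_dvd_card N
    rw [hk, h] at this
    have := Nat.le_of_dvd (by norm_num) this
    omega
  interval_cases k <;> omega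

theorem iso_perm {M : Subgroup G} (hM : Nat.card M = 24) : Nonempty (↥M ≃* Equiv.Perm (Fin 4)) := by
  refine Cfsg.Agent.S1012.result hM fun g hg => ?_
  rw [← Subgroup.orderOf_coe] at hg
  rcases orderOf_cases h (g : G) with e | e | e | e | e <;> omega

theorem normalizer_iso {U : Subgroup G} (hU : IsKleinFour ↥U) :
    Nonempty (↥(normalizer (U : Set G)) ≃* Equiv.Perm (Fin 4)) :=
  iso_perm h (card_normalizer_klein h hU)

theorem card_klein_sylow [Fact (Nat.Prime 2)] (T : Sylow 2 G) :
    Nat.card {U : Subgroup G // U ≤ (T : Subgroup G) ∧ IsKleinFour ↥U} = 2 := by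
  classical
  obtain ⟨A, B, hne, hA, hB, hAK, hBK, -, -, hall⟩ := klein_in_sylow h T
  rw [Nat.card_eq_two_iff]
  refine ⟨⟨A, hA, hAK⟩, ⟨B, hB, hBK⟩, fun e => hne (congrArg Subtype.val e), ?_⟩
  rw [Set.eq_univ_iff_forall]
  intro V
  rcases hall V.1 V.2.1 V.2.2 with e | e
  · exact Or.inl (Subtype.ext e)
  · exact Or.inr (Subtype.ext e)

theorem two_classes : ∃ U W : Subgroup G, IsKleinFour ↥U ∧ IsKleinFour ↥W ∧
    (∀ g : G, conjSub g U ≠ W) ∧
    ∀ V : Subgroup G, IsKleinFour ↥V → ∃ g : G, V = conjSub g U ∨ V = conjSub g W := by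
  classical
  haveI : Fact (Nat.Prime 2) := ⟨Nat.prime_two⟩
  obtain ⟨U, W, hne, hU, hW, hUK, hWK, -, -, -⟩ := klein_in_sylow h (default : Sylow 2 G)
  have hnc := fun g => klein_not_conj h (default : Sylow 2 G) hU hW hUK hWK hne g
  refine ⟨U, W, hUK, hWK, hnc, fun V hV => ?_⟩
  let F : (G ⧸ normalizer (U : Set G)) ⊕ (G ⧸ normalizer (W : Set G)) →
      {V : Subgroup G // IsKleinFour ↥V} :=
    Sum.elim (fun q => ⟨conjSub q.out U, klein_conjSub hUK _⟩)
      (fun q => ⟨conjSub q.out W, klein_conjSub hWK _⟩)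
  have hF : Function.Injective F := by
    rintro (q | q) (r | r) e <;> have e' := congrArg Subtype.val e <;> simp only [F, Sum.elim_inl,
      Sum.elim_inr] at e'
    · exact congrArg Sum.inl (conjSub_out_injective U e')
    · exfalso
      refine hnc (r.out⁻¹ * q.out) ?_
      show conjSub (r.out⁻¹ * q.out) U = W
      rw [conjSub_mul, e', ← conjSub_mul, inv_mul_cancel, conjSub_one]
    · exfalso
      refine hnc (q.out⁻¹ * r.out) ?_
      show conjSub (q.out⁻¹ * r.out) U = W
      rw [conjSub_mul, ← e', ← conjSub_mul, inv_mul_cancel, conjSub_one]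
    · exact congrArg Sum.inr (conjSub_out_injective W e')
  have hidx : ∀ X : Subgroup G, IsKleinFour ↥X → Nat.card (G ⧸ normalizer (X : Set G)) = 7 :=
    fun X hX => by
      have := card_mul_index (normalizer (X : Set G))
      rw [card_normalizer_klein h hX, h, index] at this
      omega
  have hsur : Function.Surjective F := by
    refine ((Nat.bijective_iff_injective_and_card F).2 ⟨hF, le_antisymm
      (Nat.card_le_card_of_injective F hF) ?_⟩).2
    rw [Nat.card_sum, hidx U hUK, hidx W hWK]
    exact card_klein_le h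
  obtain ⟨q | q, e⟩ := hsur ⟨V, hV⟩
  · exact ⟨q.out, Or.inl (congrArg Subtype.val e).symm⟩
  · exact ⟨q.out, Or.inr (congrArg Subtype.val e).symm⟩

theorem klein_of_card_four {M V : Subgroup G} (hVM : M ≤ normalizer (V : Set G))
    (hV : Nat.card V = 4) (h3 : 3 ∣ Nat.card M) : IsKleinFour ↥V := by
  haveI : Fact (Nat.Prime 3) := ⟨Nat.prime_three⟩
  obtain ⟨y, hy⟩ := exists_prime_orderOf_dvd_card' (G := M) 3 h3
  have hy' : orderOf (y : G) = 3 := by rw [Subgroup.orderOf_coe, hy]
  rw [klein_iff]
  refine ⟨hV, fun x hx => ?_⟩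
  by_contra hxx
  have hd := Subgroup.orderOf_dvd_natCard _ hx
  rw [hV] at hd
  have hx4 : orderOf x = 4 := by
    rcases orderOf_cases h x with e | e | e | e | e
    · exact absurd (by rw [orderOf_eq_one_iff.1 e, one_mul]) hxx
    · exact absurd (by rw [← pow_two, ← e, pow_orderOf_eq_one]) hxx
    · rw [e] at hd; norm_num at hd
    · exact e
    · rw [e] at hd; norm_num at hd
  have hVx : zpowers x = V :=
    eq_of_le_of_card_ge (zpowers_le.2 hx) (by rw [Nat.card_zpowers, hx4, hV])
  have hm : (y : G) * x * (y : G)⁻¹ ∈ zpowers x := by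
    rw [hVx]; exact (mem_normalizer_iff.1 (hVM y.2) _).1 hx
  have hyy : (y : G) ^ 3 = 1 := by rw [← hy', pow_orderOf_eq_one]
  have hc : (y : G) * x * (y : G)⁻¹ = x := by
    rcases sq_eq_of_conj_mem h hx4 hm with e | e
    · exact e
    · exfalso
      have e2 : (y : G) * x⁻¹ * (y : G)⁻¹ = x := by
        have := congrArg (·⁻¹) e
        simpa [mul_assoc] using this
      have e3 : (y : G) ^ 3 * x * ((y : G) ^ 3)⁻¹ = x⁻¹ := by
        calc (y : G) ^ 3 * x * ((y : G) ^ 3)⁻¹
            = (y : G) * ((y : G) * ((y : G) * x * (y : G)⁻¹) * (y : G)⁻¹) * (y : G)⁻¹ := by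
              rw [pow_succ, pow_two]; group
          _ = x⁻¹ := by rw [e, e2, e]
      rw [hyy, one_mul, inv_one, mul_one] at e3
      exact hxx (mul_eq_one_iff_eq_inv.2 e3)
  have hxc : x ∈ centralizer ({(y : G)} : Set G) :=
    mem_centralizer_singleton_iff.2 (mul_inv_eq_iff_eq_mul.1 hc).symm
  have h' := Subgroup.orderOf_dvd_natCard _ hxc
  rw [(cent3 h hy').2, hx4] at h'
  norm_num at h'

theorem normalizer3_le [Fact (Nat.Prime 3)] (P : Sylow 3 G) :
    ∃ U : Subgroup G, IsKleinFour ↥U ∧
      normalizer ((P : Subgroup G) : Set G) ≤ normalizer (U : Set G) := by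
  haveI : Fact (Nat.Prime 2) := ⟨Nat.prime_two⟩
  obtain ⟨U, -, -, -, -, hUK, -, -, -, -⟩ := klein_in_sylow h (default : Sylow 2 G)
  set N := normalizer (U : Set G) with hN
  have hcN := card_normalizer_klein h hUK
  obtain S : Sylow 3 N := default
  have hS : Nat.card (S : Subgroup N) = 3 := by
    simpa using Basic.card_sylow_eq_pow (a := 1) (m := 8) (by rw [hcN]; norm_num) (by norm_num) S
  set S' := (S : Subgroup N).map N.subtype with hS'
  have hS'c : Nat.card S' = 3 := by rw [hS', card_map_of_injective N.subtype_injective, hS]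
  obtain ⟨P₀, hP₀⟩ := (IsPGroup.of_card (n := 1) (p := 3) (G := S') (by rw [hS'c, pow_one])).exists_le_sylow
  have hP₀' : S' = P₀ := eq_of_le_of_card_ge hP₀ (by rw [card_sylow3 h, hS'c])
  have hle : normalizer ((P₀ : Subgroup G) : Set G) ≤ N := by
    rw [← hP₀']
    set I := (normalizer ((S : Subgroup N) : Set N)).map N.subtype with hI
    have hIle : I ≤ normalizer (S' : Set G) := le_normalizer_map N.subtype
    have hn : Nat.card (normalizer (S' : Set G)) = 6 := by rw [hP₀']; exact normalizer3 h P₀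
    have hdvd : Nat.card (Sylow 3 N) ∣ 8 := by
      have h1 := S.card_dvd_index
      have h2 := card_mul_index (S : Subgroup N)
      rw [hS, hcN] at h2
      rwa [show (S : Subgroup N).index = 8 by omega] at h1
    have hmul := Basic.card_normalizer_mul S
    rw [hcN] at hmul
    have hmod : Nat.card (Sylow 3 N) % 3 = 1 := card_sylow_modEq_one 3 N
    have hIc : Nat.card I = Nat.card (normalizer ((S : Subgroup N) : Set N)) :=
      card_map_of_injective N.subtype_injective
    have hId := card_dvd_of_le hIle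
    rw [hn, hIc] at hId
    have hle8 := Nat.le_of_dvd (by norm_num) hdvd
    have hle6 := Nat.le_of_dvd (by norm_num) hId
    have hI6 : Nat.card I = 6 := by
      rw [hIc]
      interval_cases hq : Nat.card (Sylow 3 N) <;> omega
    rw [← eq_of_le_of_card_ge hIle (by rw [hn, hI6])]
    exact map_subtype_le _
  obtain ⟨g, rfl⟩ := MulAction.exists_smul_eq G P₀ P
  refine ⟨conjSub g U, klein_conjSub hUK g, ?_⟩
  rw [conjSub, ← map_equiv_normalizer_eq U (MulAut.conj g), Sylow.coe_subgroup_smul]
  show normalizer (((P₀ : Subgroup G).map (MulAut.conj g).toMonoidHom : Subgroup G) : Set G) ≤ _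
  rw [← map_equiv_normalizer_eq (P₀ : Subgroup G) (MulAut.conj g)]
  exact map_mono hle

/-- A subgroup of order dividing 24 normalises a four-group. -/
theorem exists_klein_le [Fact (Nat.Prime 2)] [Fact (Nat.Prime 3)] {M : Subgroup G}
    (hM : Nat.card M ∣ 24) :
    ∃ U : Subgroup G, IsKleinFour ↥U ∧ M ≤ normalizer (U : Set G) := by
  classical
  by_cases h3 : 3 ∣ Nat.card M
  swap
  · have h8 : Nat.card M ∣ 2 ^ 3 :=
      ((Nat.prime_three.coprime_iff_not_dvd).2 h3).symm.dvd_of_dvd_mul_left
        (show Nat.card M ∣ 3 * 2 ^ 3 by simpa using hM)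
    obtain ⟨k, -, hk⟩ := (Nat.dvd_prime_pow Nat.prime_two).1 h8
    obtain ⟨T, hT⟩ := (IsPGroup.of_card (n := k) (p := 2) (G := M) hk).exists_le_sylow
    obtain ⟨U, -, -, hU, -, hUK, -, hi, -, -⟩ := klein_in_sylow h T
    haveI : (U.subgroupOf (T : Subgroup G)).Normal := normal_of_index_eq_two hi
    exact ⟨U, hUK, hT.trans ((normal_subgroupOf_iff_le_normalizer hU).1 inferInstance)⟩
  obtain S : Sylow 3 M := default
  have hd9 : ¬ 3 ^ 2 ∣ Nat.card M := fun e => by have := e.trans hM; norm_num at this
  have hScard : Nat.card (S : Subgroup M) = 3 := by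
    obtain ⟨k, hk⟩ := IsPGroup.iff_card.1 S.2
    have h1 : 3 ∣ Nat.card (S : Subgroup M) := S.dvd_card_of_dvd_card h3
    rcases k with _ | _ | k
    · rw [hk, pow_zero] at h1; norm_num at h1
    · simpa using hk
    · refine absurd ?_ hd9
      exact (pow_dvd_pow 3 (show 2 ≤ k + 1 + 1 by omega)).trans (hk ▸ card_subgroup_dvd_card _)
  set S' := (S : Subgroup M).map M.subtype with hS'
  have hS'c : Nat.card S' = 3 := by rw [hS', card_map_of_injective M.subtype_injective, hScard]
  by_cases hone : Nat.card (Sylow 3 M) = 1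
  · haveI : Subsingleton (Sylow 3 M) := Finite.card_le_one_iff_subsingleton.1 hone.le
    haveI : (S : Subgroup M).Normal := Sylow.normal_of_subsingleton S
    obtain ⟨P, hP⟩ := (IsPGroup.of_card (n := 1) (p := 3) (G := S') (by rw [hS'c, pow_one])).exists_le_sylow
    have hPe : S' = P := eq_of_le_of_card_ge hP (by rw [card_sylow3 h, hS'c])
    obtain ⟨U, hU, hle⟩ := normalizer3_le h P
    refine ⟨U, hU, le_trans ?_ hle⟩
    rw [← hPe, hS']
    refine le_trans ?_ (le_normalizer_map M.subtype)
    rw [normalizer_eq_top_iff.2 inferInstance, ← MonoidHom.range_eq_map, range_subtype]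
  -- four Sylow 3-subgroups
  have hdvd : Nat.card (Sylow 3 M) ∣ 8 := by
    have h1 := S.card_dvd_index
    have h2 := card_mul_index (S : Subgroup M)
    rw [hScard] at h2
    refine h1.trans ?_
    have : 3 * (S : Subgroup M).index ∣ 3 * 8 := by rw [h2]; simpa using hM
    exact Nat.dvd_of_mul_dvd_mul_left (by norm_num) this
  have hmod : Nat.card (Sylow 3 M) % 3 = 1 := card_sylow_modEq_one 3 M
  have hle8 := Nat.le_of_dvd (by norm_num) hdvd
  have hn4 : Nat.card (Sylow 3 M) = 4 := by
    revert hmod hdvd hone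
    interval_cases hq : Nat.card (Sylow 3 M) <;> norm_num
  have hM12 : Nat.card M = 12 ∨ Nat.card M = 24 := by
    have h1 := Basic.card_normalizer_mul S
    rw [hn4] at h1
    have h4 : 4 ∣ Nat.card M := ⟨_, by rw [mul_comm]; exact h1.symm⟩
    have h12 : 12 ∣ Nat.card M := Nat.Coprime.mul_dvd_of_dvd_of_dvd (by norm_num : Nat.Coprime 3 4) h3 h4
    have := Nat.le_of_dvd (by norm_num) hM
    have := Nat.card_pos (α := M)
    omega
  suffices ∃ V : Subgroup M, V.Normal ∧ Nat.card V = 4 by
    obtain ⟨V, hVn, hV⟩ := this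
    have hle : M ≤ normalizer ((V.map M.subtype : Subgroup G) : Set G) := by
      refine le_trans ?_ (le_normalizer_map M.subtype)
      rw [normalizer_eq_top_iff.2 hVn, ← MonoidHom.range_eq_map, range_subtype]
    exact ⟨_, klein_of_card_four h hle (by rw [card_map_of_injective M.subtype_injective, hV]) h3, hle⟩
  obtain T : Sylow 2 M := default
  rcases hM12 with h12 | h24
  · -- the elements of order three leave room for one Sylow 2-subgroup
    have hTc : ∀ T : Sylow 2 M, Nat.card (T : Subgroup M) = 4 := fun T => by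
      simpa using Basic.card_sylow_eq_pow (a := 2) (m := 3) (by rw [h12]; norm_num) (by norm_num) T
    refine ⟨T, ?_, hTc T⟩
    haveI := Fintype.ofFinite M
    have hS3 : ∀ S : Sylow 3 M, Nat.card (S : Subgroup M) = 3 := fun S => by
      simpa using Basic.card_sylow_eq_pow (a := 1) (m := 4) (by rw [h12]; norm_num) (by norm_num) S
    have h8 := card_orderOf_eq hS3
    rw [hn4] at h8
    have hsub : ∀ T' : Sylow 2 M, ((T' : Subgroup M) : Set M) = {x | orderOf x ≠ 3} := by
      intro T'
      refine Set.eq_of_subset_of_ncard_le (fun x hx e => ?_) ?_ (Set.toFinite _)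
      · have := Subgroup.orderOf_dvd_natCard _ hx
        rw [e, hTc] at this; norm_num at this
      · rw [← Nat.card_coe_set_eq, ← Nat.card_coe_set_eq,
          show Nat.card ((T' : Subgroup M) : Set M) = 4 from hTc T']
        show Nat.card {x : M // orderOf x ≠ 3} ≤ 4
        rw [Nat.card_eq_fintype_card, Fintype.card_subtype_compl, ← Nat.card_eq_fintype_card,
          ← Nat.card_eq_fintype_card, h8, h12]
    haveI : Subsingleton (Sylow 2 M) :=
      ⟨fun A B => Sylow.ext (SetLike.coe_injective ((hsub A).trans (hsub B).symm))⟩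
    exact Sylow.normal_of_subsingleton T
  · have hTc : ∀ T : Sylow 2 M, Nat.card (T : Subgroup M) = 8 := fun T => by
      simpa using Basic.card_sylow_eq_pow (a := 3) (m := 3) (by rw [h24]; norm_num) (by norm_num) T
    let φ := MulAction.toPermHom M (Sylow 2 M)
    have hd : Nat.card (Sylow 2 M) ∣ 3 := by
      have h1 := T.card_dvd_index
      have h2 := card_mul_index (T : Subgroup M)
      rw [hTc, h24] at h2
      rwa [show (T : Subgroup M).index = 3 by omega] at h1
    have hn3 : Nat.card (Sylow 2 M) = 3 := by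
      refine ((Nat.dvd_prime Nat.prime_three).1 hd).resolve_left fun e => ?_
      have hN : Nat.card (normalizer ((T : Subgroup M) : Set M)) = 24 := by
        have := Basic.card_normalizer_mul T
        rwa [e, mul_one, h24] at this
      set T' := (T : Subgroup M).map M.subtype
      have hT'c : Nat.card T' = 8 := by rw [card_map_of_injective M.subtype_injective, hTc]
      obtain ⟨P, hP⟩ := (IsPGroup.of_card (n := 3) (p := 2) (G := T') (by rw [hT'c]; norm_num)).exists_le_sylow
      have hPe : T' = P := eq_of_le_of_card_ge hP (by rw [card_sylow2 h, hT'c])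
      have := card_dvd_of_le ((le_normalizer_map M.subtype :
        (normalizer ((T : Subgroup M) : Set M)).map M.subtype ≤ normalizer (T' : Set G)))
      rw [card_map_of_injective M.subtype_injective, hN,
        show (T : Subgroup M).map M.subtype = (P : Subgroup G) from hPe, normalizer2 h P,
        card_sylow2 h] at this
      norm_num at this
    have hker : φ.ker ≤ normalizer ((T : Subgroup M) : Set M) := fun x hx => by
      refine Sylow.smul_eq_iff_mem_normalizer.1 ?_
      exact DFunLike.congr_fun (MonoidHom.mem_ker.1 hx : φ x = 1) T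
    have hNc : Nat.card (normalizer ((T : Subgroup M) : Set M)) = 8 := by
      have := Basic.card_normalizer_mul T
      rw [hn3, h24] at this
      omega
    have hk8 : Nat.card φ.ker ∣ 8 := hNc ▸ card_dvd_of_le hker
    have hr : Nat.card φ.range ∣ 6 := by
      refine (card_subgroup_dvd_card φ.range).trans ?_
      rw [Nat.card_perm, hn3]; rfl
    have hmul := card_mul_index φ.ker
    rw [index_ker, h24] at hmul
    refine ⟨φ.ker, inferInstance, ?_⟩
    have hne : Nat.card φ.ker ≠ 8 := by
      intro e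
      have hkT : φ.ker = (T : Subgroup M) := by
        rw [eq_of_le_of_card_ge hker (by rw [e, hNc])]
        exact (eq_of_le_of_card_ge le_normalizer (by rw [hTc, hNc])).symm
      haveI : (T : Subgroup M).Normal := hkT ▸ inferInstance
      haveI := Sylow.unique_of_normal T inferInstance
      rw [Nat.card_unique] at hn3
      norm_num at hn3
    have := Nat.le_of_dvd (by norm_num) hk8
    have := Nat.le_of_dvd (by norm_num) hr
    interval_cases hq : Nat.card φ.ker <;> omega

/-- The maximal subgroups. -/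
theorem coatom_cases {M : Subgroup G} (hM : IsCoatom M) :
    (∃ U : Subgroup G, IsKleinFour ↥U ∧ M = normalizer (U : Set G)) ∨
      ∃ P : Sylow 7 G, M = normalizer ((P : Subgroup G) : Set G) := by
  classical
  haveI : Fact (Nat.Prime 2) := ⟨Nat.prime_two⟩
  haveI : Fact (Nat.Prime 3) := ⟨Nat.prime_three⟩
  haveI : Fact (Nat.Prime 7) := ⟨by norm_num⟩
  have hd : Nat.card M ∣ 7 * 24 := by simpa [h] using card_subgroup_dvd_card M
  by_cases h7 : 7 ∣ Nat.card M
  · right
    obtain ⟨y, hy⟩ := exists_prime_orderOf_dvd_card' (G := M) 7 h7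
    have hy' : orderOf (y : G) = 7 := by rw [Subgroup.orderOf_coe, hy]
    obtain ⟨P, hP⟩ := (IsPGroup.of_card (n := 1) (p := 7) (G := zpowers (y : G))
      (by rw [Nat.card_zpowers, hy', pow_one])).exists_le_sylow
    have hPy : zpowers (y : G) = P :=
      eq_of_le_of_card_ge hP (by rw [card_sylow7 h, Nat.card_zpowers, hy'])
    have hPM : (P : Subgroup G) ≤ M := hPy ▸ zpowers_le.2 y.2
    -- fewer than eight Sylow 7-subgroups in `M`
    have hle : M ≤ normalizer ((P : Subgroup G) : Set G) := by
      intro m hm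
      by_contra hmN
      let Q := P.subtype hPM
      have hQ : Nat.card (Q : Subgroup M) = 7 := by
        rw [Sylow.coe_subtype, Nat.card_congr (subgroupOfEquivOfLe hPM).toEquiv, card_sylow7 h]
      have hd' : Nat.card (Sylow 7 M) ∣ 24 := by
        have h1 := Q.card_dvd_index
        have h2 := card_mul_index (Q : Subgroup M)
        rw [hQ] at h2
        refine h1.trans (Nat.dvd_of_mul_dvd_mul_left (show 0 < 7 by norm_num) ?_)
        rw [h2]; exact hd
      have hmod : Nat.card (Sylow 7 M) % 7 = 1 := card_sylow_modEq_one 7 M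
      let f : Sylow 7 M → Sylow 7 G := fun S => Sylow.ofCard ((S : Subgroup M).map M.subtype) (by
        rw [card_map_of_injective M.subtype_injective,
          Nat.card_congr (S.equiv Q).toEquiv, hQ, ← P.card_eq_multiplicity, card_sylow7 h])
      have hf : Function.Injective f := fun S S' e => Sylow.ext
        (map_injective M.subtype_injective (congrArg Sylow.toSubgroup e))
      have hne1 : Nat.card (Sylow 7 M) ≠ 1 := fun e => by
        haveI : Subsingleton (Sylow 7 M) := Finite.card_le_one_iff_subsingleton.1 e.le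
        have := Sylow.smul_eq_iff_mem_normalizer.1 (Subsingleton.elim ((⟨m, hm⟩ : M) • Q) Q)
        have h2 := le_normalizer_map M.subtype ⟨_, this, rfl⟩
        rw [Sylow.coe_subtype, subgroupOf_map_subtype, inf_of_le_left hPM] at h2
        exact hmN h2
      have hn8 : Nat.card (Sylow 7 M) = 8 := by
        have h1 := Nat.card_le_card_of_injective f hf
        rw [n7 h] at h1
        revert hd' hmod hne1
        interval_cases hq : Nat.card (Sylow 7 M) <;> norm_num
      have hbij := (Nat.bijective_iff_injective_and_card f).2 ⟨hf, by rw [hn8, n7 h]⟩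
      have hcore : (P : Subgroup G) ≤ M.normalCore := fun z hz b => by
        obtain ⟨S, hS⟩ := hbij.2 (b • P)
        have : b * z * b⁻¹ ∈ ((b • P : Sylow 7 G) : Subgroup G) := by
          rw [Sylow.coe_subgroup_smul]; exact ⟨z, hz, rfl⟩
        rw [← hS] at this
        exact map_subtype_le _ this
      rcases (normalCore_normal M).eq_bot_or_eq_top with e | e
      · have := card_dvd_of_le (e ▸ hcore)
        rw [card_sylow7 h, card_bot] at this
        norm_num at this
      · exact hM.1 (top_le_iff.1 (e ▸ normalCore_le M))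
    refine ⟨P, ?_⟩
    rcases hM.le_iff.1 hle with e | e
    · exact absurd e (Basic.normalizer_ne_top (nonab h) (by rw [h]; norm_num) P)
    · exact e.symm
  · left
    have h24 : Nat.card M ∣ 24 :=
      (((by norm_num : Nat.Prime 7).coprime_iff_not_dvd).2 h7).symm.dvd_of_dvd_mul_left hd
    obtain ⟨U, hU, hle⟩ := exists_klein_le h h24
    refine ⟨U, hU, ?_⟩
    rcases hM.le_iff.1 hle with e | e
    · exfalso
      have := card_normalizer_klein h hU
      rw [e, card_top, h] at this
      norm_num at this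
    · exact e.symm

theorem coatom_normalizer_klein {U : Subgroup G} (hU : IsKleinFour ↥U) :
    IsCoatom (normalizer (U : Set G)) := by
  have hc := card_normalizer_klein h hU
  refine ⟨fun e => by rw [e, card_top, h] at hc; norm_num at hc, fun M hlt => ?_⟩
  have h1 := card_dvd_of_le hlt.le
  have h2 := card_subgroup_dvd_card M
  rw [hc] at h1
  rw [h] at h2
  obtain ⟨k, hk⟩ := h1
  have hk7 : k ∣ 7 := Nat.dvd_of_mul_dvd_mul_left (show 0 < 24 by norm_num) (hk ▸ h2)
  rcases (Nat.dvd_prime (by norm_num)).1 hk7 with rfl | rfl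
  · exact absurd (eq_of_le_of_card_ge hlt.le (by rw [hc, hk])) hlt.ne
  · exact eq_top_of_card_eq M (by rw [hk, h])

theorem maximal_classification :
    (∀ M : Subgroup G, IsCoatom M → Nonempty (↥M ≃* Equiv.Perm (Fin 4)) ∨
        (Nat.card ↥M = 21 ∧ ¬ IsMulCommutative ↥M)) ∧
    (∀ M M' : Subgroup G, IsCoatom M → IsCoatom M' → Nat.card ↥M = 21 → Nat.card ↥M' = 21 →
      ∃ g : G, M' = M.map (MulAut.conj g).toMonoidHom) ∧
    ∃ M₁ M₂ : Subgroup G, IsCoatom M₁ ∧ IsCoatom M₂ ∧ Nonempty (↥M₁ ≃* Equiv.Perm (Fin 4)) ∧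
      Nonempty (↥M₂ ≃* Equiv.Perm (Fin 4)) ∧
      (∀ g : G, M₂ ≠ M₁.map (MulAut.conj g).toMonoidHom) ∧
      ∀ M : Subgroup G, IsCoatom M → Nonempty (↥M ≃* Equiv.Perm (Fin 4)) →
        ∃ g : G, M = M₁.map (MulAut.conj g).toMonoidHom ∨ M = M₂.map (MulAut.conj g).toMonoidHom := by
  classical
  haveI : Fact (Nat.Prime 2) := ⟨Nat.prime_two⟩
  haveI : Fact (Nat.Prime 7) := ⟨by norm_num⟩
  have hc7 : ∀ P : Sylow 7 G, Nat.card (normalizer ((P : Subgroup G) : Set G)) = 21 := fun P => by
    rw [normalizer7 h]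
  refine ⟨fun M hM => ?_, fun M M' hM hM' hc hc' => ?_, ?_⟩
  · rcases coatom_cases h hM with ⟨U, hU, rfl⟩ | ⟨P, rfl⟩
    · exact Or.inl (normalizer_iso h hU)
    · refine Or.inr ⟨hc7 P, fun hcomm => ?_⟩
      haveI : Fact (Nat.Prime 3) := ⟨Nat.prime_three⟩
      obtain ⟨a, ha⟩ := exists_prime_orderOf_dvd_card' (G := normalizer ((P : Subgroup G) : Set G)) 3
        (by rw [hc7]; norm_num)
      obtain ⟨b, hb⟩ := exists_prime_orderOf_dvd_card' (G := normalizer ((P : Subgroup G) : Set G)) 7
        (by rw [hc7]; norm_num)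
      rw [← Subgroup.orderOf_coe] at ha hb
      have hba : (b : G) ∈ centralizer ({(a : G)} : Set G) := mem_centralizer_singleton_iff.2
        (congrArg Subtype.val (hcomm.is_comm.comm b a))
      have := Subgroup.orderOf_dvd_natCard _ hba
      rw [(cent3 h ha).2, hb] at this
      norm_num at this
  · rcases coatom_cases h hM with ⟨U, hU, rfl⟩ | ⟨P, rfl⟩
    · rw [card_normalizer_klein h hU] at hc; norm_num at hc
    rcases coatom_cases h hM' with ⟨U, hU, rfl⟩ | ⟨Q, rfl⟩
    · rw [card_normalizer_klein h hU] at hc'; norm_num at hc'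
    obtain ⟨g, rfl⟩ := MulAction.exists_smul_eq G P Q
    refine ⟨g, ?_⟩
    rw [map_equiv_normalizer_eq, Sylow.coe_subgroup_smul]
    rfl
  obtain ⟨U, W, hU, hW, hnc, hall⟩ := two_classes h
  refine ⟨normalizer (U : Set G), normalizer (W : Set G), coatom_normalizer_klein h hU,
    coatom_normalizer_klein h hW, normalizer_iso h hU, normalizer_iso h hW, fun g e => ?_, ?_⟩
  · rw [map_equiv_normalizer_eq] at e
    -- two normal four-groups in a subgroup of order 24
    set U' := conjSub g U with hU'
    have hU'K := klein_conjSub hU g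
    have e' : normalizer (W : Set G) = normalizer (U' : Set G) := e
    apply hnc g
    by_contra hne
    obtain ⟨T, hUT, hTN⟩ := klein_le_normalizer h hU'K
    have hWn : U' ≤ normalizer (W : Set G) := e' ▸ le_normalizer
    set J := U' ⊔ W with hJ
    have hJle : J ≤ normalizer (W : Set G) := sup_le hWn le_normalizer
    have hcomm : ∀ a ∈ U', ∀ b ∈ W, a * b * a⁻¹ * b⁻¹ ∈ U' ⊓ W := fun a ha b hb => by
      refine ⟨?_, W.mul_mem ((mem_normalizer_iff.1 (hWn ha) b).1 hb) (W.inv_mem hb)⟩
      have hb' : b ∈ normalizer (U' : Set G) := e' ▸ le_normalizer hb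
      rw [show a * b * a⁻¹ * b⁻¹ = a * (b * a⁻¹ * b⁻¹) by group]
      exact U'.mul_mem ha ((mem_normalizer_iff.1 hb' _).1 (U'.inv_mem ha))
    have hWp : IsPGroup 2 W := IsPGroup.of_card (n := 2) (by rw [hW.card_four]; norm_num)
    have hUp : IsPGroup 2 U' := IsPGroup.of_card (n := 2) (by rw [hU'K.card_four]; norm_num)
    have hJp : IsPGroup 2 J := hUp.to_sup_of_normal_right' hWp hWn
    obtain ⟨T', hT'⟩ := hJp.exists_le_sylow
    have hUT' : U' ≤ (T' : Subgroup G) := le_sup_left.trans hT'
    have hWT' : W ≤ (T' : Subgroup G) := le_sup_right.trans hT'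
    have hJeq : J = T' := by
      refine eq_of_le_of_card_ge hT' ?_
      rw [card_sylow2 h]
      obtain ⟨k, hk, hk'⟩ := (Nat.dvd_prime_pow Nat.prime_two (m := 3)).1 (by
        simpa [card_sylow2 h] using card_dvd_of_le hT')
      have h4 : 4 < Nat.card J := by
        rcases (card_le_of_le (le_sup_left : U' ≤ J)).lt_or_eq with h' | h'
        · rwa [hU'K.card_four] at h'
        · exfalso
          have e1 : U' = J := eq_of_le_of_card_ge le_sup_left h'.ge
          exact hne (eq_of_le_of_card_ge ((le_sup_right : W ≤ J).trans e1.ge)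
            (by rw [hU'K.card_four, hW.card_four])).symm
      rw [hk'] at h4 ⊢
      interval_cases k <;> omega
    -- `J` is normal in `N(W)`
    have hJn : normalizer (W : Set G) ≤ normalizer (J : Set G) := by
      intro x hx
      rw [mem_normalizer_iff_conjSub, conjSub, hJ, Subgroup.map_sup]
      have h1 : conjSub x U' = U' := mem_normalizer_iff_conjSub.1 (e' ▸ hx)
      have h2 : conjSub x W = W := mem_normalizer_iff_conjSub.1 hx
      rw [conjSub] at h1 h2
      rw [h1, h2]
    have := card_dvd_of_le hJn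
    rw [card_normalizer_klein h hW, hJeq, normalizer2 h T', card_sylow2 h] at this
    norm_num at this
  · intro M hM hiso
    rcases coatom_cases h hM with ⟨V, hV, rfl⟩ | ⟨P, rfl⟩
    · obtain ⟨g, hg⟩ := hall V hV
      refine ⟨g, hg.imp (fun e => ?_) (fun e => ?_)⟩ <;> subst e <;>
        exact (map_equiv_normalizer_eq _ _).symm
    · obtain ⟨e⟩ := hiso
      have := (hc7 P).symm.trans (Nat.card_congr e.toEquiv)
      rw [Nat.card_perm, Nat.card_fin] at this
      norm_num [Nat.factorial] at this

end Cfsg.Agent.SmallSimple.Order168
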