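import Mathlib
import Cfsg.Agent.Lib.SmallSimple.Centralize
import Cfsg.Agent.Lib.SmallSimple.FixedPoints
import Cfsg.Agent.S0985
import Cfsg.Agent.S0989
import Cfsg.Agent.S0990

/-!
# A decidable filter for the orders of non-abelian simple groups
-/

set_option linter.style.haveILetI false

namespace Cfsg.Agent.SmallSimple.Filter

open Subgroup MulAction

/-- A subgroup of index `i` is possible in a simple group of order `N`. -/
abbrev Fine (N i : ℕ) : Prop := i ≤ 20 → 2 * N ∣ i.factorial

/-- The restrictions on a Sylow number `n` for the prime `p` in a simple group of order `N`. -/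
abbrev OkAt (N p n : ℕ) : Prop :=
  Fine N n ∧
    ((p * p ∣ N ∧ (n % (p * p) = 1 ∨ ∃ i ∈ Finset.range (N / (p * p) + 1), i ∣ N ∧ 1 < i ∧ ¬ p ∣ i ∧
        Fine N i ∧ ∃ j ∈ Finset.range (N / i / p + 1), 0 < j ∧ (j * p + 1) ∣ N / i)) ∨
      (¬ p * p ∣ N ∧ ∃ e ∈ Finset.range p, 1 < e ∧ e ∣ p - 1 ∧ p * e * n ∣ N ∧
        (n ≤ p + 2 → p * e * n = N) ∧ (n = p + 1 → 2 * e ∣ p - 1) ∧
        (n < 4 * p + 1 → ¬ 2 ∣ N / (e * n))))

/-- The restrictions on the Sylow `p`-subgroups of a simple group of order `N`. -/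
abbrev Ok (N p : ℕ) : Prop :=
  ∃ k ∈ Finset.range (N / p + 1), 0 < k ∧ (k * p + 1) ∣ N ∧ OkAt N p (k * p + 1)

variable {G : Type*} [Group G] [Finite G] [IsSimpleGroup G]

theorem fine_index (hG : ¬ IsMulCommutative G) (H : Subgroup G) (hH : H ≠ ⊤) :
    Fine (Nat.card G) H.index :=
  fun _ => Basic.two_mul_card_dvd_factorial hG H hH

/-- When the Sylow subgroups of prime order `p` are `p + 1` in number, `[N(P):P]` divides
`(p-1)/2`. -/
theorem two_mul_dvd (hG : ¬ IsMulCommutative G) {p e : ℕ} [Fact p.Prime] (hp : 3 ≤ p)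
    (hpG : p ∣ Nat.card G) (P : Sylow p G) (hP : Nat.card (P : Subgroup G) = p)
    (hn : Nat.card (Sylow p G) = p + 1)
    (hN : Nat.card (normalizer ((P : Subgroup G) : Set G)) = p * e) : 2 * e ∣ p - 1 := by
  classical
  have hpp : p.Prime := Fact.out
  haveI := FixedPoints.faithful (p := p) hG hpG
  haveI := Fintype.ofFinite (Sylow p G)
  let f := toPermHom G (Sylow p G)
  have hf : Function.Injective f := fun a b h =>
    eq_of_smul_eq_smul (α := Sylow p G) fun x => Equiv.congr_fun h x
  let fA : G →* alternatingGroup (Sylow p G) :=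
    f.codRestrict _ fun g => Equiv.Perm.mem_alternatingGroup.2 (Basic.sign_eq_one hG f g)
  have hfA : Function.Injective fA := fun a b h => hf (congrArg Subtype.val h)
  have hc : Fintype.card (Sylow p G) = p + 1 := by rw [← Nat.card_eq_fintype_card, hn]
  have hfac : ((p + 1).factorial).factorization p = 1 := by
    obtain ⟨m, hm⟩ := Nat.exists_eq_succ_of_ne_zero hpp.ne_zero
    rw [Nat.factorial_succ, Nat.factorization_mul (Nat.succ_ne_zero p) (Nat.factorial_ne_zero p),
      Finsupp.add_apply, Nat.factorization_eq_zero_of_not_dvd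
        (fun h' => hpp.not_dvd_one ((Nat.dvd_add_right dvd_rfl).1 h')), zero_add]
    conv_lhs => rw [show p.factorial = p * m.factorial by rw [hm, Nat.factorial_succ]]
    rw [Nat.factorization_mul hpp.ne_zero (Nat.factorial_ne_zero m), Finsupp.add_apply,
      hpp.factorization_self, Nat.factorization_eq_zero_of_not_dvd fun h => by
        have := hpp.dvd_factorial.1 h; omega]
  let Q : Sylow p (Equiv.Perm (Sylow p G)) := Sylow.ofCard ((P : Subgroup G).map f) (by
    rw [Nat.card_congr (equivMapOfInjective _ f hf).toEquiv.symm, hP, Nat.card_perm,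
      Nat.card_eq_fintype_card (α := Sylow p G), hc, hfac, pow_one])
  have hQ : (Q : Subgroup (Equiv.Perm (Sylow p G))) = (P : Subgroup G).map f := rfl
  obtain ⟨hle, h2⟩ := Cfsg.Agent.S0990.result (α := Sylow p G) (by omega) p (by omega) Q
  rw [Cfsg.Agent.S0989.result p (Or.inr hc) Q] at h2
  have hmap : (P : Subgroup G).map fA = (Q : Subgroup (Equiv.Perm (Sylow p G))).subgroupOf
      (alternatingGroup (Sylow p G)) := by
    ext x
    rw [mem_subgroupOf, hQ, mem_map, mem_map]
    exact ⟨fun ⟨g, hg, hgx⟩ => ⟨g, hg, congrArg Subtype.val hgx⟩,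
      fun ⟨g, hg, hgx⟩ => ⟨g, hg, Subtype.ext hgx⟩⟩
  have hd : Nat.card ((normalizer ((P : Subgroup G) : Set G)).map fA) ∣
      Nat.card (normalizer (((Q : Subgroup (Equiv.Perm (Sylow p G))).subgroupOf
        (alternatingGroup (Sylow p G)) : Subgroup _) : Set (alternatingGroup (Sylow p G)))) := by
    refine card_dvd_of_le ?_
    rw [← hmap]
    exact le_normalizer_map fA
  rw [Nat.card_congr (equivMapOfInjective _ fA hfA).toEquiv.symm, hN] at hd
  have h3 : p * (2 * e) ∣ p * (p - 1) := by
    rw [← h2, show p * (2 * e) = 2 * (p * e) by ring]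
    exact mul_dvd_mul_left 2 hd
  exact (Nat.mul_dvd_mul_iff_left hpp.pos).1 h3

/-- An involution centralizing a Sylow subgroup of order `p` moves at least `4p` Sylow
subgroups. -/
theorem no_involution (hG : ¬ IsMulCommutative G) {p : ℕ} [Fact p.Prime] (hp : 3 ≤ p)
    (P : Sylow p G) (hP : Nat.card (P : Subgroup G) = p)
    (hn : Nat.card (Sylow p G) < 4 * p + 1) :
    ¬ 2 ∣ Nat.card (centralizer ((P : Subgroup G) : Set G)) := by
  classical
  intro hd
  have hpp : p.Prime := Fact.out
  have hpG : p ∣ Nat.card G := hP ▸ card_subgroup_dvd_card (P : Subgroup G)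
  haveI := FixedPoints.faithful (p := p) hG hpG
  haveI : Fact (Nat.Prime 2) := ⟨Nat.prime_two⟩
  obtain ⟨⟨z, hz⟩, hzo⟩ := exists_prime_orderOf_dvd_card' (G := centralizer ((P : Subgroup G) : Set G)) 2 hd
  rw [orderOf_mk] at hzo
  have hz2 : z * z = 1 := by rw [← sq, ← hzo, pow_orderOf_eq_one]
  have hzP : z • P = P := Sylow.smul_eq_iff_mem_normalizer.2 (centralizer_le_normalizer _ hz)
  -- `P` acts on the fixed points of `z`
  let S : SubMulAction (P : Subgroup G) (Sylow p G) :=
    { carrier := {Q | z • Q = Q}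
      smul_mem' := by
        intro x Q (hQ : z • Q = Q)
        show z • ((x : G) • Q) = (x : G) • Q
        rw [← mul_smul, ← mem_centralizer_iff.1 hz (x : G) x.2, mul_smul, hQ] }
  have hmod := P.2.card_modEq_card_fixedPoints S
  have hfix : fixedPoints (P : Subgroup G) S = {(⟨P, hzP⟩ : S)} := by
    refine Set.eq_singleton_iff_unique_mem.2 ⟨fun x => Subtype.ext ?_, fun Q hQ => Subtype.ext ?_⟩
    · exact Sylow.smul_eq_iff_mem_normalizer.2 (le_normalizer x.2)
    · have hle : (P : Subgroup G) ≤ normalizer (((Q : Sylow p G) : Subgroup G) : Set G) := fun x hx =>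
        Sylow.smul_eq_iff_mem_normalizer.1 (congrArg Subtype.val (hQ ⟨x, hx⟩))
      have h2 : (P : Subgroup G) ⊔ ((Q : Sylow p G) : Subgroup G) = ((Q : Sylow p G) : Subgroup G) :=
        (Q : Sylow p G).3 (IsPGroup.to_sup_of_normal_right' P.2 (Q : Sylow p G).2 hle) le_sup_right
      exact Sylow.ext (P.3 (Q : Sylow p G).2 (le_sup_left.trans h2.le))
  rw [hfix, Nat.card_eq_fintype_card (α := ↥({(⟨P, hzP⟩ : S)} : Set S)), Fintype.card_unique] at hmod
  have hSF : Nat.card S = Nat.card {Q : Sylow p G // z • Q = Q} := rfl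
  rw [hSF] at hmod
  have hall := card_sylow_modEq_one p G
  have hfour := FixedPoints.four_dvd_moved hG (α := Sylow p G) hz2
  have hle : Nat.card {Q : Sylow p G // z • Q = Q} ≤ Nat.card (Sylow p G) :=
    Nat.card_le_card_of_injective _ Subtype.val_injective
  have hpd : p ∣ Nat.card (Sylow p G) - Nat.card {Q : Sylow p G // z • Q = Q} :=
    (Nat.modEq_iff_dvd' hle).1 (hmod.trans hall.symm)
  have hFpos : 0 < Nat.card {Q : Sylow p G // z • Q = Q} :=
    haveI : Nonempty {Q : Sylow p G // z • Q = Q} := ⟨⟨P, hzP⟩⟩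
    Nat.card_pos
  have h4p : 4 * p ∣ Nat.card (Sylow p G) - Nat.card {Q : Sylow p G // z • Q = Q} :=
    ((Nat.coprime_primes Nat.prime_two hpp).2 (by omega)).pow_left 2 |>.mul_dvd_of_dvd_of_dvd
      hfour hpd
  have h0 : Nat.card {Q : Sylow p G // z • Q = Q} = Nat.card (Sylow p G) := by
    rcases Nat.eq_zero_or_pos (Nat.card (Sylow p G) - Nat.card {Q : Sylow p G // z • Q = Q}) with h | h
    · omega
    · have := Nat.le_of_dvd h h4p
      omega
  have hsurj : ∀ Q : Sylow p G, z • Q = Q := by
    intro Q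
    obtain ⟨Q', hQ'⟩ := ((Nat.bijective_iff_injective_and_card (Subtype.val :
      {Q : Sylow p G // z • Q = Q} → Sylow p G)).2 ⟨Subtype.val_injective, h0⟩).2 Q
    exact hQ' ▸ Q'.2
  have : z = 1 := eq_of_smul_eq_smul (α := Sylow p G) fun Q => by rw [hsurj Q, one_smul]
  rw [this, orderOf_one] at hzo
  norm_num at hzo

/-- The filter is sound. -/
theorem ok_of_simple (hG : ¬ IsMulCommutative G) {p : ℕ} (hp : p.Prime) (hpG : p ∣ Nat.card G) :
    Ok (Nat.card G) p := by
  classical
  haveI : Fact p.Prime := ⟨hp⟩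
  set N := Nat.card G with hNdef
  have hN0 : N ≠ 0 := Nat.card_pos.ne'
  obtain ⟨hd, hm, h1, hf⟩ := Basic.sylow_count (p := p) hG hpG (a := N.factorization p)
    (m := N / p ^ N.factorization p) (Nat.ordProj_mul_ordCompl_eq_self N p).symm
    (Nat.not_dvd_ordCompl hp hN0)
  have hdN : Nat.card (Sylow p G) ∣ N := hd.trans (Nat.ordCompl_dvd N p)
  have hkn : (Nat.card (Sylow p G) / p) * p + 1 = Nat.card (Sylow p G) := by
    have := Nat.div_add_mod (Nat.card (Sylow p G)) p
    rw [mul_comm] at this
    omega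
  refine ⟨Nat.card (Sylow p G) / p,
    Finset.mem_range.2 (Nat.lt_succ_of_le (Nat.div_le_div_right (Nat.le_of_dvd (by omega) hdN))),
    Nat.div_pos (by
      by_contra hlt
      rw [Nat.mod_eq_of_lt (by omega : Nat.card (Sylow p G) < p)] at hm
      omega) hp.pos, hkn.symm ▸ hdN, ?_⟩
  rw [hkn]
  refine ⟨fun _ => hf, ?_⟩
  by_cases hpp : p * p ∣ N
  · refine Or.inl ⟨hpp, or_iff_not_imp_left.2 fun hmod => ?_⟩
    obtain ⟨P, R, hPR, hidx⟩ := Cfsg.Agent.S0985.result (G := G) p 2 (by
      rw [pow_two, Nat.ModEq, Nat.one_mod_eq_one.2 (by nlinarith [hp.two_le] : p * p ≠ 1)]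
      exact hmod)
    simp only [show (2 : ℕ) - 1 = 1 from rfl, pow_one] at hidx
    set D := (P : Subgroup G) ⊓ (R : Subgroup G) with hDdef
    have hcardPR : Nat.card (P : Subgroup G) = Nat.card (R : Subgroup G) :=
      P.card_eq_multiplicity.trans R.card_eq_multiplicity.symm
    have hiP : (D.subgroupOf (P : Subgroup G)).index ≤ p := by
      rwa [hDdef, inf_subgroupOf_left]
    have hnorm : ∀ S : Sylow p G, D ≤ (S : Subgroup G) →
        (D.subgroupOf (S : Subgroup G)).index ≤ p →
        (S : Subgroup G) ≤ normalizer (D : Set G) := by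
      intro S hDS hi
      haveI hn : (D.subgroupOf (S : Subgroup G)).Normal := by
        rcases eq_or_ne ((D.subgroupOf (S : Subgroup G)).index) 1 with h | h
        · rw [index_eq_one.1 h]; infer_instance
        · obtain ⟨j, hj⟩ := S.2.index (D.subgroupOf (S : Subgroup G))
          have hj1 : j = 1 := by
            rcases Nat.eq_zero_or_pos j with rfl | hj0
            · exact absurd (by simpa using hj) h
            · by_contra hne
              have : p ^ 2 ≤ p ^ j := Nat.pow_le_pow_right hp.pos (by omega)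
              rw [← hj] at this
              nlinarith [hp.two_le]
          rw [hj1, pow_one] at hj
          obtain ⟨k, hk⟩ := IsPGroup.iff_card.1 S.2
          refine normal_of_index_eq_minFac_card ?_
          have hk0 : k ≠ 0 := by
            rintro rfl
            rw [pow_zero] at hk
            have := (D.subgroupOf (S : Subgroup G)).index_dvd_card
            rw [hj, hk] at this
            exact hp.not_dvd_one this
          rw [hj, hk, Nat.pow_minFac hk0, hp.minFac_eq]
      exact (normal_subgroupOf_iff_le_normalizer hDS).1 hn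
    have hiR : (D.subgroupOf (R : Subgroup G)).index ≤ p := by
      have e1 := relIndex_mul_relIndex ⊥ D (P : Subgroup G) bot_le inf_le_left
      have e2 := relIndex_mul_relIndex ⊥ D (R : Subgroup G) bot_le inf_le_right
      rw [relIndex_bot_left, relIndex_bot_left] at e1 e2
      rw [← hcardPR] at e2
      have : D.relIndex (R : Subgroup G) = D.relIndex (P : Subgroup G) :=
        Nat.eq_of_mul_eq_mul_left Nat.card_pos (e2.trans e1.symm)
      exact this.le.trans hiP
    set H := normalizer (D : Set G) with hHdef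
    have hPH : (P : Subgroup G) ≤ H := hnorm P inf_le_left hiP
    have hRH : (R : Subgroup G) ≤ H := hnorm R inf_le_right hiR
    have hH : H ≠ ⊤ := by
      intro e
      rcases (normalizer_eq_top_iff.1 e).eq_bot_or_eq_top with h | h
      · rw [h, bot_subgroupOf, index_bot] at hiP
        rw [Basic.card_sylow_eq P] at hiP
        have h2 : 2 ≤ N.factorization p :=
          (hp.pow_dvd_iff_le_factorization hN0).1 (by rwa [pow_two])
        have := Nat.pow_le_pow_right hp.pos h2
        nlinarith [hp.two_le]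
      · exact Basic.sylow_ne_top hG P (top_le_iff.1 (h ▸ inf_le_left))
    have hH1 : 1 < H.index := Nat.lt_of_le_of_ne (Nat.one_le_iff_ne_zero.2 H.index_ne_zero_of_finite)
      (fun e => hH (index_eq_one.1 e.symm))
    have hpi : ¬ p ∣ H.index := fun hd' => P.not_dvd_index (hd'.trans (index_dvd_of_le hPH))
    have hsplit : Nat.card H * H.index = N := card_mul_index H
    haveI : Nontrivial (Sylow p H) := ⟨⟨P.subtype hPH, R.subtype hRH,
      fun e => hPR (Sylow.subtype_injective e)⟩⟩
    have hd1 : 1 < Nat.card (Sylow p H) := Finite.one_lt_card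
    have hdd : Nat.card (Sylow p H) ∣ Nat.card H :=
      (P.subtype hPH).card_dvd_index.trans (index_dvd_card _)
    have hdiv : N / H.index = Nat.card H := by
      rw [← hsplit, Nat.mul_div_cancel _ (by omega)]
    have hkd : (Nat.card (Sylow p H) / p) * p + 1 = Nat.card (Sylow p H) := by
      have := card_sylow_modEq_one p H
      rw [Nat.ModEq, Nat.one_mod_eq_one.2 hp.ne_one] at this
      have h' := Nat.div_add_mod (Nat.card (Sylow p H)) p
      rw [mul_comm] at h'
      omega
    have hp2H : p * p ∣ Nat.card H := by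
      refine dvd_trans ?_ (card_dvd_of_le hPH)
      rw [Basic.card_sylow_eq P, ← pow_two]
      exact pow_dvd_pow p ((hp.pow_dvd_iff_le_factorization hN0).1 (by rwa [pow_two]))
    refine ⟨H.index, Finset.mem_range.2 (Nat.lt_succ_of_le ((Nat.le_div_iff_mul_le
        (Nat.mul_pos hp.pos hp.pos)).2 ?_)),
      ⟨_, (mul_comm (Nat.card H) _ ▸ hsplit).symm⟩, hH1, hpi, fine_index hG H hH,
      Nat.card (Sylow p H) / p, ?_, ?_, ?_⟩
    · rw [← hsplit, mul_comm (Nat.card H)]
      exact Nat.mul_le_mul_left _ (Nat.le_of_dvd Nat.card_pos hp2H)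
    · rw [hdiv]
      exact Finset.mem_range.2 (Nat.lt_succ_of_le (Nat.div_le_div_right (Nat.le_of_dvd Nat.card_pos hdd)))
    · rcases Nat.eq_zero_or_pos (Nat.card (Sylow p H) / p) with h0 | h0
      · rw [h0] at hkd; omega
      · exact h0
    · rw [hkd, hdiv]; exact hdd
  · refine Or.inr ⟨hpp, ?_⟩
    have P : Sylow p G := default
    have hP : Nat.card (P : Subgroup G) = p := by
      obtain ⟨m, hm⟩ := hpG
      have hnd : ¬ p ∣ m := fun h => hpp (hm ▸ mul_dvd_mul_left p h)
      simpa using Basic.card_sylow_eq_pow (a := 1) (m := m) (by rw [pow_one]; exact hm) hnd P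
    obtain ⟨e, he, he1, hN, hC⟩ := Centralize.centralizer_data hG P hP
    have hp3 : 3 ≤ p := by
      have := Nat.le_of_dvd (by have := hp.two_le; omega) he
      omega
    have hmul := Basic.card_normalizer_mul P
    rw [hN, ← hNdef] at hmul
    obtain ⟨c, hc⟩ := hC
    have hlast : N / (e * Nat.card (Sylow p G)) = Nat.card (centralizer ((P : Subgroup G) : Set G)) := by
      rw [← hmul, mul_assoc, Nat.mul_div_cancel]
      exact Nat.mul_pos (by omega) (by omega)
    refine ⟨e, Finset.mem_range.2 (by have := Nat.le_of_dvd (by omega) he; omega), he1, he,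
      ⟨c, by rw [← hmul, hc]; ring⟩, fun hle => ?_, fun heq => ?_, fun hlt => ?_⟩
    · rw [← hmul, Centralize.card_centralizer_of_le hG hp3 P hP hle]
    · refine two_mul_dvd hG hp3 hpG P hP heq ?_
      rw [hN, Centralize.card_centralizer_of_le hG hp3 P hP (by omega)]
    · rw [hlast]
      exact no_involution hG hp3 P hP hlt

/-- The filter at every prime of a list. -/
theorem ok_list (hG : ¬ IsMulCommutative G) {l : List ℕ} (hl : ∀ p ∈ l, p.Prime) :
    ∀ p ∈ l, p ∣ Nat.card G → Ok (Nat.card G) p :=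
  fun p hp hd => ok_of_simple hG (hl p hp) hd

/-- The filter at every prime. -/
theorem ok_all (hG : ¬ IsMulCommutative G) :
    ∀ p ∈ Finset.range (Nat.card G + 1), p ∣ Nat.card G → p.Prime → Ok (Nat.card G) p :=
  fun _ _ hd hp => ok_of_simple hG hp hd

end Cfsg.Agent.SmallSimple.Filter
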