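import Mathlib
import Cfsg.Agent.S0496
import Cfsg.Agent.Lib.SmallSimple.Centralize
import Cfsg.Agent.Lib.SmallSimple.Order168
import Cfsg.Agent.Lib.PrimeBlock.ThreePrimes

/-!
# Simple groups and normalizers inside the alternating group of degree eight
-/

set_option autoImplicit false
set_option linter.style.haveILetI false

namespace Cfsg.Agent.SmallSimple.AltEight

open Subgroup Equiv Equiv.Perm

/-- A standard 7-cycle. -/
def c₇ : Perm (Fin 8) := ([0, 1, 2, 3, 4, 5, 6] : List (Fin 8)).formPerm

/-- An odd permutation inverting the standard 7-cycle. -/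
def t₇ : Perm (Fin 8) := swap 1 6 * swap 2 5 * swap 3 4

theorem t₇_spec : t₇ * c₇ * t₇⁻¹ = c₇⁻¹ ∧ sign t₇ = -1 ∧ sign c₇ = 1 ∧ c₇ ^ 7 = 1 ∧ c₇ ≠ 1 := by
  decide +kernel

theorem cycleType_of_orderOf {c : Perm (Fin 8)} {p : ℕ} (hp : p.Prime) (h4 : 4 < p)
    (hc : orderOf c = p) : c.cycleType = {p} := by
  obtain ⟨n, hn⟩ := cycleType_prime_order (by rw [hc]; exact hp)
  rw [hc] at hn
  have h := sum_cycleType_le c
  rw [hn, Multiset.sum_replicate, Fintype.card_fin, smul_eq_mul] at h
  have : n = 0 := by nlinarith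
  rw [hn, this, zero_add, Multiset.replicate_one]

theorem card_centralizer_perm {c : Perm (Fin 8)} {p : ℕ} (hp : p.Prime) (h4 : 4 < p) (hc : orderOf c = p) :
    Nat.card (centralizer ({c} : Set (Perm (Fin 8)))) = (8 - p).factorial * p := by
  rw [nat_card_centralizer, cycleType_of_orderOf hp h4 hc]
  simp

theorem mem_zpowers_of_commute {c σ : Perm (Fin 8)} (hc : orderOf c = 7) (h : σ * c = c * σ) :
    σ ∈ zpowers c := by
  have hle : zpowers c ≤ centralizer ({c} : Set (Perm (Fin 8))) :=
    zpowers_le.2 (mem_centralizer_singleton_iff.2 rfl)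
  rw [eq_of_le_of_card_ge hle (by
    rw [Nat.card_zpowers, hc, card_centralizer_perm (by norm_num) (by norm_num) hc]
    norm_num [Nat.factorial])]
  exact mem_centralizer_singleton_iff.2 h

/-- No even permutation inverts a 7-cycle. -/
theorem not_invert {c σ : Perm (Fin 8)} (hc : orderOf c = 7) (hσ : sign σ = 1)
    (h : σ * c * σ⁻¹ = c⁻¹) : False := by
  obtain ⟨ht, htsign, hcsign, hc7, hc1⟩ := t₇_spec
  haveI : Fact (Nat.Prime 7) := ⟨by norm_num⟩
  have hco : orderOf c₇ = 7 := orderOf_eq_prime hc7 hc1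
  obtain ⟨π, hπ⟩ := isConj_iff.1 ((Equiv.Perm.isConj_iff_cycleType_eq).2
    ((cycleType_of_orderOf (by norm_num : Nat.Prime 7) (by norm_num) hc).trans
      (cycleType_of_orderOf (by norm_num : Nat.Prime 7) (by norm_num) hco).symm))
  set ρ := π * σ * π⁻¹ with hρ
  have hρc : ρ * c₇ * ρ⁻¹ = c₇⁻¹ := by
    rw [hρ, ← hπ]
    calc π * σ * π⁻¹ * (π * c * π⁻¹) * (π * σ * π⁻¹)⁻¹ = π * (σ * c * σ⁻¹) * π⁻¹ := by group
      _ = (π * c * π⁻¹)⁻¹ := by rw [h]; group
  have hcomm : (t₇⁻¹ * ρ) * c₇ = c₇ * (t₇⁻¹ * ρ) := by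
    have h1 : ρ * c₇ = c₇⁻¹ * ρ := by rw [← hρc]; group
    have h2 : t₇⁻¹ * c₇⁻¹ = c₇ * t₇⁻¹ := by rw [← ht]; group
    rw [mul_assoc, h1, ← mul_assoc, h2, mul_assoc]
  obtain ⟨i, hi⟩ := mem_zpowers_iff.1 (mem_zpowers_of_commute hco hcomm)
  have hs := congrArg sign hi
  rw [map_mul, map_inv, htsign, hρ, map_mul, map_mul, hσ, map_inv, map_zpow, hcsign, one_zpow,
    mul_one, mul_inv_cancel, mul_one] at hs
  exact absurd hs (by decide)

variable {H : Type*} [Group H] [Finite H]

theorem relIndex_dvd_totient {P : Subgroup H} {p : ℕ} (hp : p.Prime) (hP : Nat.card P = p) :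
    (centralizer (P : Set H)).relIndex (normalizer (P : Set H)) ∣ p - 1 := by
  haveI := Fact.mk hp
  haveI : IsCyclic P := isCyclic_of_prime_card hP
  have h : Nat.card (MulAut P) = p - 1 := by
    rw [IsCyclic.card_mulAut, hP, Nat.totient_prime hp]
  rw [← h, relIndex, ← normalizerMonoidHom_ker, index_ker]
  exact card_subgroup_dvd_card _

theorem card_normalizer_dvd {f : H →* alternatingGroup (Fin 8)} (hf : Function.Injective f)
    {P : Subgroup H} :
    (Nat.card P = 7 → Nat.card (normalizer (P : Set H)) ∣ 21) ∧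
      (Nat.card P = 5 → Nat.card (normalizer (P : Set H)) ∣ 60) := by
  set F : H →* Perm (Fin 8) := (alternatingGroup (Fin 8)).subtype.comp f with hF
  have hFi : Function.Injective F := (alternatingGroup (Fin 8)).subtype_injective.comp hf
  have hsign : ∀ x, sign (F x) = 1 := fun x => mem_alternatingGroup.1 (f x).2
  have hgen : ∀ {p : ℕ}, p.Prime → Nat.card P = p → ∃ x ∈ P, orderOf x = p := by
    intro p hp hP
    haveI := Fact.mk hp
    obtain ⟨x, hx⟩ := exists_prime_orderOf_dvd_card' (G := P) p (by rw [hP])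
    exact ⟨x, x.2, by rw [orderOf_coe]; exact hx⟩
  have hsplit : Nat.card (normalizer (P : Set H)) = Nat.card (centralizer (P : Set H)) *
      (centralizer (P : Set H)).relIndex (normalizer (P : Set H)) := by
    rw [← relIndex_bot_left, ← relIndex_bot_left,
      relIndex_mul_relIndex _ _ _ bot_le (centralizer_le_normalizer _)]
  have hC : ∀ {p : ℕ}, p.Prime → 4 < p → Nat.card P = p →
      Nat.card (centralizer (P : Set H)) ∣ (8 - p).factorial * p := by
    intro p hp h4 hP
    obtain ⟨x, hx, hxo⟩ := hgen hp hP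
    rw [← card_centralizer_perm hp h4 (by rw [orderOf_injective F hFi, hxo]),
      ← card_map_of_injective hFi]
    refine card_dvd_of_le ?_
    rintro _ ⟨y, hy, rfl⟩
    exact mem_centralizer_singleton_iff.2 (by
      rw [← map_mul, ← map_mul, mem_centralizer_iff.1 hy x hx])
  constructor
  · intro hP
    have h1 := hC (by norm_num : Nat.Prime 7) (by norm_num) hP
    norm_num [Nat.factorial] at h1
    have h2 := relIndex_dvd_totient (by norm_num : Nat.Prime 7) hP
    have hodd : ¬ 2 ∣ (centralizer (P : Set H)).relIndex (normalizer (P : Set H)) := by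
      intro hd
      haveI : IsCyclic P := isCyclic_of_prime_card (hp := ⟨by norm_num⟩) hP
      rw [relIndex, ← normalizerMonoidHom_ker, index_ker] at hd
      haveI : Fact (Nat.Prime 2) := ⟨Nat.prime_two⟩
      obtain ⟨⟨_, g, rfl⟩, hu⟩ := exists_prime_orderOf_dvd_card' 2 hd
      rw [← orderOf_coe] at hu
      replace hu := orderOf_eq_prime_iff.1 hu
      set φ := P.normalizerMonoidHom g with hφ
      obtain ⟨x, hx, hxo⟩ := hgen (by norm_num : Nat.Prime 7) hP
      have hxg : ∃ k : ℤ, φ ⟨x, hx⟩ = (⟨x, hx⟩ : P) ^ k := by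
        haveI : Fact (Nat.Prime 7) := ⟨by norm_num⟩
        exact ⟨_, (mem_zpowers_iff.1 (mem_zpowers_of_prime_card hP
          (g := (⟨x, hx⟩ : P)) (g' := φ ⟨x, hx⟩) fun e => by
            have := congrArg Subtype.val e
            simp only [OneMemClass.coe_one] at this
            rw [this, orderOf_one] at hxo; norm_num at hxo)).choose_spec.symm⟩
      obtain ⟨k, hk⟩ := hxg
      have hkk : (⟨x, hx⟩ : P) ^ (k * k) = ⟨x, hx⟩ := by
        rw [zpow_mul, ← hk, ← map_zpow, ← hk, ← MulAut.mul_apply, ← pow_two, hu.1, MulAut.one_apply]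
      have hdvd : ((7 : ℕ) : ℤ) ∣ k * k - 1 := by
        rw [← hxo, ← orderOf_mk x hx, orderOf_dvd_iff_zpow_eq_one, zpow_sub, zpow_one, hkk,
          mul_inv_cancel]
      have hfac : ((7 : ℕ) : ℤ) ∣ (k - 1) * (k + 1) := by convert hdvd using 1; ring
      rcases (Int.Prime.dvd_mul' (by norm_num : Nat.Prime 7) hfac) with h | h
      · refine hu.2 (MulEquiv.ext fun y => ?_)
        haveI : Fact (Nat.Prime 7) := ⟨by norm_num⟩
        obtain ⟨j, rfl⟩ := mem_zpowers_iff.1 (mem_zpowers_of_prime_card hP (g := (⟨x, hx⟩ : P)) (g' := y)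
          fun e => by
            have := congrArg Subtype.val e
            simp only [OneMemClass.coe_one] at this
            rw [this, orderOf_one] at hxo; norm_num at hxo)
        rw [MulAut.one_apply, map_zpow, hk]
        congr 1
        rw [← hxo, ← orderOf_mk x hx, orderOf_dvd_iff_zpow_eq_one, zpow_sub_one, mul_inv_eq_one] at h
        exact h
      · rw [← hxo, ← orderOf_mk x hx, orderOf_dvd_iff_zpow_eq_one, zpow_add_one,
          mul_eq_one_iff_eq_inv, ← hk] at h
        have h' := congrArg Subtype.val h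
        rw [hφ] at h'
        change (g : H) * x * (g : H)⁻¹ = x⁻¹ at h'
        exact not_invert (by rw [orderOf_injective F hFi, hxo]) (hsign g)
          (by rw [← map_mul, ← map_inv F, ← map_mul, h', map_inv])
    rw [hsplit, show (21 : ℕ) = 7 * 3 by norm_num]
    refine Nat.mul_dvd_mul h1 ?_
    exact Nat.Coprime.dvd_of_dvd_mul_left ((Nat.prime_two.coprime_iff_not_dvd.2 hodd).symm) (by simpa using h2)
  · intro hP
    obtain ⟨x, hx, hxo⟩ := hgen (by norm_num : Nat.Prime 5) hP
    set C := centralizer ({F x} : Set (Perm (Fin 8))) with hCdef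
    have hcard : Nat.card C = 30 := by
      rw [hCdef, card_centralizer_perm (by norm_num : Nat.Prime 5) (by norm_num)
        (by rw [orderOf_injective F hFi, hxo])]
      norm_num [Nat.factorial]
    -- an odd element commuting with the 5-cycle
    have hswap : ∃ s ∈ C, sign s = -1 := by
      have hsupp : (F x).support.card = 5 := by
        rw [← sum_cycleType, cycleType_of_orderOf (by norm_num : Nat.Prime 5) (by norm_num)
          (by rw [orderOf_injective F hFi, hxo]), Multiset.sum_singleton]
      obtain ⟨a, ha, b, hb, hab⟩ := Finset.one_lt_card.1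
        (show 1 < (F x).supportᶜ.card by rw [Finset.card_compl, hsupp, Fintype.card_fin]; norm_num)
      refine ⟨swap a b, mem_centralizer_singleton_iff.2 ?_, sign_swap hab⟩
      refine (Disjoint.commute ?_).eq
      rw [disjoint_iff_disjoint_support, support_swap hab]
      simp only [Finset.disjoint_insert_left, Finset.disjoint_singleton_left]
      exact ⟨Finset.mem_compl.1 ha, Finset.mem_compl.1 hb⟩
    have hker : Nat.card (sign.comp C.subtype).ker = 15 := by
      have h := card_mul_index (sign.comp C.subtype).ker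
      rw [index_ker, hcard, MonoidHom.range_eq_top.2 (fun u => ?_), card_top,
        show Nat.card ℤˣ = 2 by rw [Nat.card_eq_fintype_card, Fintype.card_units_int]] at h
      · omega
      · obtain ⟨s, hs, hss⟩ := hswap
        rcases Int.units_eq_one_or u with rfl | rfl
        exacts [⟨1, map_one _⟩, ⟨⟨s, hs⟩, hss⟩]
    have h1 : Nat.card (centralizer (P : Set H)) ∣ 15 := by
      rw [← hker]
      let g : centralizer (P : Set H) →* (sign.comp C.subtype).ker :=
        { toFun := fun y => ⟨⟨F (y : H), mem_centralizer_singleton_iff.2 (by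
            rw [← map_mul, ← map_mul, mem_centralizer_iff.1 y.2 x hx])⟩, hsign (y : H)⟩
          map_one' := Subtype.ext (Subtype.ext (map_one F))
          map_mul' := fun y z => Subtype.ext (Subtype.ext (map_mul F (y : H) z)) }
      refine card_dvd_of_injective g fun y z h => Subtype.ext (hFi ?_)
      exact congrArg (fun w : (sign.comp C.subtype).ker => ((w : C) : Perm (Fin 8))) h
    rw [hsplit, show (60 : ℕ) = 15 * 4 by norm_num]
    exact Nat.mul_dvd_mul h1 (relIndex_dvd_totient (by norm_num : Nat.Prime 5) hP)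

/-- A Sylow number test. -/
abbrev Pass (N p b : ℕ) : Prop :=
  ∃ n ∈ Finset.range (N + 1), n % p = 1 ∧ 1 < n ∧ n ∣ N ∧ N / n ∣ b ∧
    ∃ e ∈ Finset.range p, 1 < e ∧ e ∣ p - 1 ∧ p * e ∣ N / n

set_option synthInstance.maxSize 4096 in
theorem fail_504 : ¬ Pass 504 7 21 := by
  decide +kernel

set_option synthInstance.maxSize 4096 in
set_option maxHeartbeats 1000000 in
theorem divisor_cases : ∀ k ∈ [8, 9, 10, 12, 14, 15, 16, 18], (7 ∣ 20160 / k → Pass (20160 / k) 7 21) →
    (5 ∣ 20160 / k → Pass (20160 / k) 5 60) → 20160 / k = 1344 ∨ 20160 / k = 2520 := by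
  decide +kernel

theorem index_cases {A : Subgroup (alternatingGroup (Fin 8))} (hA : A ≠ ⊤) : 8 ≤ A.index := by
  haveI : IsSimpleGroup (alternatingGroup (Fin 8)) :=
    alternatingGroup.isSimpleGroup (by simp)
  have hc : Nat.card (alternatingGroup (Fin 8)) = 20160 := by
    rw [nat_card_alternatingGroup, Nat.card_fin]; norm_num [Nat.factorial]
  have hna : ¬ IsMulCommutative (alternatingGroup (Fin 8)) :=
    Basic.not_comm_of_not_prime (by rw [hc]; norm_num)
  have h := Basic.two_mul_card_dvd_factorial hna A hA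
  rw [hc] at h
  by_contra hlt
  have h0 : A.index ≠ 0 := index_ne_zero_of_finite
  generalize A.index = i at h hlt h0
  interval_cases i <;> norm_num [Nat.factorial] at h

/-- The orders of non-abelian simple subgroups. -/
theorem simple_order [IsSimpleGroup H] (hna : ¬ IsMulCommutative H)
    {f : H →* alternatingGroup (Fin 8)} (hf : Function.Injective f) :
    Nat.card H = 60 ∨ Nat.card H = 168 ∨ Nat.card H = 360 ∨ Nat.card H = 2520 ∨
      Nat.card H = 20160 := by
  classical
  have hc : Nat.card (alternatingGroup (Fin 8)) = 20160 := by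
    rw [nat_card_alternatingGroup, Nat.card_fin]; norm_num [Nat.factorial]
  have hd : Nat.card H ∣ 20160 := hc ▸ card_dvd_of_injective f hf
  have hr : Nat.card f.range = Nat.card H := Nat.card_congr (MonoidHom.ofInjective hf).toEquiv.symm
  rcases eq_or_ne f.range ⊤ with htop | hne
  · rw [htop, card_top, hc] at hr
    exact Or.inr (Or.inr (Or.inr (Or.inr hr.symm)))
  have h8 := index_cases hne
  have hmul := card_mul_index f.range
  rw [hr, hc] at hmul
  have hpass : ∀ p b : ℕ, p.Prime → p ∣ Nat.card H → ¬ p * p ∣ 20160 →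
      (∀ P : Subgroup H, Nat.card P = p → Nat.card (normalizer (P : Set H)) ∣ b) →
      Pass (Nat.card H) p b := by
    intro p b hp hpH hpp hb
    haveI := Fact.mk hp
    have P : Sylow p H := default
    obtain ⟨m, hm⟩ := hpH
    have hnd : ¬ p ∣ m := fun h => hpp ((hm ▸ mul_dvd_mul_left p h).trans hd)
    have hP : Nat.card (P : Subgroup H) = p := by
      simpa using Basic.card_sylow_eq_pow (a := 1) (m := m) (by rw [pow_one]; exact hm) hnd P
    obtain ⟨hdn, hmod, h1, -⟩ := Basic.sylow_count (p := p) hna ⟨m, hm⟩ (a := 1) (m := m)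
      (by rw [pow_one]; exact hm) hnd
    obtain ⟨e, he, he1, hN, hC⟩ := Centralize.centralizer_data hna P hP
    have hmul' := Basic.card_normalizer_mul P
    have hn : Nat.card (Sylow p H) ∣ Nat.card H := hmul' ▸ dvd_mul_left _ _
    have hdiv : Nat.card H / Nat.card (Sylow p H) = Nat.card (normalizer ((P : Subgroup H) : Set H)) := by
      rw [← hmul', Nat.mul_div_cancel _ Nat.card_pos]
    refine ⟨_, Finset.mem_range.2 (Nat.lt_succ_of_le (Nat.le_of_dvd Nat.card_pos hn)), hmod,
      h1, hn, hdiv ▸ hb _ hP, e, Finset.mem_range.2 ?_, he1, he, hdiv ▸ ?_⟩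
    · exact lt_of_le_of_lt (Nat.le_of_dvd (Nat.sub_pos_of_lt hp.one_lt) he) (Nat.sub_lt hp.pos one_pos)
    · rw [hN]
      obtain ⟨c, hc⟩ := hC
      exact ⟨c, by rw [hc]; ring⟩
  rcases le_or_gt (Nat.card H) 1092 with hle | hgt
  · rcases S0496.result hna hle with h | h | h | h | h | h
    · exact Or.inl h
    · exact Or.inr (Or.inl h)
    · exact Or.inr (Or.inr (Or.inl h))
    · exfalso
      refine fail_504 (h ▸ hpass 7 21 (by norm_num) (by rw [h]; norm_num) (by norm_num) fun P hP => ?_)
      exact (card_normalizer_dvd hf).1 hP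
    all_goals rw [h] at hd; norm_num at hd
  have hub : Nat.card H ≤ 2520 := by nlinarith
  have hk : Nat.card H = 20160 / f.range.index := by rw [← hmul, Nat.mul_div_cancel _ (by omega)]
  have hk18 : f.range.index ≤ 18 := by nlinarith
  have hkmem : f.range.index ∈ [8, 9, 10, 12, 14, 15, 16, 18] := by
    have hdk : f.range.index ∣ 20160 := ⟨Nat.card H, by rw [← hmul]; ring⟩
    generalize f.range.index = i at hdk hk18 h8 ⊢
    interval_cases i <;> revert hdk <;> decide
  rw [hk] at hpass ⊢
  rcases divisor_cases _ hkmem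
    (fun h => hpass 7 21 (by norm_num) h (by norm_num) fun P hP => (card_normalizer_dvd hf).1 hP)
    (fun h => hpass 5 60 (by norm_num) h (by norm_num) fun P hP => (card_normalizer_dvd hf).2 hP)
    with h | h
  · rcases PrimeBlock.card_eq_of_lt hna (p := 3) (r := 7) (q := 2) (b := 6) (by norm_num) (by norm_num)
      (by norm_num) (by norm_num) (by norm_num) (by norm_num) (by rw [hk, h]; norm_num) with h' | h' <;>
      omega
  · exact Or.inr (Or.inr (Or.inr (Or.inl h)))

end Cfsg.Agent.SmallSimple.AltEight
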