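import Cfsg.Agent.Lib.SmallSimple.Order168
import Cfsg.Agent.S0206
import Cfsg.Agent.S1012

/-!
# Simple groups of order 168: Klein four-groups and maximal subgroups
-/

set_option linter.style.haveILetI false
set_option linter.unusedSectionVars false

namespace Cfsg.Agent.SmallSimple.Order168

open Subgroup Orders

variable {G : Type*} [Group G] [Finite G] [IsSimpleGroup G] (h : Nat.card G = 168)

include h

theorem sq_eq_of_conj_mem {g y : G} (hg : orderOf g = 4) (hy : y * g * y⁻¹ ∈ zpowers g) :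
    y * g * y⁻¹ = g ∨ y * g * y⁻¹ = g⁻¹ := by
  rw [← mem_powers_iff_mem_zpowers, Submonoid.mem_powers_iff] at hy
  obtain ⟨k, hk⟩ := hy
  have hk4 : g ^ k = g ^ (k % 4) := by rw [← hg, pow_mod_orderOf]
  have hord : orderOf (y * g * y⁻¹) = 4 := by rw [← MulAut.conj_apply, MulEquiv.orderOf_eq, hg]
  rw [← hk, hk4] at hord ⊢
  have hlt := Nat.mod_lt k (show 4 > 0 by norm_num)
  interval_cases k % 4
  · rw [pow_zero, orderOf_one] at hord; norm_num at hord
  · exact Or.inl (pow_one g)
  · have e : (g ^ 2) ^ 2 = 1 := by rw [← pow_mul, show 2 * 2 = 4 from rfl, ← hg, pow_orderOf_eq_one]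
    have := orderOf_dvd_of_pow_eq_one e
    rw [hord] at this; norm_num at this
  · refine Or.inr (eq_inv_of_mul_eq_one_left ?_)
    rw [← pow_succ]
    show g ^ 4 = 1
    rw [← hg, pow_orderOf_eq_one]

theorem index_two_of_order_four [Fact (Nat.Prime 2)] (T : Sylow 2 G) {g : G}
    (hg : g ∈ (T : Subgroup G)) (hg4 : orderOf g = 4) :
    ((zpowers g).subgroupOf (T : Subgroup G)).index = 2 := by
  have h1 := relIndex_mul_relIndex ⊥ (zpowers g) (T : Subgroup G) bot_le (zpowers_le.2 hg)
  rw [relIndex_bot_left, relIndex_bot_left, Nat.card_zpowers, hg4, card_sylow2 h] at h1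
  show (zpowers g).relIndex (T : Subgroup G) = 2
  omega

theorem mul_mem_zpowers_iff [Fact (Nat.Prime 2)] (T : Sylow 2 G) {g a b : G}
    (hg : g ∈ (T : Subgroup G)) (hg4 : orderOf g = 4) (ha : a ∈ (T : Subgroup G))
    (hb : b ∈ (T : Subgroup G)) :
    a * b ∈ zpowers g ↔ (a ∈ zpowers g ↔ b ∈ zpowers g) := by
  have := mul_mem_iff_of_index_two (index_two_of_order_four h T hg hg4)
    (a := (⟨a, ha⟩ : (T : Subgroup G))) (b := ⟨b, hb⟩)
  simpa only [mem_subgroupOf, coe_mul] using this

theorem sq_central [Fact (Nat.Prime 2)] (T : Sylow 2 G) {g t : G} (hg : g ∈ (T : Subgroup G))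
    (hg4 : orderOf g = 4) (ht : t ∈ (T : Subgroup G)) : t * g ^ 2 = g ^ 2 * t := by
  have hn := normal_of_index_eq_two (index_two_of_order_four h T hg hg4)
  have hm := hn.conj_mem ⟨g, hg⟩ (by rw [mem_subgroupOf]; exact mem_zpowers g) ⟨t, ht⟩
  rw [mem_subgroupOf] at hm
  have hm' : t * g * t⁻¹ ∈ zpowers g := hm
  refine mul_inv_eq_iff_eq_mul.1 ?_
  rw [← conj_pow]
  rcases sq_eq_of_conj_mem h hg4 hm' with e | e
  · rw [e]
  · rw [e, inv_pow, inv_eq_iff_mul_eq_one, ← pow_add]
    show g ^ 4 = 1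
    rw [← hg4, pow_orderOf_eq_one]

theorem fiber_four {z : G} (hz : orderOf z = 2) :
    Nat.card {g : G // orderOf g = 4 ∧ g ^ 2 = z} = 2 := by
  classical
  haveI := Fintype.ofFinite G
  set I := Finset.univ.filter fun s : G => orderOf s = 2 with hI
  have hf : ∀ g ∈ Finset.univ.filter (fun g : G => orderOf g = 4), g ^ 2 ∈ I := fun g hg => by
    have h4 := (Finset.mem_filter.1 hg).2
    exact Finset.mem_filter.2 ⟨Finset.mem_univ _,
      by rw [orderOf_pow_of_dvd two_ne_zero (by rw [h4]; norm_num), h4]⟩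
  have hsum := Finset.card_eq_sum_card_fiberwise hf
  have hc : ∀ s : G, ((Finset.univ.filter fun g : G => orderOf g = 4).filter fun g => g ^ 2 = s).card =
      Nat.card {g : G // orderOf g = 4 ∧ g ^ 2 = s} := fun s => by
    rw [Finset.filter_filter, Nat.card_eq_fintype_card, Fintype.card_subtype]
  have heq : ∀ s ∈ I, Nat.card {g : G // orderOf g = 4 ∧ g ^ 2 = s} =
      Nat.card {g : G // orderOf g = 4 ∧ g ^ 2 = z} := fun s hs => by
    obtain ⟨c, hc'⟩ := isConj_iff.1 (conj_two h (Finset.mem_filter.1 hs).2 hz)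
    refine Nat.card_congr ((MulAut.conj c).toEquiv.subtypeEquiv fun g => ?_)
    show _ ↔ orderOf (MulAut.conj c g) = 4 ∧ (MulAut.conj c g) ^ 2 = z
    rw [MulEquiv.orderOf_eq, ← map_pow, ← hc', ← MulAut.conj_apply, EmbeddingLike.apply_eq_iff_eq]
  rw [Finset.sum_congr rfl (fun s hs => (hc s).trans (heq s hs)), Finset.sum_const, smul_eq_mul] at hsum
  have hI' : I.card = 21 := by
    rw [← card2 h, Nat.card_eq_fintype_card, Fintype.card_subtype]
  rw [hI', ← Fintype.card_subtype, ← Nat.card_eq_fintype_card, card4 h] at hsum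
  omega

/-- Structure of a Sylow 2-subgroup. -/
theorem exists_gens [Fact (Nat.Prime 2)] (T : Sylow 2 G) :
    ∃ g t : G, g ∈ (T : Subgroup G) ∧ orderOf g = 4 ∧ t ∈ (T : Subgroup G) ∧ t ∉ zpowers g ∧
      ∀ u ∈ (T : Subgroup G), u ∉ zpowers g → orderOf u = 2 := by
  classical
  obtain ⟨g, hg, hg4, hgc, hg1⟩ := exists_four h T
  obtain ⟨t, ht, htg⟩ : ∃ t ∈ (T : Subgroup G), t ∉ zpowers g := by
    by_contra hno
    push Not at hno
    have := card_le_of_le (show (T : Subgroup G) ≤ zpowers g from hno)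
    rw [card_sylow2 h, Nat.card_zpowers, hg4] at this
    omega
  refine ⟨g, t, hg, hg4, ht, htg, fun u hu hug => ?_⟩
  have hd := Subgroup.orderOf_dvd_natCard _ hu
  rw [card_sylow2 h] at hd
  rcases orderOf_cases h u with e | e | e | e | e
  · exact absurd (orderOf_eq_one_iff.1 e ▸ one_mem (zpowers g)) hug
  · exact e
  · rw [e] at hd; norm_num at hd
  · exfalso
    have hu1 : u ^ 2 ≠ 1 := fun h' => by
      have := orderOf_dvd_of_pow_eq_one h'; rw [e] at this; norm_num at this
    have hsq : u ^ 2 = g ^ 2 := central_unique h T ((T : Subgroup G).pow_mem hu 2) hu1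
      ((T : Subgroup G).pow_mem hg 2) hg1 (fun t ht => sq_central h T hu e ht) hgc
    have hz := orderOf_central h T ((T : Subgroup G).pow_mem hg 2) hg1 hgc
    have h2 := fiber_four h hz
    have hne : g ≠ g⁻¹ := fun e' => hg1 (by rw [pow_two]; nth_rw 2 [e']; rw [mul_inv_cancel])
    let F := {x : G // orderOf x = 4 ∧ x ^ 2 = g ^ 2}
    haveI := Fintype.ofFinite F
    let a : F := ⟨g, hg4, rfl⟩
    let b : F := ⟨g⁻¹, by rw [orderOf_inv, hg4], by
      rw [inv_pow, inv_eq_iff_mul_eq_one, ← pow_add]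
      show g ^ 4 = 1
      rw [← hg4, pow_orderOf_eq_one]⟩
    let c : F := ⟨u, e, hsq⟩
    have h3 : ({a, b, c} : Finset F).card = 3 := Finset.card_eq_three.2 ⟨a, b, c,
      fun e' => hne (congrArg Subtype.val e'),
      fun e' => hug ((show u = g from (congrArg Subtype.val e').symm) ▸ mem_zpowers g),
      fun e' => hug ((show u = g⁻¹ from (congrArg Subtype.val e').symm) ▸ inv_mem (mem_zpowers g)), rfl⟩
    have := h3 ▸ Finset.card_le_univ ({a, b, c} : Finset F)
    rw [← Nat.card_eq_fintype_card, show Nat.card F = 2 from h2] at this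
    omega
  · rw [e] at hd; norm_num at hd

theorem dihedral [Fact (Nat.Prime 2)] (T : Sylow 2 G) :
    Nonempty (↥(T : Subgroup G) ≃* DihedralGroup 4) := by
  obtain ⟨g, t, hg, hg4, ht, htg, hout⟩ := exists_gens h T
  have htgm : t * g ∉ zpowers g := fun hm => htg <|
    ((mul_mem_zpowers_iff h T hg hg4 ht hg).1 hm).2 (mem_zpowers g)
  have ht2 := hout t ht htg
  have htg2 := hout _ ((T : Subgroup G).mul_mem ht hg) htgm
  have hne : t ≠ t * g := fun e => by
    rw [left_eq_mul] at e
    rw [e, orderOf_one] at hg4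
    norm_num at hg4
  have htt : t * t = 1 := by rw [← pow_two, ← ht2, pow_orderOf_eq_one]
  have hprod : t * (t * g) = g := by rw [← mul_assoc, htt, one_mul]
  obtain ⟨e⟩ := Cfsg.Agent.S0206.result t (t * g) ht2 htg2 hne
  rw [hprod, hg4] at e
  set D := closure ({t, t * g} : Set G) with hD
  have hDT : D ≤ (T : Subgroup G) := by
    rw [hD, closure_le]
    rintro y (rfl | rfl)
    exacts [ht, (T : Subgroup G).mul_mem ht hg]
  have hDT' : D = (T : Subgroup G) := by
    refine eq_of_le_of_card_ge hDT ?_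
    rw [Nat.card_congr e.toEquiv, DihedralGroup.nat_card, card_sylow2 h]
  exact ⟨(MulEquiv.subgroupCongr hDT'.symm).trans e⟩

/-- The four-group generated by two commuting involutions. -/
def four (z u : G) (hz : z * z = 1) (hu : u * u = 1) (hc : z * u = u * z) : Subgroup G where
  carrier := {1, z, u, z * u}
  one_mem' := Or.inl rfl
  mul_mem' := by
    have h1 : ∀ a, z * (z * a) = a := fun a => by rw [← mul_assoc, hz, one_mul]
    have h2 : ∀ a, u * (u * a) = a := fun a => by rw [← mul_assoc, hu, one_mul]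
    have h3 : ∀ a, u * (z * a) = z * (u * a) := fun a => by rw [← mul_assoc, ← hc, mul_assoc]
    rintro a b (rfl | rfl | rfl | rfl) (rfl | rfl | rfl | rfl) <;>
      simp [mul_assoc, hz, hu, h1, h2, h3, ← hc]
  inv_mem' := by
    rintro a (rfl | rfl | rfl | rfl)
    · simp
    · right; left; exact inv_eq_of_mul_eq_one_right hz
    · right; right; left; exact inv_eq_of_mul_eq_one_right hu
    · right; right; right
      show (z * u)⁻¹ = z * u
      rw [mul_inv_rev, inv_eq_of_mul_eq_one_right hz, inv_eq_of_mul_eq_one_right hu, hc]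

omit h in
theorem klein_iff {U : Subgroup G} :
    IsKleinFour ↥U ↔ Nat.card U = 4 ∧ ∀ x ∈ U, x * x = 1 := by
  constructor
  · intro hU
    refine ⟨hU.card_four, fun x hx => ?_⟩
    have := Monoid.pow_exponent_eq_one (⟨x, hx⟩ : U)
    rw [hU.exponent_two, pow_two] at this
    exact congrArg Subtype.val this
  · rintro ⟨h4, hsq⟩
    haveI : Nontrivial U := Finite.one_lt_card_iff_nontrivial.1 (by rw [h4]; norm_num)
    refine ⟨h4, ?_⟩
    have hdvd : Monoid.exponent U ∣ 2 := Monoid.exponent_dvd_of_forall_pow_eq_one fun x => by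
      rw [pow_two]; exact Subtype.ext (hsq x x.2)
    exact ((Nat.dvd_prime Nat.prime_two).1 hdvd).resolve_left
      fun e => not_subsingleton U (Monoid.exp_eq_one_iff.1 e)

/-- The Klein four-groups in a Sylow 2-subgroup. -/
theorem klein_in_sylow [Fact (Nat.Prime 2)] (T : Sylow 2 G) :
    ∃ U W : Subgroup G, U ≠ W ∧ U ≤ (T : Subgroup G) ∧ W ≤ (T : Subgroup G) ∧ IsKleinFour ↥U ∧
      IsKleinFour ↥W ∧ (U.subgroupOf (T : Subgroup G)).index = 2 ∧
      (W.subgroupOf (T : Subgroup G)).index = 2 ∧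
      ∀ V : Subgroup G, V ≤ (T : Subgroup G) → IsKleinFour ↥V → V = U ∨ V = W := by
  classical
  obtain ⟨g, t, hg, hg4, ht, htg, hout⟩ := exists_gens h T
  set z := g ^ 2 with hz
  have hz1 : z ≠ 1 := fun e => by
    have := orderOf_dvd_of_pow_eq_one e; rw [hg4] at this; norm_num at this
  have hzg : z ∈ zpowers g := pow_mem (mem_zpowers g) 2
  have hzT : z ∈ (T : Subgroup G) := (T : Subgroup G).pow_mem hg 2
  have hzz : z * z = 1 := by
    rw [hz, ← pow_add]; show g ^ 4 = 1
    rw [← hg4, pow_orderOf_eq_one]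
  have hcz : ∀ u ∈ (T : Subgroup G), z * u = u * z := fun u hu => (sq_central h T hg hg4 hu).symm
  have htg' : t * g ∈ (T : Subgroup G) := (T : Subgroup G).mul_mem ht hg
  have htgm : t * g ∉ zpowers g := fun hm => htg <|
    ((mul_mem_zpowers_iff h T hg hg4 ht hg).1 hm).2 (mem_zpowers g)
  have hsq : ∀ u ∈ (T : Subgroup G), u ∉ zpowers g → u * u = 1 := fun u hu hug => by
    rw [← pow_two, ← hout u hu hug, pow_orderOf_eq_one]
  let K : ∀ u ∈ (T : Subgroup G), u ∉ zpowers g → Subgroup G := fun u hu hug =>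
    four z u hzz (hsq u hu hug) (hcz u hu)
  have hKT : ∀ u hu hug, K u hu hug ≤ (T : Subgroup G) := by
    intro u hu hug x hx
    rcases hx with rfl | rfl | rfl | rfl
    exacts [one_mem _, hzT, hu, mul_mem hzT hu]
  have hne4 : ∀ u : G, u ∉ zpowers g → ∀ v ∈ zpowers g, z * u ≠ v := fun u hug v hv e =>
    hug (by
      have : u = z⁻¹ * v := by rw [← e, inv_mul_cancel_left]
      rw [this]; exact mul_mem (inv_mem hzg) hv)
  have hKK : ∀ u hu hug, IsKleinFour ↥(K u hu hug) := by
    intro u hu hug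
    rw [klein_iff]
    refine ⟨?_, ?_⟩
    · show Nat.card ({1, z, u, z * u} : Set G) = 4
      rw [Nat.card_coe_set_eq, Set.ncard_insert_of_notMem _ (Set.toFinite _),
        Set.ncard_insert_of_notMem _ (Set.toFinite _), Set.ncard_pair]
      · intro e; exact hz1 (by simpa using (right_eq_mul.1 e))
      · rintro (e | e)
        · exact hug (e ▸ hzg)
        · exact hne4 u hug z hzg (Eq.symm e)
      · rintro (e | e | e)
        · exact hz1 e.symm
        · exact hug (e ▸ one_mem _)
        · exact hne4 u hug 1 (one_mem _) (Eq.symm e)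
    · rintro x (rfl | rfl | rfl | rfl)
      · exact one_mul 1
      · exact hzz
      · exact hsq _ hu hug
      · exact hsq _ (mul_mem hzT hu) fun hm => hne4 u hug _ hm rfl
  have hidx : ∀ V : Subgroup G, V ≤ (T : Subgroup G) → IsKleinFour ↥V →
      (V.subgroupOf (T : Subgroup G)).index = 2 := fun V hV hVK => by
    have h1 := relIndex_mul_relIndex ⊥ V (T : Subgroup G) bot_le hV
    rw [relIndex_bot_left, relIndex_bot_left, hVK.card_four, card_sylow2 h] at h1
    show V.relIndex (T : Subgroup G) = 2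
    omega
  refine ⟨K t ht htg, K (t * g) htg' htgm, ?_, hKT t ht htg, hKT (t * g) htg' htgm, hKK t ht htg,
    hKK (t * g) htg' htgm, hidx _ (hKT t ht htg) (hKK t ht htg),
    hidx _ (hKT (t * g) htg' htgm) (hKK (t * g) htg' htgm), ?_⟩
  · intro e
    have hm : t * g ∈ K t ht htg := by rw [e]; exact Or.inr (Or.inr (Or.inl rfl))
    rcases hm with e' | e' | e' | e'
    · exact htgm (e' ▸ one_mem _)
    · exact htgm (e' ▸ hzg)
    · have : g = 1 := mul_left_cancel (e'.trans (mul_one t).symm)
      rw [this, orderOf_one] at hg4; norm_num at hg4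
    · rw [hcz t ht] at e'
      have h1 : g = z := mul_left_cancel e'
      rw [hz, pow_two, left_eq_mul] at h1
      rw [h1, orderOf_one] at hg4; norm_num at hg4
  intro V hV hVK
  obtain ⟨-, hVsq⟩ := klein_iff.1 hVK
  have hord : ∀ x ∈ zpowers g, x * x = 1 → x = 1 ∨ x = z := by
    intro x hx hxx
    rw [← mem_powers_iff_mem_zpowers, Submonoid.mem_powers_iff] at hx
    obtain ⟨k, rfl⟩ := hx
    have hd : orderOf g ∣ k + k := orderOf_dvd_of_pow_eq_one (by rw [pow_add]; exact hxx)
    rw [hg4] at hd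
    rcases Nat.even_or_odd k with ⟨j, hj⟩ | ⟨j, hj⟩
    · rcases Nat.even_or_odd j with ⟨i, hi⟩ | ⟨i, hi⟩
      · left; rw [hj, hi, show i + i + (i + i) = orderOf g * i by rw [hg4]; ring, pow_mul,
          pow_orderOf_eq_one, one_pow]
      · right; rw [hj, hi, show 2 * i + 1 + (2 * i + 1) = orderOf g * i + 2 by rw [hg4]; ring, pow_add,
          pow_mul, pow_orderOf_eq_one, one_pow, one_mul]
    · omega
  obtain ⟨u, huV, hug⟩ : ∃ u ∈ V, u ∉ zpowers g := by
    by_contra hno
    push Not at hno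
    have hsub : (V : Set G) ⊆ {1, z} := fun x hx => hord x (hno x hx) (hVsq x hx)
    have hle := Set.ncard_le_ncard hsub (Set.toFinite _)
    rw [← Nat.card_coe_set_eq, show Nat.card (V : Set G) = 4 from hVK.card_four] at hle
    have := Set.ncard_insert_le 1 ({z} : Set G)
    rw [Set.ncard_singleton] at this
    omega
  have huT := hV huV
  have hzV : z ∈ V := by
    by_contra hzV
    have hsub : (V : Set G) ⊆ {1, u} := by
      intro x hx
      by_cases hxg : x ∈ zpowers g
      · rcases hord x hxg (hVsq x hx) with e | e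
        · exact Or.inl e
        · exact absurd (e ▸ hx) hzV
      · have hp : u * x ∈ zpowers g :=
          (mul_mem_zpowers_iff h T hg hg4 huT (hV hx)).2 (iff_of_false hug hxg)
        rcases hord _ hp (hVsq _ (mul_mem huV hx)) with e | e
        · right
          rw [Set.mem_singleton_iff, eq_comm]
          calc u = u * (x * x) := by rw [hVsq x hx, mul_one]
            _ = x := by rw [← mul_assoc, e, one_mul]
        · exact absurd (e ▸ mul_mem huV hx) hzV
    have hle := Set.ncard_le_ncard hsub (Set.toFinite _)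
    rw [← Nat.card_coe_set_eq, show Nat.card (V : Set G) = 4 from hVK.card_four] at hle
    have := Set.ncard_insert_le 1 ({u} : Set G)
    rw [Set.ncard_singleton] at this
    omega
  have hle : ∀ w hw hwg, w ∈ V → V = K w hw hwg := by
    intro w hw hwg hwV
    refine (eq_of_le_of_card_ge ?_ (by rw [hVK.card_four, (hKK w hw hwg).card_four])).symm
    intro x hx
    rcases hx with rfl | rfl | rfl | rfl
    exacts [one_mem _, hzV, hwV, mul_mem hzV hwV]
  have hp : t * u ∈ zpowers g := (mul_mem_zpowers_iff h T hg hg4 ht huT).2 (iff_of_false htg hug)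
  rw [← mem_powers_iff_mem_zpowers, Submonoid.mem_powers_iff] at hp
  obtain ⟨k, hk⟩ := hp
  have hu : u = t * g ^ k := by rw [hk, ← mul_assoc, hsq t ht htg, one_mul]
  rcases Nat.even_or_odd k with ⟨j, hj⟩ | ⟨j, hj⟩
  · left
    refine hle t ht htg ?_
    have : t = u * (z ^ j)⁻¹ := by
      rw [hu, hz, ← pow_mul, show 2 * j = k by omega, mul_inv_cancel_right]
    rw [this]
    exact mul_mem huV (inv_mem (pow_mem hzV j))
  · right
    refine hle (t * g) htg' htgm ?_
    have : t * g = u * (z ^ j)⁻¹ := by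
      rw [hu, show g ^ k = g * (g ^ 2) ^ j by rw [← pow_mul, hj, pow_succ'], ← hz, ← mul_assoc,
        mul_inv_cancel_right]
    rw [this]
    exact mul_mem huV (inv_mem (pow_mem hzV j))

theorem klein_not_conj [Fact (Nat.Prime 2)] (T : Sylow 2 G) {U W : Subgroup G}
    (hU : U ≤ (T : Subgroup G)) (hW : W ≤ (T : Subgroup G)) (hUK : IsKleinFour ↥U)
    (hWK : IsKleinFour ↥W) (hne : U ≠ W) (g : G) : U.map (MulAut.conj g).toMonoidHom ≠ W := by
  intro e
  obtain ⟨U₀, W₀, -, -, -, -, -, hi, hi', hall⟩ := klein_in_sylow h T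
  have hTN : ∀ V : Subgroup G, V ≤ (T : Subgroup G) → IsKleinFour ↥V →
      (T : Subgroup G) ≤ normalizer (V : Set G) := fun V hV hVK => by
    haveI : (V.subgroupOf (T : Subgroup G)).Normal := normal_of_index_eq_two (by
      rcases hall V hV hVK with rfl | rfl
      exacts [hi, hi'])
    exact (normal_subgroupOf_iff_le_normalizer hV).1 inferInstance
  have h1 : ((g • T : Sylow 2 G) : Subgroup G) ≤ normalizer (W : Set G) := by
    rw [Sylow.coe_subgroup_smul, ← e, ← map_equiv_normalizer_eq U (MulAut.conj g)]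
    rintro _ ⟨y, hy, rfl⟩
    exact ⟨y, hTN U hU hUK hy, rfl⟩
  have h2 := hTN W hW hWK
  obtain ⟨n, hn⟩ := MulAction.exists_smul_eq (normalizer (W : Set G))
    ((g • T).subtype h1) (T.subtype h2)
  rw [Sylow.smul_subtype] at hn
  have h3 : ((n : G) • (g • T) : Sylow 2 G) = T := Sylow.subtype_injective hn
  rw [smul_smul] at h3
  have h4 : (n : G) * g ∈ (T : Subgroup G) := by
    have := Sylow.smul_eq_iff_mem_normalizer.1 h3
    exact (normalizer2 h T).le this
  apply hne
  have h5 := hTN U hU hUK h4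
  ext x
  rw [mem_normalizer_iff.1 h5 x]
  have h6 := n.2
  constructor
  · intro hx
    have : g * x * g⁻¹ ∈ W := by
      have hx' : x ∈ U := (mem_normalizer_iff.1 h5 x).2 hx
      rw [← e]; exact ⟨x, hx', rfl⟩
    have hh := (mem_normalizer_iff.1 h6 _).1 this
    rw [show (n : G) * (g * x * g⁻¹) * (n : G)⁻¹ = (n : G) * g * x * ((n : G) * g)⁻¹ by group] at hh
    exact (mem_normalizer_iff.1 (hTN W hW hWK h4) x).2 hh
  · intro hx
    have hh := (mem_normalizer_iff.1 (hTN W hW hWK h4) x).1 hx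
    rw [show (n : G) * g * x * ((n : G) * g)⁻¹ = (n : G) * (g * x * g⁻¹) * (n : G)⁻¹ by group] at hh
    have := (mem_normalizer_iff.1 h6 _).2 hh
    rw [← e] at this
    obtain ⟨y, hy, hyx⟩ := this
    have : y = x := (MulAut.conj g).injective hyx
    subst this
    exact (mem_normalizer_iff.1 h5 y).1 hy

end Cfsg.Agent.SmallSimple.Order168
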